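import Cfsg.Agent.ClassicalMax.DecOrth.Basic

/-!
Orthogonal decompositions in any characteristic: projections to the members, vectors inside a member, the moves
available in an overgroup of the stabiliser, and isometries permuting the members.
-/

set_option autoImplicit false
set_option linter.unusedSectionVars false
set_option linter.style.haveILetI false

namespace Cfsg.Agent.ClassicalMax.DecAny

open Module QuadraticMap Cfsg.Agent.Classical Cfsg.Agent.Classical.Quad Cfsg.Agent.ClassicalMax.RootPlanes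
open Cfsg.Agent.ClassicalMax.DecOrth (In Maps Q_sum_orth Over hyp_span)
open scoped commutatorElement

variable {F V : Type*} [Field F] [Finite F] [AddCommGroup V] [Module F V] [FiniteDimensional F V]
  {Q : QuadraticForm F V} {t : ℕ} {D : Fin t → Submodule F V} {H : Subgroup (oG Q)}

/-- an orthogonal decomposition into non-degenerate members of equal dimension -/
structure Pre (Q : QuadraticForm F V) (D : Fin t → Submodule F V) : Prop where
  nd : (polarBilin Q).Nondegenerate
  top : iSup D = ⊤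
  perp : ∀ i j, i ≠ j → ∀ x ∈ D i, ∀ y ∈ D j, polar Q x y = 0
  ndD : ∀ i, NdOn Q (D i)
  eqdim : ∀ i j, finrank F (D i) = finrank F (D j)
  dimV : 5 ≤ finrank F V

/-- the orthogonal projection onto a member -/
noncomputable def pr (h : Pre Q D) (i : Fin t) : V →ₗ[F] V :=
  (D i).subtype ∘ₗ (LinearMap.BilinForm.toDual (polarBilin (Q.comp (D i).subtype)) (h.ndD i).comp).symm.toLinearMap ∘ₗ
    (LinearMap.lcomp F F (D i).subtype).comp (polarBilin Q)

theorem pr_mem (h : Pre Q D) (i : Fin t) (v : V) : pr h i v ∈ D i := Subtype.coe_prop _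

theorem pr_polar (h : Pre Q D) (i : Fin t) (v : V) {z : V} (hz : z ∈ D i) :
    polar Q (pr h i v) z = polar Q v z := by
  have := LinearMap.BilinForm.apply_toDual_symm_apply (hB := (h.ndD i).comp)
    (f := (LinearMap.lcomp F F (D i).subtype) (polarBilin Q v)) ⟨z, hz⟩
  rw [polarBilin_apply_apply] at this
  exact this

theorem pr_unique (h : Pre Q D) {i : Fin t} {v a : V} (ha : a ∈ D i) (hv : ∀ z ∈ D i, polar Q v z = polar Q a z) :
    pr h i v = a :=
  sub_eq_zero.1 (h.ndD i _ ((D i).sub_mem (pr_mem h i v) ha) fun z hz => by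
    rw [polar_sub_left, pr_polar h i v hz, hv z hz, sub_self])

theorem pr_same (h : Pre Q D) {i : Fin t} {x : V} (hx : x ∈ D i) : pr h i x = x := pr_unique h hx fun _ _ => rfl

theorem pr_other (h : Pre Q D) {i j : Fin t} (hij : j ≠ i) {x : V} (hx : x ∈ D j) : pr h i x = 0 :=
  pr_unique h (zero_mem _) fun z hz => by rw [h.perp j i hij x hx z hz]; simp [polar]

theorem ext_pr (h : Pre Q D) {x y : V} (e : ∀ i, pr h i x = pr h i y) : x = y :=
  sub_eq_zero.1 (eq_zero_of_polar h.nd fun z => by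
    have : (⊤ : Submodule F V) ≤ LinearMap.ker (polarBilin Q (x - y)) := h.top ▸ iSup_le fun i w hw => by
      rw [LinearMap.mem_ker, polarBilin_apply_apply, polar_sub_left, ← pr_polar h i x hw, e i, pr_polar h i y hw,
        sub_self]
    simpa using this (Submodule.mem_top (x := z)))

theorem sum_pr (h : Pre Q D) (x : V) : ∑ i, pr h i x = x := ext_pr h fun j => by
  rw [map_sum, Finset.sum_eq_single j (fun i _ hij => pr_other h hij (pr_mem h i x))
    (fun hn => absurd (Finset.mem_univ j) hn), pr_same h (pr_mem h j x)]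

theorem Q_eq_sum (h : Pre Q D) (x : V) : Q x = ∑ i, Q (pr h i x) := by
  conv_lhs => rw [← sum_pr h x]
  exact Q_sum_orth _ (fun i j hij => h.perp i j hij _ (pr_mem h i x) _ (pr_mem h j x)) _

theorem exists_other_aniso (h : Pre Q D) {c : V} (hc : Q c = 0) {i : Fin t} (hi : Q (pr h i c) ≠ 0) :
    ∃ m, m ≠ i ∧ Q (pr h m c) ≠ 0 := by
  by_contra hn
  push Not at hn
  rw [Q_eq_sum h, Finset.sum_eq_single i (fun j _ hj => hn j hj) (fun hn => absurd (Finset.mem_univ i) hn)] at hc
  exact hi hc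

theorem mem_of_pr (h : Pre Q D) {i : Fin t} {x : V} (hx : ∀ j, j ≠ i → pr h j x = 0) : x ∈ D i := by
  have : pr h i x = x := ext_pr h fun j => by
    by_cases hj : j = i
    · subst hj; rw [pr_same h (pr_mem h j x)]
    · rw [pr_other h (Ne.symm hj) (pr_mem h i x), hx j hj]
  exact this ▸ pr_mem h i x

theorem exists_pr_ne (h : Pre Q D) {i : Fin t} {x : V} (hx : x ∉ D i) : ∃ j, j ≠ i ∧ pr h j x ≠ 0 := by
  by_contra hn
  push Not at hn
  exact hx (mem_of_pr h hn)

theorem eq_zero_of_two (h : Pre Q D) {i j : Fin t} (hij : i ≠ j) {x : V} (hi : x ∈ D i) (hj : x ∈ D j) : x = 0 :=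
  (pr_same h hi).symm.trans (pr_other h (Ne.symm hij) hj)

theorem perp_of_pr (h : Pre Q D) {i : Fin t} {c : V} (hc : pr h i c = 0) : ∀ z ∈ D i, polar Q c z = 0 :=
  fun z hz => by rw [← pr_polar h i c hz, hc]; simp [polar]

/-! ### vectors inside a member -/

theorem sep0 (h : Pre Q D) {i : Fin t} {y : V} (hy : y ∈ D i) (hy0 : y ≠ 0) : ∃ w ∈ D i, polar Q y w = 1 := by
  obtain ⟨w, hw⟩ : ∃ w ∈ D i, polar Q y w ≠ 0 := by
    by_contra hn
    push Not at hn
    exact hy0 (h.ndD i y hy hn)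
  exact ⟨(polar Q y w)⁻¹ • w, (D i).smul_mem _ hw.1, by rw [polar_smul_right, smul_eq_mul, inv_mul_cancel₀ hw.2]⟩

theorem sep2' (h : Pre Q D) {i : Fin t} {a b y : V} (ha : a ∈ D i) (hb : b ∈ D i) (hy : y ∈ D i)
    (hn : y ∉ Submodule.span F ({a, b} : Set V)) :
    ∃ w ∈ D i, polar Q a w = 0 ∧ polar Q b w = 0 ∧ polar Q y w = 1 := by
  obtain ⟨w, hw, hyw⟩ := exists_perp h.nd hn
  refine ⟨pr h i w, pr_mem h i w, ?_, ?_, ?_⟩
  · rw [polar_comm, pr_polar h i w ha, polar_comm, hw a (Submodule.subset_span (Or.inl rfl))]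
  · rw [polar_comm, pr_polar h i w hb, polar_comm, hw b (Submodule.subset_span (Or.inr rfl))]
  · rw [polar_comm, pr_polar h i w hy, polar_comm, hyw]

theorem sep1 (h : Pre Q D) {i : Fin t} {a y : V} (ha : a ∈ D i) (hy : y ∈ D i)
    (hn : y ∉ Submodule.span F ({a} : Set V)) : ∃ w ∈ D i, polar Q a w = 0 ∧ polar Q y w = 1 := by
  obtain ⟨w, hw, h1, -, h2⟩ := sep2' h ha ha hy (by simpa using hn)
  exact ⟨w, hw, h1, h2⟩

theorem partner (h : Pre Q D) {i : Fin t} {e : V} (he : e ∈ D i) (he0 : e ≠ 0) (heq : Q e = 0) :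
    ∃ f ∈ D i, Q f = 0 ∧ polar Q e f = 1 := by
  obtain ⟨w, hw, hew⟩ := sep0 h he he0
  refine ⟨w + (-Q w) • e, (D i).add_mem hw ((D i).smul_mem _ he), ?_, ?_⟩
  · rw [map_add_smul, heq, polar_comm, hew]; ring
  · rw [polar_add_right, hew, polar_smul_right, polar_self', heq]; simp

/-- a singular partner perpendicular to a given vector -/
theorem partner' (h : Pre Q D) {i : Fin t} {u f : V} (hu : u ∈ D i) (hf : f ∈ D i) (hfq : Q f = 0)
    (huf : polar Q u f = 0) (hn : f ∉ Submodule.span F ({u} : Set V)) :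
    ∃ g ∈ D i, Q g = 0 ∧ polar Q u g = 0 ∧ polar Q f g = 1 := by
  obtain ⟨w, hw, huw, hfw⟩ := sep1 h hu hf hn
  refine ⟨w + (-Q w) • f, (D i).add_mem hw ((D i).smul_mem _ hf), ?_, ?_, ?_⟩
  · rw [map_add_smul, hfq, polar_comm, hfw]; ring
  · rw [polar_add_right, huw, polar_smul_right, huf]; simp
  · rw [polar_add_right, hfw, polar_smul_right, polar_self', hfq]; simp

/-! ### moves -/

theorem sO_block (h : Pre Q D) (hO : Over D H) {i : Fin t} {f x : V} (hf : f ∈ D i) (hx : x ∈ D i) (hfq : Q f = 0)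
    (hfx : polar Q f x = 0) : sO hfq hfx ∈ H := by
  refine hO.blocks _ (sO_mem_commutator h.nd (Or.inr ?_) _ _) fun j y hy => ?_
  · have := h.dimV
    omega
  · rw [sO_apply]
    by_cases hji : j = i
    · subst hji
      exact (D j).add_mem ((D j).add_mem ((D j).add_mem hy ((D j).smul_mem _ hf)) ((D j).smul_mem _ hx))
        ((D j).smul_mem _ hf)
    · rw [h.perp j i hji y hy x hx, h.perp j i hji y hy f hf]
      simpa using hy

theorem block (h : Pre Q D) (hO : Over D H) {i : Fin t} {f x : V} (hf : f ∈ D i) (hx : x ∈ D i) (hfq : Q f = 0)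
    (hfx : polar Q f x = 0) : In H f x :=
  ⟨hfq, hfx, fun _ _ => sO_block h hO hf ((D i).smul_mem _ hx) hfq _⟩

/-- the move by a Siegel transformation of a member -/
theorem siegel (h : Pre Q D) (hO : Over D H) {i : Fin t} {c d f x : V} (hcd : In H c d) (hf : f ∈ D i)
    (hx : x ∈ D i) (hfq : Q f = 0) (hfx : polar Q f x = 0) (hcf : polar Q c f = 0) (hcx : polar Q c x = 0) :
    In H c (polar Q d x • f - polar Q d f • x - (Q x * polar Q d f) • f) := by
  have h1 := hcd.conj (sO_block h hO hf hx hfq hfx)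
  have hc : (sO hfq hfx).1 c = c := by rw [sO_apply, hcf, hcx]; simp
  rw [hc] at h1
  have h2 := h1.sub hcd
  have e : polar Q d x • f - polar Q d f • x - (Q x * polar Q d f) • f = (sO hfq hfx).1 d - d := by
    rw [sO_apply]; module
  rwa [e]

/-! ### permutations of the members -/

theorem Maps.inv (h : Pre Q D) {g : oG Q} {σ : Equiv.Perm (Fin t)} (hg : Maps D g.1 σ) : Maps D (g⁻¹).1 σ.symm := by
  intro i x hx
  have hmap := map_eq_of_le (h.eqdim (σ.symm i) (σ (σ.symm i))) (hg (σ.symm i))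
  rw [Equiv.apply_symm_apply] at hmap
  rw [← hmap] at hx
  obtain ⟨y, hy, rfl⟩ := hx
  rw [LinearEquiv.coe_coe, oG_inv_apply]
  exact hy

/-- an isometry permuting the members in a prescribed way -/
theorem exists_perm (h : Pre Q D) (hiso : ∀ i j, ∃ ψ : D i ≃ₗ[F] D j, ∀ x : D i, Q (ψ x : V) = Q (x : V))
    (σ : Equiv.Perm (Fin t)) : ∃ g : oG Q, Maps D g.1 σ := by
  choose ψ hψ using hiso
  let f : V →ₗ[F] V := ∑ i, (D (σ i)).subtype ∘ₗ (ψ i (σ i)).toLinearMap ∘ₗ (pr h i).codRestrict (D i) (pr_mem h i)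
  have hf : ∀ x, f x = ∑ i, ((ψ i (σ i) ⟨pr h i x, pr_mem h i x⟩ : D (σ i)) : V) := fun x => by
    simp only [f, LinearMap.sum_apply, LinearMap.comp_apply]
    rfl
  have hQ : ∀ x, Q (f x) = Q x := fun x => by
    rw [hf, Q_sum_orth _ (fun i j hij => h.perp _ _ (fun e => hij (σ.injective e)) _ (Subtype.coe_prop _) _
      (Subtype.coe_prop _)), Q_eq_sum h x]
    exact Finset.sum_congr rfl fun i _ => hψ i (σ i) _
  have hinj : Function.Injective f := fun x y e => sub_eq_zero.1 (eq_zero_of_polar h.nd fun z => by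
    have h0 : f (x - y) = 0 := by rw [map_sub, e, sub_self]
    have : polar Q (x - y) z = polar Q (f (x - y)) (f z) := by simp only [polar, ← map_add, hQ]
    rw [this, h0]; simp [polar])
  refine ⟨⟨LinearEquiv.ofInjectiveEndo f hinj, hQ⟩, fun i x hx => ?_⟩
  show f x ∈ D (σ i)
  rw [hf, Finset.sum_eq_single i (fun j _ hj => ?_) (fun hn => absurd (Finset.mem_univ i) hn)]
  · exact Subtype.coe_prop _
  · have : (⟨pr h j x, pr_mem h j x⟩ : D j) = 0 := Subtype.ext (pr_other h (Ne.symm hj) hx)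
    rw [this, map_zero]; rfl

/-- three-cycles of members in the derived group -/
theorem exists_cycle (h : Pre Q D) (hiso : ∀ i j, ∃ ψ : D i ≃ₗ[F] D j, ∀ x : D i, Q (ψ x : V) = Q (x : V))
    {a b c : Fin t} (hab : a ≠ b) (hbc : b ≠ c) (hac : a ≠ c) :
    ∃ g ∈ commutator (oG Q), ∃ σ : Equiv.Perm (Fin t), Maps D g.1 σ ∧ σ a = b ∧ σ b = c ∧ σ c = a ∧
      ∀ o, o ≠ a → o ≠ b → o ≠ c → σ o = o := by
  obtain ⟨s, hs⟩ := exists_perm h hiso (Equiv.swap a c)
  obtain ⟨u, hu⟩ := exists_perm h hiso (Equiv.swap c b)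
  refine ⟨⁅s, u⁆, Subgroup.commutator_mem_commutator (Subgroup.mem_top _) (Subgroup.mem_top _),
    (Equiv.swap c b).symm.trans ((Equiv.swap a c).symm.trans ((Equiv.swap c b).trans (Equiv.swap a c))),
    fun i x hx => ?_, ?_, ?_, ?_, fun o h1 h2 h3 => ?_⟩
  · rw [commutatorElement_def]
    simp only [oG_mul_apply, Equiv.trans_apply]
    exact hs _ _ (hu _ _ (Maps.inv h hs _ _ (Maps.inv h hu _ _ hx)))
  iterate 3 simp [Equiv.swap_apply_def, hab, hbc, hac, hab.symm, hbc.symm, hac.symm]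
  simp [Equiv.swap_apply_def, h1, h2, h3]

end Cfsg.Agent.ClassicalMax.DecAny
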