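import Cfsg.Agent.ClassicalMax.DecAny.PlaneBase

/-!
Elements of the stabiliser of a decomposition into planes: products of four reflections in the derived group, the
exchange of two hyperbolic planes, and pairs of vectors of opposite values avoiding two lines.
-/

set_option autoImplicit false
set_option linter.unusedSectionVars false
set_option linter.style.haveILetI false

namespace Cfsg.Agent.ClassicalMax.DecAny

open Module QuadraticMap Cfsg.Agent.Classical Cfsg.Agent.Classical.Quad Cfsg.Agent.ClassicalMax.RootPlanes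
open Cfsg.Agent.ClassicalMax.DecOrth (In Maps)

variable {F V : Type*} [Field F] [Finite F] [AddCommGroup V] [Module F V] [FiniteDimensional F V]
  {Q : QuadraticForm F V} {t : ℕ} {D : Fin t → Submodule F V} {H : Subgroup (oG Q)}

theorem two_ne_of_nonsquare (h1 : ¬ IsSquare (-1 : F)) : (2 : F) ≠ 0 := fun h2 =>
  h1 ⟨1, by linear_combination -h2⟩

theorem rO_commute {c d : V} (hc : Q c ≠ 0) (hd : Q d ≠ 0) (hcd : polar Q c d = 0) :
    rO hc * rO hd = rO hd * rO hc := by
  refine ext_oG fun x => ?_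
  simp only [oG_mul_apply, rO_apply, polar_sub_left, polar_smul_left, hcd, polar_comm Q d c, smul_zero, sub_zero]
  abel

/-- four reflections with values in two square classes, each twice -/
theorem four_comm (hnd : (polarBilin Q).Nondegenerate) {a b c d : V} (ha : Q a ≠ 0) (hb : Q b ≠ 0) (hc : Q c ≠ 0)
    (hd : Q d ≠ 0) {s r : F} (hac : Q c = s * s * Q a) (hbd : Q d = r * r * Q b) :
    rO ha * rO hb * (rO hc * rO hd) ∈ commutator (oG Q) := by
  have e : rO ha * rO hb * (rO hc * rO hd) = rO ha * rO hc * (rO hc * rO hb * (rO hc)⁻¹ * rO hd) := by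
    rw [rO_inv, show rO ha * rO hc * (rO hc * rO hb * rO hc * rO hd) =
      rO ha * (rO hc * rO hc) * rO hb * rO hc * rO hd by group, rO_mul_self, mul_one]
    group
  rw [e, conj_rO]
  exact mul_mem (rO_mul_mem_commutator hnd ha hc hac)
    (rO_mul_mem_commutator hnd _ hd (t := r) (by rw [(rO hc).2, hbd]))

/-- two pairs of opposite values -/
theorem four_opp (hnd : (polarBilin Q).Nondegenerate) (h1 : ¬ IsSquare (-1 : F)) {a b c d : V} (ha : Q a ≠ 0)
    (hb : Q b ≠ 0) (hc : Q c ≠ 0) (hd : Q d ≠ 0) (hab : Q b = -Q a) {s : F} (hcd : Q d = -(s * s * Q c))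
    (hperp : polar Q c d = 0) : rO ha * rO hb * (rO hc * rO hd) ∈ commutator (oG Q) := by
  rcases square_or_div_square h1 (show Q c / Q a ≠ 0 from div_ne_zero hc ha) with ⟨r, hr⟩ | ⟨r, hr⟩
  · have hr0 : r ≠ 0 := fun e => by rw [e] at hr; simp at hr
    refine four_comm hnd ha hb hc hd (s := r⁻¹) (r := s * r⁻¹) ?_ ?_ <;> field_simp at hr ⊢
    · linear_combination hr
    · rw [hcd, hab]; linear_combination -(s ^ 2) * hr
  · have hr0 : r ≠ 0 := fun e => by rw [e] at hr; simp at hr
    rw [rO_commute hc hd hperp]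
    refine four_comm hnd ha hb hd hc (s := s * r⁻¹) (r := r⁻¹) ?_ ?_ <;> field_simp at hr ⊢
    · rw [hcd]; linear_combination -(s ^ 2) * hr
    · rw [hab]; linear_combination hr

/-- a hyperbolic pair fitting a given vector -/
theorem hyp_for (h : Plane Q D) {i : Fin t} (hs : ∃ f ∈ D i, f ≠ 0 ∧ Q f = 0) {c : V} (hc : c ∈ D i) (hc0 : c ≠ 0) :
    ∃ e ∈ D i, ∃ f ∈ D i, Q e = 0 ∧ Q f = 0 ∧ polar Q e f = 1 ∧ c = e + Q c • f := by
  obtain ⟨e, he, he0, heq⟩ := hs
  obtain ⟨f, hf, hfq, hef⟩ := partner h.toPre he he0 heq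
  have hfe : f ∉ Submodule.span F ({e} : Set V) := fun hm => by
    obtain ⟨r, rfl⟩ := Submodule.mem_span_singleton.1 hm
    rw [polar_smul_right, polar_self', heq] at hef
    simp at hef
  obtain ⟨α, β, hce⟩ := span_two h he hf he0 hfe hc
  have hQc : Q c = α * β := by
    rw [← hce, map_add', map_smul', map_smul', polar_smul_left, polar_smul_right, heq, hfq, hef, smul_eq_mul,
      smul_eq_mul]
    ring
  rcases eq_or_ne α 0 with hα | hα
  · have hβ : β ≠ 0 := fun hβ => hc0 (by rw [← hce, hα, hβ]; simp)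
    exact ⟨β • f, (D i).smul_mem _ hf, β⁻¹ • e, (D i).smul_mem _ he, by rw [map_smul', hfq, mul_zero],
      by rw [map_smul', heq, mul_zero],
      by rw [polar_smul_left, polar_smul_right, polar_comm, hef, smul_eq_mul, smul_eq_mul]; field_simp,
      by rw [hQc, ← hce, hα]; simp⟩
  · refine ⟨α • e, (D i).smul_mem _ he, α⁻¹ • f, (D i).smul_mem _ hf, by rw [map_smul', heq, mul_zero],
      by rw [map_smul', hfq, mul_zero],
      by rw [polar_smul_left, polar_smul_right, hef, smul_eq_mul, smul_eq_mul]; field_simp, ?_⟩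
    rw [hQc, ← hce, smul_smul, show α * β * α⁻¹ = β by field_simp]

/-- two hyperbolic planes are exchanged by two orthogonal reflections -/
theorem exchange (h : Plane Q D) (h2 : (2 : F) ≠ 0) {i j : Fin t} (hij : i ≠ j) {e f e' f' : V} (he : e ∈ D i)
    (hf : f ∈ D i) (he' : e' ∈ D j) (hf' : f' ∈ D j) (q1 : Q e = 0) (q2 : Q f = 0) (q3 : Q e' = 0) (q4 : Q f' = 0)
    (p1 : polar Q e f = 1) (p2 : polar Q e' f' = 1) :
    ∃ (d₁ d₂ : V) (h₁ : Q d₁ ≠ 0) (h₂ : Q d₂ ≠ 0), Q d₁ = 2 ∧ Q d₂ = -2 ∧ polar Q d₁ d₂ = 0 ∧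
      Maps D (rO h₁ * rO h₂).1 (Equiv.swap i j) ∧ (rO h₁ * rO h₂).1 e = e' ∧ (rO h₁ * rO h₂).1 f = f' ∧
      (rO h₁ * rO h₂).1 e' = e ∧ (rO h₁ * rO h₂).1 f' = f ∧
      ∀ z, (∀ y ∈ D i, polar Q z y = 0) → (∀ y ∈ D j, polar Q z y = 0) → (rO h₁ * rO h₂).1 z = z := by
  have e11 : polar Q e e = 0 := by rw [polar_self', q1, mul_zero]
  have e22 : polar Q f f = 0 := by rw [polar_self', q2, mul_zero]
  have e33 : polar Q e' e' = 0 := by rw [polar_self', q3, mul_zero]
  have e44 : polar Q f' f' = 0 := by rw [polar_self', q4, mul_zero]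
  have p1' : polar Q f e = 1 := by rw [polar_comm, p1]
  have p2' : polar Q f' e' = 1 := by rw [polar_comm, p2]
  have o : ∀ {y y' : V}, y ∈ D i → y' ∈ D j → polar Q y y' = 0 ∧ polar Q y' y = 0 := fun hy hy' =>
    ⟨h.perp i j hij _ hy _ hy', h.perp j i hij.symm _ hy' _ hy⟩
  have q12 : Q ((e + f) - (e' + f')) = 2 := by
    simp only [sub_eq_add_neg, map_add', QuadraticMap.map_neg, polar_add_left, polar_add_right, polar_neg_right,
      q1, q2, q3, q4, p1, p2, o he he', o he hf', o hf he', o hf hf']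
    ring
  have q22 : Q ((e - f) - (e' - f')) = -2 := by
    simp only [sub_eq_add_neg, map_add', QuadraticMap.map_neg, polar_add_left, polar_add_right, polar_neg_right,
      polar_neg_left, neg_add_rev, neg_neg, q1, q2, q3, q4, p1, p2, p2', o he he', o he hf', o hf he', o hf hf']
    ring
  refine ⟨(e + f) - (e' + f'), (e - f) - (e' - f'), by rw [q12]; exact h2, by rw [q22]; exact neg_ne_zero.2 h2,
    q12, q22, ?_, ?_⟩
  · simp only [polar_sub_left, polar_sub_right, polar_add_left, e11, e22, e33, e44, p1, p1', p2, p2', o he he',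
      o he hf', o hf he', o hf hf']
    ring
  set τ := rO (show Q ((e + f) - (e' + f')) ≠ 0 by rw [q12]; exact h2) *
    rO (show Q ((e - f) - (e' - f')) ≠ 0 by rw [q22]; exact neg_ne_zero.2 h2)
  have a1 : τ.1 e = e' := by
    simp only [τ, oG_mul_apply, rO_apply, q12, q22, polar_sub_left, polar_sub_right, polar_smul_left,
      polar_add_left, polar_add_right, e11, e22, e33, e44, p1, p1', p2, p2', o he he', o he hf', o hf he', o hf hf',
      smul_eq_mul]
    match_scalars <;> field_simp <;> ring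
  have a2 : τ.1 f = f' := by
    simp only [τ, oG_mul_apply, rO_apply, q12, q22, polar_sub_left, polar_sub_right, polar_smul_left,
      polar_add_left, polar_add_right, e11, e22, e33, e44, p1, p1', p2, p2', o he he', o he hf', o hf he', o hf hf',
      smul_eq_mul]
    match_scalars <;> field_simp <;> ring
  have a3 : τ.1 e' = e := by
    simp only [τ, oG_mul_apply, rO_apply, q12, q22, polar_sub_left, polar_sub_right, polar_smul_left,
      polar_add_left, polar_add_right, e11, e22, e33, e44, p1, p1', p2, p2', o he he', o he hf', o hf he', o hf hf',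
      smul_eq_mul]
    match_scalars <;> field_simp <;> ring
  have a4 : τ.1 f' = f := by
    simp only [τ, oG_mul_apply, rO_apply, q12, q22, polar_sub_left, polar_sub_right, polar_smul_left,
      polar_add_left, polar_add_right, e11, e22, e33, e44, p1, p1', p2, p2', o he he', o he hf', o hf he', o hf hf',
      smul_eq_mul]
    match_scalars <;> field_simp <;> ring
  have hfix : ∀ z, (∀ y ∈ D i, polar Q z y = 0) → (∀ y ∈ D j, polar Q z y = 0) → τ.1 z = z := fun z hi hj => by
    simp only [τ, oG_mul_apply, rO_apply, polar_sub_left, polar_sub_right, polar_smul_left, polar_add_right,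
      hi e he, hi f hf, hj e' he', hj f' hf']
    simp
  refine ⟨?_, a1, a2, a3, a4, hfix⟩
  intro k z hz
  have hne : ∀ {p : Fin t} {x y : V}, polar Q x y = 1 → Q x = 0 → x ∈ D p → x ≠ 0 ∧
      y ∉ Submodule.span F ({x} : Set V) := fun {p x y} hxy hx _ => ⟨fun e' => by rw [e'] at hxy; simp [polar] at hxy,
    fun hm => by
      obtain ⟨r, rfl⟩ := Submodule.mem_span_singleton.1 hm
      rw [polar_smul_right, polar_self', hx] at hxy
      simp at hxy⟩
  rcases eq_or_ne k i with rfl | hki
  · rw [Equiv.swap_apply_left]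
    obtain ⟨α, β, rfl⟩ := span_two h he hf (hne p1 q1 he).1 (hne p1 q1 he).2 hz
    rw [map_add, map_smul, map_smul, a1, a2]
    exact (D j).add_mem ((D j).smul_mem _ he') ((D j).smul_mem _ hf')
  rcases eq_or_ne k j with rfl | hkj
  · rw [Equiv.swap_apply_right]
    obtain ⟨α, β, rfl⟩ := span_two h he' hf' (hne p2 q3 he').1 (hne p2 q3 he').2 hz
    rw [map_add, map_smul, map_smul, a3, a4]
    exact (D i).add_mem ((D i).smul_mem _ he) ((D i).smul_mem _ hf)
  rw [Equiv.swap_apply_of_ne_of_ne hki hkj, hfix z (fun y hy => h.perp k i hki z hz y hy)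
    fun y hy => h.perp k j hkj z hz y hy]
  exact hz

/-- orthogonal bases of two members have equal discriminants -/
theorem disc_pair (h : Plane Q D) (h2 : (2 : F) ≠ 0) {i j : Fin t} {a n b m : V} (ha : a ∈ D i) (hn : n ∈ D i) (hb : b ∈ D j)
    (hm : m ∈ D j) (haq : Q a ≠ 0) (hn0 : n ≠ 0) (han : polar Q a n = 0) (hbq : Q b ≠ 0) (hbm : polar Q b m = 0) :
    ∃ k : F, Q m = k * k * (Q a * Q n * Q b) := by
  obtain ⟨ψ, hψ⟩ := h.iso i j
  set a' := (ψ ⟨a, ha⟩ : V) with ha'
  set n' := (ψ ⟨n, hn⟩ : V) with hn'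
  have qa : Q a' = Q a := hψ _
  have qn : Q n' = Q n := hψ _
  have hma : a' ∈ D j := Subtype.coe_prop _
  have hmn : n' ∈ D j := Subtype.coe_prop _
  have pan : polar Q a' n' = 0 := by
    have hs : (ψ (⟨a, ha⟩ + ⟨n, hn⟩) : V) = a' + n' := by rw [map_add]; rfl
    have e1 := hψ (⟨a, ha⟩ + ⟨n, hn⟩)
    rw [hs, map_add'] at e1
    simp only [Submodule.coe_add, map_add', han, qa, qn] at e1
    linear_combination e1
  have hqn := perp_aniso h ha hn haq hn0 han
  have ha'0 : a' ≠ 0 := fun e => haq (by rw [← qa, e, map_zero])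
  have hna : n' ∉ Submodule.span F ({a'} : Set V) := fun hmem => by
    obtain ⟨r, hr⟩ := Submodule.mem_span_singleton.1 hmem
    have e1 : r * polar Q a' a' = 0 := by rw [← smul_eq_mul, ← polar_smul_right, hr, pan]
    have e2 : Q n = r * r * Q a := by rw [← qn, ← hr, map_smul', qa]
    rw [polar_self', qa] at e1
    rcases mul_eq_zero.1 e1 with e | e
    · exact hqn (by rw [e2, e]; ring)
    · exact mul_ne_zero h2 haq e
  obtain ⟨α, β, hbe⟩ := span_two h hma hmn ha'0 hna hb
  set w := (-(β * Q n)) • a' + (α * Q a) • n' with hw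
  have hbw : polar Q b w = 0 := by
    rw [← hbe, hw]
    simp only [polar_add_left, polar_add_right, polar_smul_left, polar_smul_right, polar_self', qa, qn, pan,
      polar_comm Q n' a', smul_eq_mul]
    ring
  have hwq : Q w = Q a * Q n * Q b := by
    rw [← hbe, hw]
    simp only [map_add', map_smul', polar_smul_left, polar_smul_right, pan, qa, qn, smul_eq_mul]
    ring
  have hw0 : w ≠ 0 := fun e => mul_ne_zero (mul_ne_zero haq hqn) hbq (by rw [← hwq, e, map_zero])
  obtain ⟨k, hk⟩ := Submodule.mem_span_singleton.1 (perp_line h hb (fun e => hbq (by rw [e, map_zero]))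
    ((D j).add_mem ((D j).smul_mem _ hma) ((D j).smul_mem _ hmn)) hw0 hbw hm hbm)
  exact ⟨k, by rw [← hk, map_smul', hwq]⟩

/-- the vectors of the member orthogonal to `a` are not orthogonal to `x` -/
def Free (Q : QuadraticForm F V) (W : Submodule F V) (x a : V) : Prop :=
  ∀ z ∈ W, z ≠ 0 → polar Q a z = 0 → polar Q x z ≠ 0

theorem free_pair_step [Fintype F] (h : Plane Q D) (han : ∀ i, ∀ v ∈ D i, Q v = 0 → v = 0)
    (hq : 7 ≤ Fintype.card F) {x : V}
    (hno : ∀ o o', ∀ n ∈ D o, ∀ m ∈ D o', polar Q x n = 0 → polar Q x m = 0 → n ≠ 0 → ∀ s : F, s ≠ 0 →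
      Q m ≠ -(s * s * Q n))
    (h2 : (2 : F) ≠ 0) {i j : Fin t} (hi : pr h.toPre i x ≠ 0) (hj : pr h.toPre j x ≠ 0) {a b n : V} (ha : a ∈ D i) (hb : b ∈ D j)
    (hxa : polar Q x a = 1) (hxb : polar Q x b = -1) (hab : Q b = -Q a) (haq : Q a ≠ 0) (hn : n ∈ D i) (hn0 : n ≠ 0)
    (pan : polar Q a n = 0) (hxn : polar Q x n = 0) :
    ∃ a' ∈ D i, ∃ b' ∈ D j, polar Q x a' = 1 ∧ polar Q x b' = -1 ∧ Q b' = -Q a' ∧ Q a' ≠ 0 ∧
      Free Q (D i) x a' ∧ Free Q (D j) x b' := by
  classical
  have hbq : Q b ≠ 0 := by rw [hab]; exact neg_ne_zero.2 haq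
  have hqn : Q n ≠ 0 := fun e => hn0 (han i n hn e)
  obtain ⟨m, hm, hm0, hxm⟩ := exists_perp_vec h j x
  have hqm : Q m ≠ 0 := fun e => hm0 (han j m hm e)
  have hβ : polar Q b m ≠ 0 := fun e => by
    obtain ⟨k, hk⟩ := disc_pair h h2 ha hn hb hm haq hn0 pan hbq e
    refine hno i j n hn m hm hxn hxm hn0 (k * Q a) (fun e' => hqm ?_) (by rw [hk, hab]; ring)
    rw [hk, hab]
    linear_combination (-k * Q n * Q a) * e'
  obtain ⟨k, hk⟩ : ∃ k : F, k ∉ (Finset.univ.filter fun r : F => Q m * (r * r) + 0 * r + -Q n = 0) ∪ {0} := by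
    by_contra hall
    push Not at hall
    have h1 := Finset.card_union_le (Finset.univ.filter fun r : F => Q m * (r * r) + 0 * r + -Q n = 0) {0}
    have h2 := card_roots_le_two (a := Q m) (b := (0 : F)) (c := -Q n) (Or.inl hqm)
    rw [Finset.eq_univ_iff_forall.2 hall, Finset.card_univ, Finset.card_singleton] at h1
    omega
  simp only [Finset.mem_union, Finset.mem_filter, Finset.mem_univ, true_and, Finset.mem_singleton, not_or] at hk
  obtain ⟨hkm, hk0⟩ := hk
  have hden : Q n + k * k * Q m ≠ 0 := fun e =>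
    hno j i m hm n hn hxm hxn hm0 k hk0 (by linear_combination e)
  obtain ⟨r, hr⟩ : ∃ r : F, r * (Q n + k * k * Q m) = -(k * polar Q b m) := ⟨_, div_mul_cancel₀ _ hden⟩
  have hr0 : r ≠ 0 := fun e => mul_ne_zero hk0 hβ (by rw [e] at hr; linear_combination hr)
  have xa' : polar Q x (a + r • n) = 1 := by rw [polar_add_right, polar_smul_right, hxa, hxn]; simp
  have xb' : polar Q x (b + (k * r) • m) = -1 := by rw [polar_add_right, polar_smul_right, hxb, hxm]; simp
  refine ⟨a + r • n, (D i).add_mem ha ((D i).smul_mem _ hn), b + (k * r) • m, (D j).add_mem hb ((D j).smul_mem _ hm),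
    xa', xb', ?_, fun e => ?_, fun z hz hz0 hza hxz => ?_, fun z hz hz0 hzb hxz => ?_⟩
  · rw [map_add_smul, map_add_smul, pan, hab]
    linear_combination r * hr
  · rw [han i _ ((D i).add_mem ha ((D i).smul_mem _ hn)) e] at xa'
    simp [polar] at xa'
  · obtain ⟨c, rfl⟩ := Submodule.mem_span_singleton.1 (perp_line h (pr_mem h.toPre i x) hi hn hn0
      (by rw [pr_polar h.toPre i x hn, hxn]) hz (by rw [pr_polar h.toPre i x hz, hxz]))
    simp only [polar_add_left, polar_smul_left, polar_smul_right, pan, polar_self', smul_eq_mul, zero_add,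
      mul_zero] at hza
    exact mul_ne_zero (mul_ne_zero hr0 (show c ≠ 0 from fun e => hz0 (by rw [e, zero_smul]))) (mul_ne_zero h2 hqn)
      (by linear_combination hza)
  · obtain ⟨c, rfl⟩ := Submodule.mem_span_singleton.1 (perp_line h (pr_mem h.toPre j x) hj hm hm0
      (by rw [pr_polar h.toPre j x hm, hxm]) hz (by rw [pr_polar h.toPre j x hz, hxz]))
    simp only [polar_add_left, polar_smul_left, polar_smul_right, polar_self', smul_eq_mul] at hzb
    have hc0 : c ≠ 0 := fun e => hz0 (by rw [e, zero_smul])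
    have e1 : polar Q b m + k * r * (2 * Q m) = 0 :=
      (mul_eq_zero.1 (show c * (polar Q b m + k * r * (2 * Q m)) = 0 by linear_combination hzb)).resolve_left hc0
    refine hkm ?_
    have e2 : polar Q b m * (Q n + k * k * Q m - 2 * (k * k) * Q m) = 0 := by
      linear_combination (Q n + k * k * Q m) * e1 - (2 * k * Q m) * hr
    linear_combination -((mul_eq_zero.1 e2).resolve_left hβ)

end Cfsg.Agent.ClassicalMax.DecAny
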