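import Cfsg.Agent.ClassicalMax.DecAny.PlaneSpread
import Cfsg.Agent.ClassicalMax.DecAny.PlaneFix

/-!
Decompositions into at least five planes: a vector supported on all members and related to a vector of a member gives
all root elements, as some element of the stabiliser moves it by a singular vector supported on part of the members.
-/

set_option autoImplicit false
set_option linter.unusedSectionVars false
set_option linter.style.haveILetI false

namespace Cfsg.Agent.ClassicalMax.DecAny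

open Module QuadraticMap Cfsg.Agent.Classical Cfsg.Agent.Classical.Quad Cfsg.Agent.ClassicalMax.RootPlanes
open Cfsg.Agent.ClassicalMax.DecOrth (In Maps)

variable {F V : Type*} [Field F] [Finite F] [AddCommGroup V] [Module F V] [FiniteDimensional F V]
  {Q : QuadraticForm F V} {t : ℕ} {D : Fin t → Submodule F V} {H : Subgroup (oG Q)}

/-- five distinct members -/
theorem five_members (h : Plane Q D) : ∃ f : Fin 5 → Fin t, ∀ m n, m ≠ n → f m ≠ f n :=
  ⟨fun n => ⟨n, by have := h.five; omega⟩, fun _ _ hmn e => hmn (Fin.ext (Fin.mk.inj e))⟩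

theorem rO_fixer {x n m : V} (hn : Q n ≠ 0) (hm : Q m ≠ 0) (hxn : polar Q x n = 0) (hxm : polar Q x m = 0) :
    (rO hn * rO hm).1 x = x := by
  rw [oG_mul_apply, rO_fix hm hxm, rO_fix hn hxn]

/-- a step by a singular vector avoiding a member -/
theorem spread_finish (h : Plane Q D) (hO : PlaneOver D H) {l₀ : Fin t} {u x : V} (hu : u ∈ D l₀) (hux : Rel H u x)
    {g : oG Q} (hg : g ∈ H) {σ : Equiv.Perm (Fin t)} (hmaps : Maps D g.1 σ) {e : V} (hgx : g.1 x = x - e)
    (hxe : polar Q x e = 0) {k : Fin t} {v : V} (hv : v ∈ D k) (hvq : Q v = Q x) (hve : polar Q v e = 0)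
    (hxv : polar Q v x ≠ 0) {i j m l : Fin t} (hij : i ≠ j) (hmi : m ≠ i) (hmj : m ≠ j)
    (hi : ∀ r : F, r ≠ 0 → pr h.toPre i (v + r • e) ≠ 0) (hj : ∀ r : F, r ≠ 0 → pr h.toPre j (v + r • e) ≠ 0)
    (hm : ∀ r : F, r ≠ 0 → pr h.toPre m (v + r • e) ≠ 0) (hl : ∀ r : F, r ≠ 0 → pr h.toPre l (v + r • e) = 0) :
    eo Q ≤ H := by
  have hq : Q x ≠ 0 := by rw [hux.value]; exact hux.ne
  have hy := rel_image h hO hu hux hg hmaps
  have huv : Rel H u v := rel_members h hO hu hv hux.ne (by rw [hvq, hux.value])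
  set y := g.1 x with hydef
  have hyq : Q y ≠ 0 := by rw [g.2]; exact hq
  have h3 := (huv.reflect hy hyq).reflect hux hq
  set κ := polar Q v x / Q x with hκ
  have hκ0 : κ ≠ 0 := div_ne_zero hxv hq
  have hvy : polar Q v y = polar Q v x := by rw [hgx, polar_sub_right, hve, sub_zero]
  have hxy : polar Q y x = 2 * Q x := by
    rw [hgx, polar_sub_left, polar_self', polar_comm Q e x, hxe, sub_zero]
  have e3 : (rO hq).1 ((rO hyq).1 v) = v + κ • e := by
    rw [rO_apply, rO_apply, hvy, show Q y = Q x from g.2 x, ← hκ, polar_sub_left, polar_smul_left, hxy, smul_eq_mul,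
      show (polar Q v x - κ * (2 * Q x)) / Q x = -κ by rw [hκ]; field_simp; ring, hgx]
    module
  rw [e3] at h3
  exact spread_three h hO hu h3 hij hmi hmj (hi κ hκ0) (hj κ hκ0) (hm κ hκ0) (hl κ hκ0)

/-- one pair of opposite values and an element fixing `x` -/
theorem one_pair (h : Plane Q D) (hO : PlaneOver D H) {l₀ : Fin t} {u x : V} (hu : u ∈ D l₀) (hux : Rel H u x)
    (hall : ∀ o, pr h.toPre o x ≠ 0) {σ : Equiv.Perm (Fin t)} {p : oG Q} (hp : Maps D p.1 σ) (hpx : p.1 x = x)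
    (hmem : ∀ a b : V, ∀ ha : Q a ≠ 0, ∀ hb : Q b ≠ 0, Q b = -Q a → rO ha * rO hb * p ∈ commutator (oG Q)) :
    eo Q ≤ H := by
  obtain ⟨f, hf⟩ := five_members h
  have hq : Q x ≠ 0 := by rw [hux.value]; exact hux.ne
  have n01 := hf 0 1 (by decide)
  obtain ⟨a, ha, b, hb, hxa, hxb, hab, haq⟩ := exists_pair h (hall (f 0)) (hall (f 1))
  have hbq : Q b ≠ 0 := by rw [hab]; exact neg_ne_zero.2 haq
  obtain ⟨v, hv, hvq, hxv⟩ := exists_nonperp h (i := f 2) hq (pr_mem h.toPre (f 2) x) (hall (f 2))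
  rw [pr_polar h.toPre _ x hv, polar_comm] at hxv
  have hmaps : Maps D (rO haq * rO hbq * p).1 σ := fun o z hz => by
    simp only [oG_mul_apply]
    exact rO_maps h ha haq _ _ (rO_maps h hb hbq _ _ (hp o z hz))
  have hba : polar Q b a = 0 := h.perp _ _ n01.symm b hb a ha
  refine spread_finish h hO hu hux (hO.stab _ σ (hmem a b haq hbq hab) hmaps) hmaps (e := (1 / Q a) • (a + b))
    ?_ ?_ hv hvq ?_ hxv (i := f 0) (j := f 1) (m := f 2) (l := f 3) n01 (hf 2 0 (by decide)) (hf 2 1 (by decide))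
    (fun r hr => ?_) (fun r hr => ?_) (fun r hr => ?_) fun r hr => ?_
  · rw [oG_mul_apply, hpx, oG_mul_apply, rO_apply hbq, hxb, rO_apply haq, polar_sub_left, polar_smul_left, hba,
      smul_zero, sub_zero, hxa, hab]
    match_scalars <;> field_simp
  · rw [polar_smul_right, polar_add_right, hxa, hxb]; simp
  · rw [polar_smul_right, polar_add_right, h.perp _ _ (hf 2 0 (by decide)) v hv a ha,
      h.perp _ _ (hf 2 1 (by decide)) v hv b hb]
    simp
  · rw [map_add, map_smul, map_smul, map_add, pr_other h.toPre (hf 2 0 (by decide)) hv,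
      pr_same h.toPre ha, pr_other h.toPre n01.symm hb, add_zero, zero_add]
    exact smul_ne_zero hr (smul_ne_zero (one_div_ne_zero haq) fun e => haq (by rw [e, map_zero]))
  · rw [map_add, map_smul, map_smul, map_add, pr_other h.toPre (hf 2 1 (by decide)) hv,
      pr_other h.toPre n01 ha, pr_same h.toPre hb, zero_add, zero_add]
    exact smul_ne_zero hr (smul_ne_zero (one_div_ne_zero haq) fun e => hbq (by rw [e, map_zero]))
  · rw [map_add, map_smul, map_smul, map_add, pr_same h.toPre hv, pr_other h.toPre (hf 0 2 (by decide)) ha,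
      pr_other h.toPre (hf 1 2 (by decide)) hb, add_zero, smul_zero, smul_zero, add_zero]
    exact fun e => hxv (by rw [e]; simp [polar])
  · rw [map_add, map_smul, map_smul, map_add, pr_other h.toPre (hf 2 3 (by decide)) hv,
      pr_other h.toPre (hf 0 3 (by decide)) ha, pr_other h.toPre (hf 1 3 (by decide)) hb, add_zero, smul_zero,
      smul_zero, add_zero]

/-- hyperbolic members -/
theorem spread_hyp (h : Plane Q D) (hO : PlaneOver D H) (h1 : ¬ IsSquare (-1 : F))
    (hs : ∀ i, ∃ f ∈ D i, f ≠ 0 ∧ Q f = 0) {l₀ : Fin t} {u x : V} (hu : u ∈ D l₀) (hux : Rel H u x)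
    (hall : ∀ o, pr h.toPre o x ≠ 0) : eo Q ≤ H := by
  have h2 := two_ne_of_nonsquare h1
  choose e he f' hf' qe qf pef hc using fun i => hyp_for h (hs i) (pr_mem h.toPre i x) (hall i)
  have hxf : ∀ i, polar Q x (f' i) = 1 := fun i => by
    rw [← pr_polar h.toPre i x (hf' i), hc i, polar_add_left, polar_smul_left, pef, polar_self', qf]
    simp
  by_cases heq : ∃ i j, i ≠ j ∧ Q (pr h.toPre i x) = Q (pr h.toPre j x)
  · obtain ⟨i, j, hij, hval⟩ := heq
    obtain ⟨d₁, d₂, q₁, q₂, e1, e2, hperp, hmaps, t1, t2, t3, t4, tfix⟩ :=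
      exchange h h2 hij (he i) (hf' i) (he j) (hf' j) (qe i) (qf i) (qe j) (qf j) (pef i) (pef j)
    refine one_pair h hO hu hux hall hmaps ?_ fun a b ha hb hab =>
      four_opp h.nd h1 ha hb q₁ q₂ hab (s := 1) (by rw [e1, e2]; ring) hperp
    set w := x - pr h.toPre i x - pr h.toPre j x
    have hw : (rO q₁ * rO q₂).1 w = w := tfix w (fun y hy => by
        simp only [w, polar_sub_left, pr_polar h.toPre i x hy, h.perp j i hij.symm _ (pr_mem h.toPre j x) y hy]
        ring) fun y hy => by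
        simp only [w, polar_sub_left, pr_polar h.toPre j x hy, h.perp i j hij _ (pr_mem h.toPre i x) y hy]
        ring
    have hx : x = w + pr h.toPre i x + pr h.toPre j x := by simp only [w]; abel
    conv_lhs => rw [hx, map_add, map_add, hw, hc i, hc j, map_add, map_add, map_smul, map_smul, t1, t2, t3, t4]
    conv_rhs => rw [hx, hc i, hc j]
    rw [hval]
    abel
  push Not at heq
  obtain ⟨f, hf⟩ := five_members h
  have hq : Q x ≠ 0 := by rw [hux.value]; exact hux.ne
  have n01 := hf 0 1 (by decide)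
  have n12 := hf 1 2 (by decide)
  have n02 := hf 0 2 (by decide)
  obtain ⟨d₁, d₂, q₁, q₂, e1, e2, -, hm₁, a1, a2, a3, a4, afix⟩ := exchange h h2 n01 (he (f 0)) (hf' (f 0))
    (he (f 1)) (hf' (f 1)) (qe _) (qf _) (qe _) (qf _) (pef _) (pef _)
  obtain ⟨d₁', d₂', q₁', q₂', e1', e2', -, hm₂, b1, b2, b3, b4, bfix⟩ := exchange h h2 n12 (he (f 1)) (hf' (f 1))
    (he (f 2)) (hf' (f 2)) (qe _) (qf _) (qe _) (qf _) (pef _) (pef _)
  set g := rO q₁' * rO q₂' * (rO q₁ * rO q₂) with hgdef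
  have hmaps : Maps D g.1 (Equiv.swap (f 1) (f 2) * Equiv.swap (f 0) (f 1)) := fun o z hz => by
    rw [hgdef, oG_mul_apply, Equiv.Perm.mul_apply]
    exact hm₂ _ _ (hm₁ o z hz)
  have hg : g ∈ H := hO.stab _ _ (four_comm h.nd q₁' q₂' q₁ q₂ (s := 1) (r := 1) (by rw [e1, e1']; ring)
    (by rw [e2, e2']; ring)) hmaps
  set c0 := Q (pr h.toPre (f 0) x) with hc0
  set c1 := Q (pr h.toPre (f 1) x) with hc1
  set c2 := Q (pr h.toPre (f 2) x) with hc2
  set w := x - pr h.toPre (f 0) x - pr h.toPre (f 1) x - pr h.toPre (f 2) x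
  have wperp : ∀ y, y ∈ D (f 0) ∨ y ∈ D (f 1) ∨ y ∈ D (f 2) → polar Q w y = 0 := by
    rintro y (hy | hy | hy) <;>
      simp only [w, polar_sub_left, pr_polar h.toPre _ x hy]
    · rw [h.perp _ _ n01.symm _ (pr_mem h.toPre _ x) y hy, h.perp _ _ n02.symm _ (pr_mem h.toPre _ x) y hy]; ring
    · rw [h.perp _ _ n01 _ (pr_mem h.toPre _ x) y hy, h.perp _ _ n12.symm _ (pr_mem h.toPre _ x) y hy]; ring
    · rw [h.perp _ _ n02 _ (pr_mem h.toPre _ x) y hy, h.perp _ _ n12 _ (pr_mem h.toPre _ x) y hy]; ring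
  have g0 : g.1 (e (f 0)) = e (f 2) ∧ g.1 (f' (f 0)) = f' (f 2) := by
    simp only [hgdef, oG_mul_apply, a1, a2, b1, b2, and_self]
  have away : ∀ {z : V} {o : Fin t}, z ∈ D o → o ≠ f 0 → o ≠ f 1 → (rO q₁ * rO q₂).1 z = z :=
    fun {z o} hz ho0 ho1 => afix z (fun y hy => h.perp o _ ho0 z hz y hy) fun y hy => h.perp o _ ho1 z hz y hy
  have away' : ∀ {z : V} {o : Fin t}, z ∈ D o → o ≠ f 1 → o ≠ f 2 → (rO q₁' * rO q₂').1 z = z :=
    fun {z o} hz ho1 ho2 => bfix z (fun y hy => h.perp o _ ho1 z hz y hy) fun y hy => h.perp o _ ho2 z hz y hy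
  have g1 : g.1 (e (f 1)) = e (f 0) ∧ g.1 (f' (f 1)) = f' (f 0) := by
    rw [hgdef]
    constructor <;> rw [oG_mul_apply]
    · rw [a3, away' (he _) n01 n02]
    · rw [a4, away' (hf' _) n01 n02]
  have g2 : g.1 (e (f 2)) = e (f 1) ∧ g.1 (f' (f 2)) = f' (f 1) := by
    rw [hgdef]
    constructor <;> rw [oG_mul_apply]
    · rw [away (he _) n02.symm n12.symm, b3]
    · rw [away (hf' _) n02.symm n12.symm, b4]
  have gw : g.1 w = w := by
    rw [hgdef, oG_mul_apply, afix w (fun y hy => wperp y (Or.inl hy)) fun y hy => wperp y (Or.inr (Or.inl hy)),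
      bfix w (fun y hy => wperp y (Or.inr (Or.inl hy))) fun y hy => wperp y (Or.inr (Or.inr hy))]
  have hx : x = w + pr h.toPre (f 0) x + pr h.toPre (f 1) x + pr h.toPre (f 2) x := by simp only [w]; abel
  obtain ⟨v, hv, hvq, hxv⟩ := exists_nonperp h (i := f 3) hq (pr_mem h.toPre (f 3) x) (hall (f 3))
  rw [pr_polar h.toPre _ x hv, polar_comm] at hxv
  have hne : ∀ i, f' i ≠ 0 := fun i e' => by
    have := pef i
    rw [e'] at this
    simp [polar] at this
  refine spread_finish h hO hu hux hg hmaps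
    (e := (c0 - c1) • f' (f 0) + (c1 - c2) • f' (f 1) + (c2 - c0) • f' (f 2))
    ?_ ?_ hv hvq ?_ hxv (i := f 0) (j := f 1) (m := f 3) (l := f 4) n01 (hf 3 0 (by decide)) (hf 3 1 (by decide))
    (fun r hr => ?_) (fun r hr => ?_) (fun r hr => ?_) fun r hr => ?_
  · conv_lhs => rw [hx, map_add, map_add, map_add, gw, hc (f 0), hc (f 1), hc (f 2), map_add, map_add, map_add,
      map_smul, map_smul, map_smul, g0.1, g0.2, g1.1, g1.2, g2.1, g2.2, ← hc0, ← hc1, ← hc2]
    conv_rhs => rw [hx, hc (f 0), hc (f 1), hc (f 2), ← hc0, ← hc1, ← hc2]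
    module
  · simp only [polar_add_right, polar_smul_right, hxf, smul_eq_mul]; ring
  · simp only [polar_add_right, polar_smul_right, h.perp _ _ (hf 3 0 (by decide)) v hv _ (hf' (f 0)),
      h.perp _ _ (hf 3 1 (by decide)) v hv _ (hf' (f 1)), h.perp _ _ (hf 3 2 (by decide)) v hv _ (hf' (f 2))]
    simp
  · simp only [map_add, map_smul, pr_other h.toPre (hf 3 0 (by decide)) hv, pr_same h.toPre (hf' (f 0)),
      pr_other h.toPre n01.symm (hf' (f 1)), pr_other h.toPre n02.symm (hf' (f 2)), smul_zero, add_zero, zero_add]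
    exact smul_ne_zero hr (smul_ne_zero (sub_ne_zero.2 (heq _ _ n01)) (hne _))
  · simp only [map_add, map_smul, pr_other h.toPre (hf 3 1 (by decide)) hv, pr_same h.toPre (hf' (f 1)),
      pr_other h.toPre n01 (hf' (f 0)), pr_other h.toPre n12.symm (hf' (f 2)), smul_zero, add_zero, zero_add]
    exact smul_ne_zero hr (smul_ne_zero (sub_ne_zero.2 (heq _ _ n12)) (hne _))
  · simp only [map_add, map_smul, pr_same h.toPre hv, pr_other h.toPre (hf 0 3 (by decide)) (hf' (f 0)),
      pr_other h.toPre (hf 1 3 (by decide)) (hf' (f 1)), pr_other h.toPre (hf 2 3 (by decide)) (hf' (f 2)), smul_zero,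
      add_zero]
    exact fun e' => hxv (by rw [e']; simp [polar])
  · simp only [map_add, map_smul, pr_other h.toPre (hf 3 4 (by decide)) hv,
      pr_other h.toPre (hf 0 4 (by decide)) (hf' (f 0)), pr_other h.toPre (hf 1 4 (by decide)) (hf' (f 1)),
      pr_other h.toPre (hf 2 4 (by decide)) (hf' (f 2)), smul_zero, add_zero]

/-- anisotropic members -/
theorem spread_aniso (h : Plane Q D) (hO : PlaneOver D H) (h1 : ¬ IsSquare (-1 : F)) (hq3 : Nat.card F ≠ 3)
    (han : ∀ i, ∀ v ∈ D i, Q v = 0 → v = 0) {l₀ : Fin t} {u x : V} (hu : u ∈ D l₀) (hux : Rel H u x)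
    (hall : ∀ o, pr h.toPre o x ≠ 0) : eo Q ≤ H := by
  have h2 := two_ne_of_nonsquare h1
  have := Fintype.ofFinite F
  have hq7 : 7 ≤ Fintype.card F := by
    rw [FiniteField.isSquare_neg_one_iff, not_not] at h1
    rw [Nat.card_eq_fintype_card] at hq3
    omega
  by_cases hA : ∃ o o', ∃ n ∈ D o, ∃ m ∈ D o', polar Q x n = 0 ∧ polar Q x m = 0 ∧ n ≠ 0 ∧
      ∃ s : F, s ≠ 0 ∧ Q m = -(s * s * Q n)
  · obtain ⟨o, o', n, hn, m, hm, hxn, hxm, hn0, s, hs, hval⟩ := hA
    have hqn : Q n ≠ 0 := fun e => hn0 (han o n hn e)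
    have hqm : Q m ≠ 0 := by rw [hval]; exact neg_ne_zero.2 (mul_ne_zero (mul_ne_zero hs hs) hqn)
    have hperp : polar Q n m = 0 := by
      by_cases ho : o = o'
      · subst ho
        obtain ⟨r, rfl⟩ := Submodule.mem_span_singleton.1 (perp_line h (pr_mem h.toPre o x) (hall o) hn hn0
          (by rw [pr_polar h.toPre o x hn, hxn]) hm (by rw [pr_polar h.toPre o x hm, hxm]))
        rw [map_smul'] at hval
        exact absurd ⟨r / s, by field_simp; exact mul_right_cancel₀ hqn (by linear_combination -hval)⟩ h1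
      · exact h.perp o o' ho n hn m hm
    refine one_pair h hO hu hux hall (σ := 1) (p := rO hqn * rO hqm) (fun k z hz => ?_)
      (rO_fixer hqn hqm hxn hxm) fun a b ha hb hab => four_opp h.nd h1 ha hb hqn hqm hab hval hperp
    rw [oG_mul_apply]
    exact rO_maps h hn hqn k _ (rO_maps h hm hqm k z hz)
  push Not at hA
  obtain ⟨f, hf⟩ := five_members h
  have hq : Q x ≠ 0 := by rw [hux.value]; exact hux.ne
  have n01 := hf 0 1 (by decide)
  obtain ⟨a, ha, b, hb, hxa, hxb, hab, haq, hfa, hfb⟩ : ∃ a ∈ D (f 0), ∃ b ∈ D (f 1), polar Q x a = 1 ∧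
      polar Q x b = -1 ∧ Q b = -Q a ∧ Q a ≠ 0 ∧ Free Q (D (f 0)) x a ∧ Free Q (D (f 1)) x b := by
    obtain ⟨a, ha, b, hb, hxa, hxb, hab, haq⟩ := exists_pair h (hall (f 0)) (hall (f 1))
    by_cases hfa : Free Q (D (f 0)) x a
    · by_cases hfb : Free Q (D (f 1)) x b
      · exact ⟨a, ha, b, hb, hxa, hxb, hab, haq, hfa, hfb⟩
      simp only [Free, not_forall, not_not] at hfb
      obtain ⟨n, hn, hn0, pbn, hxn⟩ := hfb
      obtain ⟨a', ha', b', hb', e1, e2, e3, e4, e5, e6⟩ := free_pair_step h han hq7 hA h2 (hall _) (hall _)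
        (a := -b) (b := -a) (n := n) ((D (f 1)).neg_mem hb) ((D (f 0)).neg_mem ha)
        (by rw [polar_neg_right, hxb, neg_neg]) (by rw [polar_neg_right, hxa])
        (by rw [QuadraticMap.map_neg, QuadraticMap.map_neg, hab, neg_neg])
        (by rw [QuadraticMap.map_neg, hab]; exact neg_ne_zero.2 haq) hn hn0 (by rw [polar_neg_left, pbn, neg_zero])
        hxn
      exact ⟨-b', (D (f 0)).neg_mem hb', -a', (D (f 1)).neg_mem ha', by rw [polar_neg_right, e2, neg_neg],
        by rw [polar_neg_right, e1], by rw [QuadraticMap.map_neg, QuadraticMap.map_neg, e3, neg_neg],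
        by rw [QuadraticMap.map_neg, e3]; exact neg_ne_zero.2 e4,
        fun z hz hz0 hp => e6 z hz hz0 (by rwa [polar_neg_left, neg_eq_zero] at hp),
        fun z hz hz0 hp => e5 z hz hz0 (by rwa [polar_neg_left, neg_eq_zero] at hp)⟩
    simp only [Free, not_forall, not_not] at hfa
    obtain ⟨n, hn, hn0, pan, hxn⟩ := hfa
    exact free_pair_step h han hq7 hA h2 (hall _) (hall _) ha hb hxa hxb hab haq hn hn0 pan hxn
  obtain ⟨a', ha', b', hb', hxa', hxb', hab', haq'⟩ := exists_pair h (hall (f 2)) (hall (f 3))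
  have hbq : Q b ≠ 0 := by rw [hab]; exact neg_ne_zero.2 haq
  have hbq' : Q b' ≠ 0 := by rw [hab']; exact neg_ne_zero.2 haq'
  obtain ⟨g, hg, hmaps, hgx⟩ := four_refl h hO n01 (hf 0 2 (by decide)) (hf 0 3 (by decide)) (hf 1 2 (by decide))
    (hf 1 3 (by decide)) (hf 2 3 (by decide)) ha hb ha' hb' haq hab haq' hab'
  -- a vector of the value of `x` orthogonal to `a` or to `b`
  obtain ⟨n, hn, hn0, pan⟩ := exists_perp_vec h (f 0) a
  obtain ⟨m, hm, hm0, pbm⟩ := exists_perp_vec h (f 1) b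
  have hqn := perp_aniso h ha hn haq hn0 pan
  have hqm := perp_aniso h hb hm hbq hm0 pbm
  obtain ⟨k, hk⟩ := disc_pair h h2 ha hn hb hm haq hn0 pan hbq pbm
  rw [hab] at hk
  have hk0 : k ≠ 0 := fun e => hqm (by rw [hk, e]; ring)
  set e := (1 / Q a) • (a + b) + (1 / Q a') • (a' + b') with he
  have hxe : polar Q x e = 0 := by
    rw [he, polar_add_right, polar_smul_right, polar_smul_right, polar_add_right, polar_add_right, hxa, hxb, hxa',
      hxb']
    simp
  have hgx' : g.1 x = x - e := by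
    rw [hgx, hxa, hxb, hxa', hxb', hab, hab', he]
    match_scalars <;> field_simp
  have fin : ∀ {o o' : Fin t} {v c c' : V}, o ≠ o' → o' ≠ f 2 → o' ≠ f 3 → o ≠ f 2 → o ≠ f 3 → o ≠ f 4 → o' ≠ f 4 →
      v ∈ D o → c ∈ D o → c' ∈ D o' → c + c' = a + b → c' ≠ 0 → Q v = Q x → polar Q v c = 0 → polar Q v x ≠ 0 →
      eo Q ≤ H := by
    intro o o' v c c' hoo h'2 h'3 ho2 ho3 ho4 h'4 hv hc hc' hcc hc'0 hvq hvc hxv
    refine spread_finish h hO hu hux hg hmaps hgx' hxe hv hvq ?_ hxv (i := f 2) (j := f 3) (m := o') (l := f 4)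
      (hf 2 3 (by decide)) h'2 h'3 (fun r hr => ?_) (fun r hr => ?_) (fun r hr => ?_) fun r hr => ?_
    · rw [he, ← hcc, polar_add_right, polar_smul_right, polar_smul_right, polar_add_right, polar_add_right, hvc,
        h.perp _ _ hoo v hv c' hc', h.perp _ _ ho2 v hv a' ha', h.perp _ _ ho3 v hv b' hb']
      simp
    · rw [he, ← hcc]
      simp only [map_add, map_smul, pr_other h.toPre ho2 hv, pr_other h.toPre ho2 hc, pr_other h.toPre h'2 hc',
        pr_same h.toPre ha', pr_other h.toPre (hf 3 2 (by decide)) hb', smul_zero, add_zero, zero_add]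
      exact smul_ne_zero hr (smul_ne_zero (one_div_ne_zero haq') fun e' => haq' (by rw [e', map_zero]))
    · rw [he, ← hcc]
      simp only [map_add, map_smul, pr_other h.toPre ho3 hv, pr_other h.toPre ho3 hc, pr_other h.toPre h'3 hc',
        pr_other h.toPre (hf 2 3 (by decide)) ha', pr_same h.toPre hb', smul_zero, add_zero, zero_add]
      exact smul_ne_zero hr (smul_ne_zero (one_div_ne_zero haq') fun e' => hbq' (by rw [e', map_zero]))
    · rw [he, ← hcc]
      simp only [map_add, map_smul, pr_other h.toPre hoo hv, pr_other h.toPre hoo hc, pr_same h.toPre hc',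
        pr_other h.toPre h'2.symm ha', pr_other h.toPre h'3.symm hb', smul_zero, add_zero, zero_add]
      exact smul_ne_zero hr (smul_ne_zero (one_div_ne_zero haq) hc'0)
    · rw [he, ← hcc]
      simp only [map_add, map_smul, pr_other h.toPre ho4 hv, pr_other h.toPre ho4 hc, pr_other h.toPre h'4 hc',
        pr_other h.toPre (hf 2 4 (by decide)) ha', pr_other h.toPre (hf 3 4 (by decide)) hb', smul_zero, add_zero]
  rcases square_or_div_square h1 (show Q n / Q x ≠ 0 from div_ne_zero hqn hq) with ⟨r, hr⟩ | ⟨r, hr⟩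
  · have hr0 : r ≠ 0 := fun e => by rw [e] at hr; simp at hr
    refine fin (v := r • n) n01 (hf 1 2 (by decide)) (hf 1 3 (by decide)) (hf 0 2 (by decide)) (hf 0 3 (by decide))
      (hf 0 4 (by decide)) (hf 1 4 (by decide)) ((D _).smul_mem r hn) ha hb rfl (fun e => hbq (by rw [e, map_zero]))
      ?_ ?_ ?_
    · rw [map_smul']; field_simp at hr; linear_combination hr
    · rw [polar_smul_left, polar_comm, pan, smul_zero]
    · rw [polar_smul_left, polar_comm, smul_eq_mul]
      exact mul_ne_zero hr0 (hfa n hn hn0 pan)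
  · have hr0 : r ≠ 0 := fun e => by rw [e] at hr; simp at hr
    refine fin (v := (r / (k * Q a)) • m) n01.symm (hf 0 2 (by decide)) (hf 0 3 (by decide)) (hf 1 2 (by decide))
      (hf 1 3 (by decide)) (hf 1 4 (by decide)) (hf 0 4 (by decide)) ((D _).smul_mem _ hm) hb ha (add_comm b a)
      (fun e => haq (by rw [e, map_zero])) ?_ ?_ ?_
    · rw [map_smul', hk]
      field_simp at hr ⊢
      linear_combination -hr
    · rw [polar_smul_left, polar_comm, pbm, smul_zero]
    · rw [polar_smul_left, polar_comm, smul_eq_mul]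
      exact mul_ne_zero (div_ne_zero hr0 (mul_ne_zero hk0 haq)) (hfb m hm hm0 pbm)

/-- support in all members -/
theorem spread_all (h : Plane Q D) (hO : PlaneOver D H) {l : Fin t} {u x : V} (hu : u ∈ D l) (hux : Rel H u x)
    (hall : ∀ o, pr h.toPre o x ≠ 0) : eo Q ≤ H := by
  by_cases h1 : IsSquare (-1 : F)
  · obtain ⟨s, hs⟩ := h1
    exact one_pair h hO hu hux hall (σ := 1) (p := 1) (fun k z hz => hz) rfl fun a b ha hb hab => by
      rw [mul_one]
      exact rO_mul_mem_commutator h.nd ha hb (t := s) (by rw [hab, ← hs]; ring)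
  rcases h.kind with ⟨-, hs⟩ | ⟨hq, han⟩
  · exact spread_hyp h hO h1 hs hu hux hall
  · exact spread_aniso h hO h1 hq han hu hux hall

/-- a vector outside the members related to one inside -/
theorem spread (h : Plane Q D) (hO : PlaneOver D H) {l : Fin t} {u x : V} (hu : u ∈ D l) (hux : Rel H u x)
    (hx : ∀ o, x ∉ D o) : eo Q ≤ H := by
  have hq : Q x ≠ 0 := by rw [hux.value]; exact hux.ne
  obtain ⟨i, hqi⟩ : ∃ i, Q (pr h.toPre i x) ≠ 0 := by
    by_contra hn
    push Not at hn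
    exact hq (by rw [Q_eq_sum h.toPre]; simp [hn])
  obtain ⟨j, hji, hj⟩ := exists_pr_ne h.toPre (hx i)
  by_cases h3 : ∃ m, m ≠ i ∧ m ≠ j ∧ pr h.toPre m x ≠ 0
  swap
  · push Not at h3
    exact spread_two h hO hu hux hji.symm hqi hj h3
  obtain ⟨m, hmi, hmj, hm⟩ := h3
  by_cases h0 : ∃ o, pr h.toPre o x = 0
  · obtain ⟨o, ho⟩ := h0
    exact spread_three h hO hu hux hji.symm hmi hmj (fun e => hqi (by rw [e, map_zero])) hj hm ho
  push Not at h0
  exact spread_all h hO hu hux h0

end Cfsg.Agent.ClassicalMax.DecAny
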