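import Mathlib

/-!
Three quadratic polynomials over the field with seven elements summing to the variable: at some non-zero point two of
them are zero polynomials or have values whose product is a square, in the sense made precise below.
-/

set_option autoImplicit false

namespace Cfsg.Agent.ClassicalMax.DecAny.Seven

/-- value of the quadratic coded by `p` at `r`, mod 7 -/
def ev7 (p r : Nat) : Nat := (p / 49 * (r * r) + p / 7 % 7 * r + p % 7) % 7

def third7 (p q : Nat) : Nat :=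
  (14 - p / 49 - q / 49) % 7 * 49 + (15 - p / 7 % 7 - q / 7 % 7) % 7 * 7 + (14 - p % 7 - q % 7) % 7

def sq7 (x : Nat) : Bool := x == 1 || x == 2 || x == 4

def pair7 (p q r : Nat) : Bool :=
  (p == 0 && (q == 0 || ev7 q r != 0)) || (q == 0 && ev7 p r != 0) || sq7 (ev7 p r * ev7 q r % 7)

def good7 (p q r : Nat) : Bool := pair7 p q r || pair7 p (third7 p q) r || pair7 q (third7 p q) r

def rs7 : List Nat := [1, 2, 3, 4, 5, 6]

theorem all7 : ((List.range 343).all fun p => (List.range 343).all fun q => rs7.any fun r => good7 p q r) = true := by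
  decide +kernel


variable {F : Type*} [Field F]

instance : Fact (Nat.Prime 7) := ⟨by norm_num⟩

/-- the value of a quadratic given by its coefficients -/
def evF (p : F × F × F) (r : F) : F := p.1 * (r * r) + p.2.1 * r + p.2.2

/-- two coefficient triples, both usable at `r` -/
def Pair (p q : F × F × F) (r : F) : Prop :=
  (p = 0 ∧ (q = 0 ∨ evF q r ≠ 0)) ∨ (q = 0 ∧ evF p r ≠ 0) ∨ ∃ s : F, s ≠ 0 ∧ evF p r * evF q r = s * s

/-- the coded coefficients -/
def dec7 (p : ℕ) : ZMod 7 × ZMod 7 × ZMod 7 := ((p / 49 : ℕ), (p / 7 % 7 : ℕ), (p % 7 : ℕ))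

theorem ev7_eq (p r : ℕ) : ((ev7 p r : ℕ) : ZMod 7) = evF (dec7 p) (r : ZMod 7) := by
  rw [ev7, ZMod.natCast_mod]
  simp [evF, dec7]

theorem dec7_zero {p : ℕ} (h : (p == 0) = true) : dec7 p = 0 := by
  rw [beq_iff_eq] at h
  subst h
  simp [dec7]

theorem pair_of_pair7 {p q r : ℕ} (h : pair7 p q r = true) : Pair (dec7 p) (dec7 q) (r : ZMod 7) := by
  have hev : ∀ x, (ev7 x r != 0) = true → evF (dec7 x) (r : ZMod 7) ≠ 0 := fun x hx e => by
    rw [← ev7_eq] at e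
    have e' := congrArg ZMod.val e
    rw [ZMod.val_natCast, ZMod.val_zero] at e'
    simp only [bne_iff_ne] at hx
    exact hx (by rw [← e', ev7, Nat.mod_mod])
  simp only [pair7, Bool.or_eq_true, Bool.and_eq_true] at h
  rcases h with (⟨hp, hq⟩ | ⟨hq, hp⟩) | hs
  · exact Or.inl ⟨dec7_zero hp, hq.imp dec7_zero (hev q)⟩
  · exact Or.inr (Or.inl ⟨dec7_zero hq, hev p hp⟩)
  · refine Or.inr (Or.inr ?_)
    rw [← ev7_eq, ← ev7_eq, ← Nat.cast_mul, ← ZMod.natCast_mod]
    simp only [sq7, Bool.or_eq_true, beq_iff_eq] at hs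
    rcases hs with (e | e) | e <;> rw [e]
    exacts [⟨1, one_ne_zero, by decide⟩, ⟨3, by decide, by decide⟩, ⟨2, by decide, by decide⟩]

theorem dec7_code {A B C : ℕ} (hA : A < 7) (hB : B < 7) (hC : C < 7) :
    dec7 (A * 49 + B * 7 + C) = ((A : ZMod 7), (B : ZMod 7), (C : ZMod 7)) := by
  rw [dec7, show (A * 49 + B * 7 + C) / 49 = A by omega, show (A * 49 + B * 7 + C) / 7 % 7 = B by omega,
    show (A * 49 + B * 7 + C) % 7 = C by omega]

theorem exists_code (p : ZMod 7 × ZMod 7 × ZMod 7) : ∃ c, c < 343 ∧ dec7 c = p := by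
  obtain ⟨a, b, c⟩ := p
  have ha := ZMod.val_lt a
  have hb := ZMod.val_lt b
  have hc := ZMod.val_lt c
  exact ⟨a.val * 49 + b.val * 7 + c.val, by omega, by rw [dec7_code ha hb hc]; simp⟩

theorem third_comp {x y k : ℕ} (hx : x < 7) (hy : y < 7) :
    (x : ZMod 7) + (y : ZMod 7) + (((14 + k - x - y) % 7 : ℕ) : ZMod 7) = (k : ZMod 7) := by
  rw [ZMod.natCast_mod, Nat.cast_sub (by omega), Nat.cast_sub (by omega), Nat.cast_add,
    show ((14 : ℕ) : ZMod 7) = 0 by decide]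
  ring

theorem dec7_third {p q : ℕ} (hp : p < 343) (hq : q < 343) :
    dec7 p + dec7 q + dec7 (third7 p q) = (0, 1, 0) := by
  rw [third7, dec7_code (Nat.mod_lt _ (by norm_num)) (Nat.mod_lt _ (by norm_num)) (Nat.mod_lt _ (by norm_num))]
  simp only [dec7, Prod.mk_add_mk, Prod.mk.injEq]
  have h7 : 0 < 7 := by norm_num
  refine ⟨?_, ?_, ?_⟩
  · exact (third_comp (k := 0) (Nat.div_lt_of_lt_mul hp) (Nat.div_lt_of_lt_mul hq)).trans Nat.cast_zero
  · exact (third_comp (k := 1) (Nat.mod_lt _ h7) (Nat.mod_lt _ h7)).trans Nat.cast_one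
  · exact (third_comp (k := 0) (Nat.mod_lt _ h7) (Nat.mod_lt _ h7)).trans Nat.cast_zero

theorem good_zmod (p₁ p₂ p₃ : ZMod 7 × ZMod 7 × ZMod 7) (h : p₁ + p₂ + p₃ = (0, 1, 0)) :
    ∃ r : ZMod 7, r ≠ 0 ∧ (Pair p₁ p₂ r ∨ Pair p₁ p₃ r ∨ Pair p₂ p₃ r) := by
  obtain ⟨a, ha, rfl⟩ := exists_code p₁
  obtain ⟨b, hb, rfl⟩ := exists_code p₂
  have e : p₃ = dec7 (third7 a b) := add_left_cancel (h.trans (dec7_third ha hb).symm)
  subst e
  have h1 := List.all_eq_true.1 (List.all_eq_true.1 all7 a (List.mem_range.2 ha)) b (List.mem_range.2 hb)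
  obtain ⟨r, hr, hg⟩ := List.any_eq_true.1 h1
  refine ⟨(r : ZMod 7), ?_, ?_⟩
  · simp only [rs7, List.mem_cons, List.not_mem_nil, or_false] at hr
    rcases hr with rfl | rfl | rfl | rfl | rfl | rfl <;> decide
  · simp only [good7, Bool.or_eq_true] at hg
    rcases hg with (g | g) | g
    exacts [Or.inl (pair_of_pair7 g), Or.inr (Or.inl (pair_of_pair7 g)), Or.inr (Or.inr (pair_of_pair7 g))]

/-- over any field with seven elements -/
theorem good [Fintype F] (hF : Fintype.card F = 7) (p₁ p₂ p₃ : F × F × F)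
    (ha : p₁.1 + p₂.1 + p₃.1 = 0) (hb : p₁.2.1 + p₂.2.1 + p₃.2.1 = 1) (hc : p₁.2.2 + p₂.2.2 + p₃.2.2 = 0) :
    ∃ r : F, r ≠ 0 ∧ (Pair p₁ p₂ r ∨ Pair p₁ p₃ r ∨ Pair p₂ p₃ r) := by
  let e : ZMod 7 ≃+* F := ZMod.ringEquivOfPrime F (by norm_num) hF
  let f : F × F × F → ZMod 7 × ZMod 7 × ZMod 7 := fun p => (e.symm p.1, e.symm p.2.1, e.symm p.2.2)
  have back : ∀ {p q : F × F × F} {r : ZMod 7}, Pair (f p) (f q) r → Pair p q (e r) := by
    intro p q r hpq
    have z : ∀ p, f p = 0 → p = 0 := fun p hp => by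
      simpa [f, Prod.ext_iff] using hp
    have v : ∀ p, evF p (e r) = e (evF (f p) r) := fun p => by simp [evF, f]
    rcases hpq with ⟨hp, hq⟩ | ⟨hq, hp⟩ | ⟨s, hs, e'⟩
    · exact Or.inl ⟨z p hp, hq.imp (z q) fun hne h0 => hne (e.injective (by rw [← v, h0, map_zero]))⟩
    · exact Or.inr (Or.inl ⟨z q hq, fun h0 => hp (e.injective (by rw [← v, h0, map_zero]))⟩)
    · exact Or.inr (Or.inr ⟨e s, (map_ne_zero e).2 hs, by rw [v, v, ← map_mul, e', map_mul]⟩)
  obtain ⟨r, hr, h⟩ := good_zmod (f p₁) (f p₂) (f p₃) (by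
    simp only [f, Prod.mk_add_mk, ← map_add, ha, hb, hc, map_zero, map_one])
  exact ⟨e r, (map_ne_zero e).2 hr, h.imp back (Or.imp back back)⟩

end Cfsg.Agent.ClassicalMax.DecAny.Seven
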