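import Cfsg.Agent.ClassicalMax.DecAny.PlaneClosed
import Cfsg.Agent.ClassicalMax.DecAny.PlaneAll
import Cfsg.Agent.ClassicalMax.DecAny.PlaneSeven

/-!
An overgroup of the stabiliser of a decomposition into at least five planes containing an element not permuting the
planes contains the whole group of root elements.
-/

set_option autoImplicit false
set_option linter.unusedSectionVars false
set_option linter.style.haveILetI false

namespace Cfsg.Agent.ClassicalMax.DecAny

open Module QuadraticMap Cfsg.Agent.Classical Cfsg.Agent.Classical.Quad Cfsg.Agent.ClassicalMax.RootPlanes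
open Cfsg.Agent.ClassicalMax.DecOrth (Maps)

variable {F V : Type*} [Field F] [Finite F] [AddCommGroup V] [Module F V] [FiniteDimensional F V]
  {Q : QuadraticForm F V} {t : ℕ} {D : Fin t → Submodule F V} {H : Subgroup (oG Q)}

/-- the component is zero or anisotropic -/
def Bad (h : Plane Q D) (b : Fin t) (z : V) : Prop := pr h.toPre b z = 0 ∨ Q (pr h.toPre b z) ≠ 0

theorem failure_core (h : Plane Q D) (hO : PlaneOver D H) (hB : RelClosed D H) (hq : 7 ≤ Nat.card F)
    {k₀ : oG Q} (hk₀ : k₀ ∈ H) {a b₁ b₂ : Fin t} (hb : b₂ ≠ b₁) {e f : V} (he : e ∈ D a) (hf : f ∈ D a)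
    (heq : Q e = 0) (hfq : Q f = 0) (hef : polar Q e f = 1) (hf₁ : pr h.toPre b₁ (k₀.1 f) = 0)
    (hf₂ : pr h.toPre b₂ (k₀.1 f) = 0) (hne : pr h.toPre b₁ (k₀.1 e) ≠ 0)
    (hs : Q (pr h.toPre b₁ (k₀.1 e)) = 0) : False := by
  obtain ⟨μ, hμ0, hμ1, τ, hτ, hτz⟩ := torus h hO hq he hf heq hfq hef
  set E := k₀.1 e with hE
  set G := k₀.1 f with hG
  have hEG : polar Q E G = 1 := by rw [hE, hG, polar_oG, hef]
  have hEE : polar Q E E = 0 := by rw [hE, polar_oG, polar_self', heq, mul_zero]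
  have hGG : polar Q G G = 0 := by rw [hG, polar_oG, polar_self', hfq, mul_zero]
  have hback : ∀ z w, polar Q (k₀⁻¹.1 z) w = polar Q z (k₀.1 w) := fun z w => by
    rw [← polar_oG k₀ (k₀⁻¹.1 z) w, oG_apply_inv]
  set g₁ := k₀ * τ * k₀⁻¹
  have hg₁ : g₁ ∈ H := mul_mem (mul_mem hk₀ hτ) (inv_mem hk₀)
  have hg₁z : ∀ z, g₁.1 z = z + ((μ - 1) * polar Q z G) • E + ((μ⁻¹ - 1) * polar Q z E) • G := fun z => by
    simp only [g₁, oG_mul_apply, hτz, map_add, map_smul, oG_apply_inv, hback, hE, hG]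
  have hε := pr_mem h.toPre b₁ E
  set ε := pr h.toPre b₁ E with hεdef
  obtain ⟨f₁, hf₁m, hf₁q, hεf⟩ := partner h.toPre hε hne hs
  obtain ⟨ν, hν0, hν1, π, hπ, hπz⟩ := torus h hO hq hε hf₁m hs hf₁q hεf
  have pEf : polar Q E f₁ = 1 := by rw [← pr_polar h.toPre b₁ E hf₁m, ← hεdef, hεf]
  have pEε : polar Q E ε = 0 := by rw [← pr_polar h.toPre b₁ E hε, ← hεdef, polar_self', hs, mul_zero]
  have pGf : polar Q G f₁ = 0 := perp_of_pr h.toPre hf₁ f₁ hf₁m
  have pGε : polar Q G ε = 0 := perp_of_pr h.toPre hf₁ ε hε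
  have hπG : π.1 G = G := by rw [hπz, pGf, pGε]; simp
  have hπE : π.1 E = E + (ν - 1) • ε := by rw [hπz, pEf, pEε]; simp
  have hbackπ : ∀ z w, polar Q (π⁻¹.1 z) w = polar Q z (π.1 w) := fun z w => by
    rw [← polar_oG π (π⁻¹.1 z) w, oG_apply_inv]
  set g₂ := π * g₁ * π⁻¹
  have hg₂ : g₂ ∈ H := mul_mem (mul_mem hπ hg₁) (inv_mem hπ)
  have hg₂z : ∀ z, g₂.1 z = z + ((μ - 1) * polar Q z G) • (E + (ν - 1) • ε) +
      ((μ⁻¹ - 1) * polar Q z (E + (ν - 1) • ε)) • G := fun z => by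
    simp only [g₂, oG_mul_apply, hg₁z, map_add, map_smul, oG_apply_inv, hbackπ, hπG, hπE]
  obtain ⟨u, hu, huq⟩ := exists_value h b₂ one_ne_zero
  have puG : polar Q u G = 0 := by rw [polar_comm]; exact perp_of_pr h.toPre hf₂ u hu
  have puε : polar Q u ε = 0 := h.perp b₂ b₁ hb u hu ε hε
  set s := g₁⁻¹ * g₂
  have hsu : s.1 u = u := by
    have : g₂.1 u = g₁.1 u := by
      rw [hg₁z, hg₂z, puG, polar_add_right, polar_smul_right, puε]; simp
    rw [oG_mul_apply, this, oG_inv_apply]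
  obtain ⟨σ, hσ⟩ := mono_of_fix h hO hB (mul_mem (inv_mem hg₁) hg₂) hu (by rw [huq]; exact one_ne_zero) (o := b₂)
    (by rw [hsu]; exact hu)
  have hgG : g₁.1 G = μ⁻¹ • G := by
    rw [hg₁z, hGG, polar_comm Q G E, hEG]; module
  have hinvG : g₁⁻¹.1 G = μ • G := by
    have := oG_inv_apply g₁ G
    rw [hgG, map_smul] at this
    rw [show g₁⁻¹.1 G = μ • (μ⁻¹ • g₁⁻¹.1 G) from (smul_inv_smul₀ hμ0 _).symm, this]
  have pfε : polar Q f₁ ε = 1 := by rw [polar_comm, hεf]
  set c := (μ⁻¹ - 1) * (ν - 1)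
  have hc : c ≠ 0 := mul_ne_zero (sub_ne_zero.2 fun e' => hμ1 (inv_eq_one.1 e')) (sub_ne_zero.2 hν1)
  have hsf : s.1 f₁ = f₁ + (c * μ) • G := by
    have : g₂.1 f₁ = g₁.1 f₁ + c • G := by
      rw [hg₁z, hg₂z, polar_comm Q f₁ G, pGf, polar_add_right, polar_smul_right, pfε, smul_eq_mul]
      module
    rw [oG_mul_apply, this, map_add, oG_inv_apply, map_smul, hinvG, smul_smul]
  have hm := hσ b₁ f₁ hf₁m
  rw [hsf] at hm
  have hf₁0 : f₁ ≠ 0 := fun e' => by rw [e'] at hεf; simp [polar] at hεf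
  have hσb : σ b₁ = b₁ := by
    by_contra hne'
    have e1 := pr_other h.toPre (i := b₁) hne' hm
    rw [map_add, map_smul, pr_same h.toPre hf₁m, hf₁, smul_zero, add_zero] at e1
    exact hf₁0 e1
  rw [hσb] at hm
  have hGm : G ∈ D b₁ := by
    have h1 := (D b₁).smul_mem (c * μ)⁻¹ ((D b₁).sub_mem hm hf₁m)
    rwa [add_sub_cancel_left, inv_smul_smul₀ (mul_ne_zero hc hμ0)] at h1
  rw [pr_same h.toPre hGm] at hf₁
  rw [hf₁] at hEG
  simp [polar] at hEG

/-- vectors of two members of one value orthogonal to `z` -/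
def Twin (Q : QuadraticForm F V) (D : Fin t → Submodule F V) (z : V) : Prop :=
  ∃ b b', ∃ v ∈ D b, ∃ v' ∈ D b', b ≠ b' ∧ Q v ≠ 0 ∧ Q v' = Q v ∧ polar Q v z = 0 ∧ polar Q v' z = 0

theorem Twin.of_zero (h : Plane Q D) {b b' : Fin t} {z : V} (hbb : b ≠ b') (h0 : pr h.toPre b z = 0)
    (h' : Bad h b' z) : Twin Q D z := by
  obtain ⟨v', hv', hv'q, hv'z⟩ : ∃ v' ∈ D b', Q v' ≠ 0 ∧ polar Q v' z = 0 := by
    rcases h' with h' | h'
    · obtain ⟨v, hv, hvq⟩ := exists_value h b' one_ne_zero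
      exact ⟨v, hv, by rw [hvq]; exact one_ne_zero, by rw [polar_comm]; exact perp_of_pr h.toPre h' v hv⟩
    · obtain ⟨v, hv, hv0, hzv⟩ := exists_perp_vec h b' (pr h.toPre b' z)
      refine ⟨v, hv, perp_aniso h (pr_mem h.toPre b' z) hv h' hv0 hzv, ?_⟩
      rw [pr_polar h.toPre b' z hv, polar_comm] at hzv
      exact hzv
  obtain ⟨v, hv, hvq⟩ := exists_value h b hv'q
  exact ⟨b, b', v, hv, v', hv', hbb, by rw [hvq]; exact hv'q, hvq.symm,
    by rw [polar_comm]; exact perp_of_pr h.toPre h0 v hv, hv'z⟩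

/-- in a hyperbolic member the value of a perpendicular vector -/
theorem perp_value (h : Plane Q D) {b : Fin t} (hs : ∃ f ∈ D b, f ≠ 0 ∧ Q f = 0) {c n : V} (hc : c ∈ D b)
    (hn : n ∈ D b) (hcq : Q c ≠ 0) (hn0 : n ≠ 0) (hcn : polar Q c n = 0) :
    ∃ k : F, k ≠ 0 ∧ Q n = -(k * k * Q c) := by
  have hnq := perp_aniso h hc hn hcq hn0 hcn
  obtain ⟨f, hf, hf0, hfq⟩ := hs
  by_cases hnc : n ∈ Submodule.span F ({c} : Set V)
  · obtain ⟨r, rfl⟩ := Submodule.mem_span_singleton.1 hnc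
    have hr : r ≠ 0 := fun e => hn0 (by rw [e, zero_smul])
    rw [polar_smul_right, polar_self', smul_eq_mul] at hcn
    have h2 : (2 : F) = 0 := (mul_eq_zero.1 ((mul_eq_zero.1 hcn).resolve_left hr)).resolve_right hcq
    exact ⟨r, hr, by rw [map_smul']; linear_combination (r * r * Q c) * h2⟩
  obtain ⟨α, β, rfl⟩ := span_two h hc hn (fun e => hcq (by rw [e, map_zero])) hnc hf
  have e : α * α * Q c + β * β * Q n = 0 := by
    rw [map_add', map_smul', map_smul', polar_smul_left, polar_smul_right, hcn] at hfq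
    simpa using hfq
  have hβ : β ≠ 0 := fun hb => by
    rw [hb, mul_zero, zero_mul, add_zero] at e
    refine hf0 ?_
    rw [mul_self_eq_zero.1 ((mul_eq_zero.1 e).resolve_right hcq), hb]
    simp
  refine ⟨α / β, div_ne_zero (fun ha => ?_) hβ, by field_simp; linear_combination e⟩
  rw [ha, mul_zero, zero_mul, zero_add] at e
  exact hnq ((mul_eq_zero.1 e).resolve_left (mul_ne_zero hβ hβ))

theorem Twin.of_square (h : Plane Q D) (hsing : ∀ i, ∃ f ∈ D i, f ≠ 0 ∧ Q f = 0) {b b' : Fin t} {z : V}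
    (hbb : b ≠ b') {s : F} (hs : s ≠ 0) (he : Q (pr h.toPre b z) * Q (pr h.toPre b' z) = s * s) : Twin Q D z := by
  have hc : Q (pr h.toPre b z) ≠ 0 := fun e => mul_ne_zero hs hs (by rw [← he, e, zero_mul])
  have hc' : Q (pr h.toPre b' z) ≠ 0 := fun e => mul_ne_zero hs hs (by rw [← he, e, mul_zero])
  obtain ⟨n, hn, hn0, hzn⟩ := exists_perp_vec h b (pr h.toPre b z)
  obtain ⟨n', hn', hn'0, hzn'⟩ := exists_perp_vec h b' (pr h.toPre b' z)
  obtain ⟨k, hk, hk'⟩ := perp_value h (hsing b) (pr_mem h.toPre b z) hn hc hn0 hzn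
  obtain ⟨k', hkk, hkk'⟩ := perp_value h (hsing b') (pr_mem h.toPre b' z) hn' hc' hn'0 hzn'
  rw [pr_polar h.toPre b z hn, polar_comm] at hzn
  rw [pr_polar h.toPre b' z hn', polar_comm] at hzn'
  refine ⟨b, b', n, hn, (k * Q (pr h.toPre b z) / (k' * s)) • n', (D b').smul_mem _ hn', hbb, ?_, ?_, hzn, ?_⟩
  · rw [hk']; exact neg_ne_zero.2 (mul_ne_zero (mul_ne_zero hk hk) hc)
  · rw [map_smul', hk', hkk']
    field_simp
    linear_combination -he
  · rw [polar_smul_left, hzn', smul_zero]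

/-- some vector of a member has an image with three zero or anisotropic components -/
theorem exists_bad_three (h : Plane Q D) (hO : PlaneOver D H) (hB : RelClosed D H) {k₀ : oG Q} (hk₀ : k₀ ∈ H) :
    ∃ (i : Fin t) (u : V), u ∈ D i ∧ Q u ≠ 0 ∧ (Twin Q D (k₀.1 u) ∨ ∃ b₁ b₂ b₃ : Fin t, b₁ ≠ b₂ ∧ b₁ ≠ b₃ ∧
      b₂ ≠ b₃ ∧ Bad h b₁ (k₀.1 u) ∧ Bad h b₂ (k₀.1 u) ∧ Bad h b₃ (k₀.1 u)) := by
  classical
  let a : Fin t := ⟨0, by have := h.five; omega⟩
  rcases h.kind with ⟨hq, hsing⟩ | ⟨-, han⟩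
  swap
  · obtain ⟨u, hu, huq⟩ := exists_value h a one_ne_zero
    let b : Fin t := ⟨1, by have := h.five; omega⟩
    let c : Fin t := ⟨2, by have := h.five; omega⟩
    have hbad : ∀ o z, Bad h o z := fun o z => or_iff_not_imp_right.2 fun e =>
      han o _ (pr_mem h.toPre o z) (not_not.1 e)
    exact ⟨a, u, hu, by rw [huq]; exact one_ne_zero, Or.inr ⟨a, b, c, fun e => Nat.zero_ne_one (Fin.mk.inj e),
      fun e => absurd (Fin.mk.inj e) (by omega), fun e => absurd (Fin.mk.inj e) (by omega), hbad _ _, hbad _ _,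
      hbad _ _⟩⟩
  by_contra hn
  push Not at hn
  have := Fintype.ofFinite F
  obtain ⟨e, he, he0, heq⟩ := hsing a
  obtain ⟨f, hf, hfq, hef⟩ := partner h.toPre he he0 heq
  have hf0 : f ≠ 0 := fun e' => by rw [e'] at hef; simp [polar] at hef
  have hfe : f ∉ Submodule.span F ({e} : Set V) := fun hm => by
    obtain ⟨r, rfl⟩ := Submodule.mem_span_singleton.1 hm
    rw [polar_smul_right, polar_self', heq] at hef
    simp at hef
  obtain ⟨S, hS, hScard⟩ : ∃ S : Finset F, S ⊆ Finset.univ.erase 0 ∧ S.card = Fintype.card F - 1 :=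
    ⟨_, subset_rfl, by rw [Finset.card_erase_of_mem (Finset.mem_univ _), Finset.card_univ]⟩
  have hval : ∀ r : F, Q (e + r • f) = r := fun r => by rw [map_add_smul, heq, hfq, hef]; ring
  set A : Fin t → V →ₗ[F] V := fun b => pr h.toPre b ∘ₗ k₀.1.toLinearMap with hA
  let Ok : Fin t → Prop := fun b => (∀ z ∈ D a, Q (A b z) = 0) ∧ ∃ z ∈ D a, A b z ≠ 0
  -- a member that is not `Ok` is bad for three of the five vectors
  have hmany : ∀ b, ¬ Ok b → Fintype.card F - 3 ≤ (S.filter fun r => Bad h b (k₀.1 (e + r • f))).card := by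
    intro b hb
    by_contra hlt
    have hsum := Finset.card_filter_add_card_filter_not (s := S) (fun r => Bad h b (k₀.1 (e + r • f)))
    obtain ⟨r₁, h1, r₂, h2, r₃, h3, h12, h13, h23⟩ := Finset.two_lt_card.1
      (show 2 < (S.filter fun r => ¬ Bad h b (k₀.1 (e + r • f))).card by omega)
    simp only [Finset.mem_filter, Bad, not_or, not_not] at h1 h2 h3
    have root : ∀ {r : F}, Q (pr h.toPre b (k₀.1 (e + r • f))) = 0 →
        Q (A b f) * (r * r) + polar Q (A b e) (A b f) * r + Q (A b e) = 0 := fun {r} hr => by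
      rw [map_add, map_smul, map_add, map_smul, map_add_smul] at hr
      simp only [hA, LinearMap.comp_apply, LinearEquiv.coe_coe]
      linear_combination hr
    obtain ⟨q1, q2, q3⟩ := coef_of_three h12 h13 h23 (root h1.2.2) (root h2.2.2) (root h3.2.2)
    refine hb ⟨fun z hz => ?_, e + r₁ • f, (D a).add_mem he ((D a).smul_mem _ hf), h1.2.1⟩
    obtain ⟨α, β, rfl⟩ := span_two h he hf he0 hfe hz
    rw [map_add, map_smul, map_smul, map_add_smul, map_smul', polar_smul_left, q1, q2, q3]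
    simp
  -- at most three members are not `Ok`, and at most two unless there are seven elements
  have hfew : (Finset.univ.filter fun b => ¬ Ok b).card ≤ 2 ∨
      ((Finset.univ.filter fun b => ¬ Ok b).card = 3 ∧ Fintype.card F = 7) := by
    have h1 := Finset.card_mul_le_card_mul (fun b r => Bad h b (k₀.1 (e + r • f)))
      (s := Finset.univ.filter fun b => ¬ Ok b) (t := S) (m := Fintype.card F - 3) (n := 2)
      (fun b hb => hmany b (Finset.mem_filter.1 hb).2) fun r hr => by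
        by_contra hgt
        obtain ⟨b₁, h1, b₂, h2, b₃, h3, h12, h13, h23⟩ := Finset.two_lt_card.1 (not_le.1 hgt)
        simp only [Finset.mem_bipartiteBelow] at h1 h2 h3
        exact (hn a (e + r • f) ((D a).add_mem he ((D a).smul_mem _ hf))
          (by rw [hval]; exact (Finset.mem_erase.1 (hS hr)).1)).2 b₁ b₂ b₃ h12 h13 h23 h1.2 h2.2 h3.2
    rw [hScard] at h1
    rw [Nat.card_eq_fintype_card] at hq
    obtain ⟨d, hd⟩ := Nat.exists_eq_add_of_le hq
    rw [hd, show 7 + d - 3 = 4 + d by omega, show 7 + d - 1 = 6 + d by omega] at h1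
    rw [hd]
    generalize (Finset.univ.filter fun b => ¬ Ok b).card = M at h1 ⊢
    rcases Nat.lt_or_ge M 3 with hM | hM
    · exact Or.inl (by omega)
    · refine Or.inr ?_
      have := Nat.mul_le_mul_right (4 + d) hM
      have hd0 : d = 0 := by omega
      subst hd0
      omega
  -- the kernel at an `Ok` member is a singular line
  have hker : ∀ b, Ok b → A b e = 0 ∨ A b f = 0 := by
    rintro b ⟨hnull, hne⟩
    have hme : A b e ∈ D b := pr_mem h.toPre b _
    have hmf : A b f ∈ D b := pr_mem h.toPre b _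
    obtain ⟨α, β, hαβ, hzero⟩ : ∃ α β : F, ¬ (α = 0 ∧ β = 0) ∧ A b (α • e + β • f) = 0 := by
      by_cases h0 : A b e = 0
      · exact ⟨1, 0, by simp, by simp [h0]⟩
      by_cases hm : A b f ∈ Submodule.span F ({A b e} : Set V)
      · obtain ⟨r, hr⟩ := Submodule.mem_span_singleton.1 hm
        exact ⟨r, -1, by simp, by rw [map_add, map_smul, map_smul, ← hr]; module⟩
      exfalso
      have p0 : polar Q (A b e) (A b f) = 0 := by
        have := hnull _ ((D a).add_mem he hf)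
        rw [map_add, map_add', hnull e he, hnull f hf] at this
        linear_combination this
      refine h0 (h.ndD b _ hme fun w hw => ?_)
      obtain ⟨x, y, rfl⟩ := span_two h hme hmf h0 hm hw
      rw [polar_add_right, polar_smul_right, polar_smul_right, polar_self', hnull e he, p0, mul_zero, smul_zero,
        smul_zero, add_zero]
    set n := α • e + β • f
    have hnm : n ∈ D a := (D a).add_mem ((D a).smul_mem _ he) ((D a).smul_mem _ hf)
    by_cases hnq : Q n = 0
    · have : α * β = 0 := by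
        rw [map_add', map_smul', map_smul', polar_smul_left, polar_smul_right, heq, hfq, hef, smul_eq_mul,
          smul_eq_mul] at hnq
        linear_combination hnq
      rw [map_add, map_smul, map_smul] at hzero
      rcases mul_eq_zero.1 this with h0 | h0
      · rw [h0, zero_smul, zero_add] at hzero
        exact Or.inr ((smul_eq_zero.1 hzero).resolve_left fun e' => hαβ ⟨h0, e'⟩)
      · rw [h0, zero_smul, add_zero] at hzero
        exact Or.inl ((smul_eq_zero.1 hzero).resolve_left fun e' => hαβ ⟨e', h0⟩)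
    exfalso
    obtain ⟨z₁, z₂, -, m1, m2, -, q1, q2, -, hind, -, -⟩ := exists_three h a hnq
    have kill : ∀ z ∈ D a, Q z = Q n → A b z = 0 := fun z hz hzq => by_contra fun hAz =>
      no_half h hO hB hq ((rel_members h hO hnm hz hnq hzq).conj hk₀) hzero (hnull z hz) hAz
    obtain ⟨z, hz, hAz⟩ := hne
    obtain ⟨x, y, rfl⟩ := span_two h m1 m2 (fun e' => hnq (by rw [← q1, e', map_zero])) hind hz
    exact hAz (by rw [map_add, map_smul, map_smul, kill z₁ m1 q1, kill z₂ m2 q2, smul_zero, smul_zero, add_zero])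
  -- two `Ok` members with the same kernel
  have hok : 2 < (Finset.univ.filter fun b => Ok b).card := by
    have := Finset.card_filter_add_card_filter_not (s := (Finset.univ : Finset (Fin t))) (fun b => Ok b)
    rw [Finset.card_univ, Fintype.card_fin] at this
    have := h.five
    rcases hfew with hle | ⟨hthree, hseven⟩
    · omega
    exfalso
    obtain ⟨b₁, b₂, b₃, h12, h13, h23, hN⟩ := Finset.card_eq_three.1 hthree
    let P : Fin t → F × F × F := fun b => (Q (A b f), polar Q (A b e) (A b f), Q (A b e))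
    have hP : ∀ b r, Seven.evF (P b) r = Q (pr h.toPre b (k₀.1 (e + r • f))) := fun b r => by
      rw [map_add, map_smul, map_add, map_smul, map_add_smul]
      simp only [P, hA, Seven.evF, LinearMap.comp_apply, LinearEquiv.coe_coe]
      ring
    have hOkP : ∀ b, Ok b → P b = 0 := fun b hb => by
      have p0 := hb.1 _ ((D a).add_mem he hf)
      rw [map_add, map_add', hb.1 e he, hb.1 f hf] at p0
      simp only [P, hb.1 e he, hb.1 f hf, Prod.ext_iff, Prod.fst_zero, Prod.snd_zero]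
      exact ⟨trivial, by linear_combination p0, trivial⟩
    have hzero : ∀ b, ¬ Ok b → P b = 0 → ∀ r, pr h.toPre b (k₀.1 (e + r • f)) = 0 := fun b hb hp r => by
      by_contra hne
      simp only [P, Prod.ext_iff, Prod.fst_zero, Prod.snd_zero] at hp
      refine hb ⟨fun z hz => ?_, e + r • f, (D a).add_mem he ((D a).smul_mem _ hf), hne⟩
      obtain ⟨α, β, rfl⟩ := span_two h he hf he0 hfe hz
      rw [map_add, map_smul, map_smul, map_add_smul, map_smul', polar_smul_left, hp.1, hp.2.1, hp.2.2]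
      simp
    have hsumP : P b₁ + P b₂ + P b₃ = (0, 1, 0) := by
      have e1 : ∑ b, P b = ∑ b ∈ Finset.univ.filter (fun b => ¬ Ok b), P b :=
        (Finset.sum_subset (Finset.subset_univ _) fun b _ hb => hOkP b (by simpa using hb)).symm
      rw [hN, Finset.sum_insert (by simp [h12, h13]), Finset.sum_pair h23, ← add_assoc] at e1
      have hQ : ∀ z, ∑ b, Q (A b z) = Q z := fun z => by
        simp only [hA, LinearMap.comp_apply, LinearEquiv.coe_coe]
        rw [← Q_eq_sum h.toPre, k₀.2]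
      rw [← e1]
      refine Prod.ext ?_ (Prod.ext ?_ ?_)
      · rw [Prod.fst_sum]; simp only [P]; rw [hQ f, hfq]
      · rw [Prod.snd_sum, Prod.fst_sum]
        simp only [P]
        have e3 : ∀ b, polar Q (A b e) (A b f) = Q (A b (e + f)) - Q (A b e) - Q (A b f) := fun b => by
          rw [map_add, map_add']; ring
        simp only [e3, Finset.sum_sub_distrib, hQ, map_add', heq, hfq, hef]
        ring
      · rw [Prod.snd_sum, Prod.snd_sum]; simp only [P]; rw [hQ e, heq]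
    simp only [Prod.ext_iff, Prod.fst_add, Prod.snd_add] at hsumP
    obtain ⟨r, hr0, hgood⟩ := Seven.good hseven (P b₁) (P b₂) (P b₃) hsumP.1 hsumP.2.1 hsumP.2.2
    have hnot : ∀ b ∈ ({b₁, b₂, b₃} : Finset (Fin t)), ¬ Ok b := fun b hb => by
      rw [← hN, Finset.mem_filter] at hb; exact hb.2
    refine (hn a (e + r • f) ((D a).add_mem he ((D a).smul_mem _ hf)) (by rw [hval]; exact hr0)).1 ?_
    have twin : ∀ {b b' : Fin t}, b ≠ b' → ¬ Ok b → ¬ Ok b' → Seven.Pair (P b) (P b') r →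
        Twin Q D (k₀.1 (e + r • f)) := fun {b b'} hbb hb hb' hp => by
      rcases hp with ⟨hp, hq'⟩ | ⟨hq', hp⟩ | ⟨s, hs, hp⟩
      · refine Twin.of_zero h hbb (hzero b hb hp r) (hq'.imp (fun e' => hzero b' hb' e' r) fun e' => ?_)
        rwa [← hP]
      · exact Twin.of_zero h hbb.symm (hzero b' hb' hq' r) (Or.inr (by rwa [← hP]))
      · exact Twin.of_square h hsing hbb hs (by rwa [← hP, ← hP])
    rcases hgood with g | g | g
    exacts [twin h12 (hnot _ (by simp)) (hnot _ (by simp)) g, twin h13 (hnot _ (by simp)) (hnot _ (by simp)) g,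
      twin h23 (hnot _ (by simp)) (hnot _ (by simp)) g]
  obtain ⟨b₁, h1, b₂, h2, b₃, h3, h12, h13, h23⟩ := Finset.two_lt_card.1 hok
  simp only [Finset.mem_filter, Finset.mem_univ, true_and] at h1 h2 h3
  have fin : ∀ {e f : V}, e ∈ D a → f ∈ D a → Q e = 0 → Q f = 0 → polar Q e f = 1 → e ≠ 0 →
      ∀ {p r}, r ≠ p → Ok p → A p f = 0 → A r f = 0 → False := fun {e f} he hf heq hfq hef he0 {p r} hpr hp h1 h2 => by
    obtain ⟨hnull, z, hz, hne⟩ := hp
    refine failure_core h hO hB hq hk₀ hpr he hf heq hfq hef h1 h2 (fun e' => hne ?_) (hnull e he)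
    have hfe : f ∉ Submodule.span F ({e} : Set V) := fun hm => by
      obtain ⟨r, rfl⟩ := Submodule.mem_span_singleton.1 hm
      rw [polar_smul_right, polar_self', heq] at hef
      simp at hef
    obtain ⟨x, y, rfl⟩ := span_two h he hf he0 hfe hz
    have e'' : A p e = 0 := e'
    rw [map_add, map_smul, map_smul, e'', h1, smul_zero, smul_zero, add_zero]
  have F1 : ∀ {p r}, r ≠ p → Ok p → A p f = 0 → A r f = 0 → False := fin he hf heq hfq hef he0
  have F2 : ∀ {p r}, r ≠ p → Ok p → A p e = 0 → A r e = 0 → False :=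
    fin hf he hfq heq (by rw [polar_comm, hef]) hf0
  rcases hker _ h1 with k1 | k1 <;> rcases hker _ h2 with k2 | k2 <;> rcases hker _ h3 with k3 | k3 <;>
    first
    | exact F2 h12.symm h1 k1 k2
    | exact F2 h13.symm h1 k1 k3
    | exact F2 h23.symm h2 k2 k3
    | exact F1 h12.symm h1 k1 k2
    | exact F1 h13.symm h1 k1 k3
    | exact F1 h23.symm h2 k2 k3

/-- two of three members give proportional square classes -/
theorem same_class {c₁ c₂ c₃ : F} (h1 : c₁ ≠ 0) (h2 : c₂ ≠ 0) (h3 : c₃ ≠ 0) :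
    (∃ s, c₁ = s * s * c₂) ∨ (∃ s, c₁ = s * s * c₃) ∨ (∃ s, c₂ = s * s * c₃) := by
  have key : ∀ {c d r s T : F}, c ≠ 0 → r * r * c = T → s * s * d = T → T ≠ 0 → ∃ x, c = x * x * d :=
    fun {c d r s T} hc e1 e2 hT => by
    have hr : r ≠ 0 := fun e => hT (by rw [← e1, e]; ring)
    exact ⟨s / r, by field_simp; linear_combination e1 - e2⟩
  by_cases hns : ∃ α : F, ¬ IsSquare α
  · obtain ⟨α, hα⟩ := hns
    have hα0 : α ≠ 0 := fun e => hα (e ▸ IsSquare.zero)
    rcases square_or_div_square hα h1 with ⟨a, ha⟩ | ⟨a, ha⟩ <;>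
      rcases square_or_div_square hα h2 with ⟨b, hb⟩ | ⟨b, hb⟩ <;>
      rcases square_or_div_square hα h3 with ⟨c, hc⟩ | ⟨c, hc⟩ <;>
      first
      | exact Or.inl (key h1 ha hb one_ne_zero)
      | exact Or.inl (key h1 ha hb hα0)
      | exact Or.inr (Or.inl (key h1 ha hc one_ne_zero))
      | exact Or.inr (Or.inl (key h1 ha hc hα0))
      | exact Or.inr (Or.inr (key h2 hb hc one_ne_zero))
      | exact Or.inr (Or.inr (key h2 hb hc hα0))
  · push Not at hns
    obtain ⟨r, hr⟩ := hns (c₁ / c₂)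
    exact Or.inl ⟨r, by rw [← hr, div_mul_cancel₀ _ h2]⟩

/-- in the closed case the overgroup permutes the members -/
theorem closed_false (h : Plane Q D) (hO : PlaneOver D H) (hB : RelClosed D H) {g : oG Q} (hg : g ∈ H)
    (hno : ∀ i, ∀ v ∈ D i, Q v ≠ 0 → ∀ o, g.1 v ∉ D o) : False := by
  classical
  obtain ⟨l, u, hu, huq, hcase⟩ := exists_bad_three h hO hB (inv_mem hg)
  set z := g⁻¹.1 u with hz
  have perp : ∀ b, Bad h b z → ∃ v ∈ D b, Q v ≠ 0 ∧ polar Q v z = 0 := fun b hb => by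
    rcases hb with hb | hb
    · obtain ⟨v, hv, hvq⟩ := exists_value h b one_ne_zero
      exact ⟨v, hv, by rw [hvq]; exact one_ne_zero, by rw [polar_comm]; exact perp_of_pr h.toPre hb v hv⟩
    · obtain ⟨v, hv, hv0, hzv⟩ := exists_perp_vec h b (pr h.toPre b z)
      refine ⟨v, hv, perp_aniso h (pr_mem h.toPre b z) hv hb hv0 hzv, ?_⟩
      rw [pr_polar h.toPre b z hv, polar_comm] at hzv
      exact hzv
  obtain ⟨a, a', v, v', haa, hv, hv', hvq, hvv, hvz, hvz'⟩ : ∃ a a' v v', a ≠ a' ∧ v ∈ D a ∧ v' ∈ D a' ∧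
      Q v ≠ 0 ∧ Q v' = Q v ∧ polar Q v z = 0 ∧ polar Q v' z = 0 := by
    rcases hcase with ⟨b, b', v, hv, v', hv', hbb, hq1, hq2, hz1, hz2⟩ | ⟨b₁, b₂, b₃, h12, h13, h23, B1, B2, B3⟩
    · exact ⟨b, b', v, v', hbb, hv, hv', hq1, hq2, hz1, hz2⟩
    obtain ⟨v₁, m₁, q₁, p₁⟩ := perp b₁ B1
    obtain ⟨v₂, m₂, q₂, p₂⟩ := perp b₂ B2
    obtain ⟨v₃, m₃, q₃, p₃⟩ := perp b₃ B3
    rcases same_class q₁ q₂ q₃ with ⟨s, hs⟩ | ⟨s, hs⟩ | ⟨s, hs⟩
    · exact ⟨b₁, b₂, v₁, s • v₂, h12, m₁, (D b₂).smul_mem _ m₂, q₁, by rw [map_smul', hs], p₁,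
        by rw [polar_smul_left, p₂, smul_zero]⟩
    · exact ⟨b₁, b₃, v₁, s • v₃, h13, m₁, (D b₃).smul_mem _ m₃, q₁, by rw [map_smul', hs], p₁,
        by rw [polar_smul_left, p₃, smul_zero]⟩
    · exact ⟨b₂, b₃, v₂, s • v₃, h23, m₂, (D b₃).smul_mem _ m₃, q₂, by rw [map_smul', hs], p₂,
        by rw [polar_smul_left, p₃, smul_zero]⟩
  set x := g.1 v with hx
  -- no component of an image outside the two members of `x`
  have pair : ∀ {b w}, b ≠ a → w ∈ D b → Q w = Q v → Rel H x (g.1 w) ∧ polar Q x (g.1 w) = 0 ∧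
      g.1 w ∉ Submodule.span F ({x} : Set V) := fun {b w} hba hw hwq =>
    ⟨(rel_members h hO hv hw hvq hwq).conj hg, by rw [hx, polar_oG, h.perp a b hba.symm v hv w hw], fun hm => by
      obtain ⟨r, hr⟩ := Submodule.mem_span_singleton.1 hm
      rw [hx, ← map_smul] at hr
      have hw' : w ∈ D a := g.1.injective hr ▸ (D a).smul_mem r hv
      exact hvq (by rw [← hwq, eq_zero_of_two h.toPre hba hw hw', map_zero])⟩
  have kill : ∀ {b w}, b ≠ a → w ∈ D b → Q w = Q v → ∀ {k n}, n ∈ D k → Q n ≠ 0 → polar Q x n = 0 →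
      polar Q (g.1 w) n = 0 → ∀ {o₁ o₂ o₃}, o₁ ≠ o₂ → o₁ ≠ o₃ → o₂ ≠ o₃ →
      (pr h.toPre o₁ x ≠ 0 ∨ pr h.toPre o₁ (g.1 w) ≠ 0) → (pr h.toPre o₂ x ≠ 0 ∨ pr h.toPre o₂ (g.1 w) ≠ 0) →
      (pr h.toPre o₃ x ≠ 0 ∨ pr h.toPre o₃ (g.1 w) ≠ 0) → False := by
    intro b w hba hw hwq k n hn hnq hxn hwn o₁ o₂ o₃ e12 e13 e23 n1 n2 n3
    obtain ⟨⟨hxq, hyq, -, hm⟩, hxy, hyx⟩ := pair hba hw hwq
    obtain ⟨σ, hσ⟩ := mono_of_fix h hO hB hm hn hnq (o := k)
      (by rw [oG_mul_apply, rO_fix hyq (by rw [polar_comm, hwn]), rO_fix hxq (by rw [polar_comm, hxn])]; exact hn)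
    exact classify h hxq hyq hxy hyx hσ e12 e13 e23 n1 n2 n3
  have hgz : g.1 z = u := oG_apply_inv g u
  have huperp : ∀ {w}, polar Q w z = 0 → polar Q (g.1 w) u = 0 := fun {w} hw => by rw [← hgz, polar_oG, hw]
  obtain ⟨i, hi⟩ : ∃ i, pr h.toPre i x ≠ 0 := by
    by_contra hn
    push Not at hn
    exact hno a v hv hvq a (mem_of_pr h.toPre fun o _ => hn o)
  obtain ⟨j, hji, hj⟩ := exists_pr_ne h.toPre (hno a v hv hvq i)
  have hsup : ∀ o, o ≠ i → o ≠ j → pr h.toPre o x = 0 := fun o hoi hoj => by_contra fun hne =>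
    kill haa.symm hv' hvv hu huq (huperp hvz) (huperp hvz') hji.symm hoi.symm hoj.symm (Or.inl hi) (Or.inl hj)
      (Or.inl hne)
  have himg : ∀ b, b ≠ a → ∀ y ∈ D b, g.1 y ∈ D i ⊔ D j := by
    intro b hba
    have hone : ∀ w ∈ D b, Q w = Q v → g.1 w ∈ D i ⊔ D j := fun w hw hwq => by
      rw [← sum_pr h.toPre (g.1 w)]
      refine Submodule.sum_mem _ fun o _ => ?_
      by_cases hoi : o = i
      · subst hoi; exact Submodule.mem_sup_left (pr_mem _ _ _)
      by_cases hoj : o = j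
      · subst hoj; exact Submodule.mem_sup_right (pr_mem _ _ _)
      have : pr h.toPre o (g.1 w) = 0 := by
        by_contra hne
        by_cases hs : Q (pr h.toPre o (g.1 w)) = 0
        · rcases h.kind with ⟨hq, -⟩ | ⟨-, han⟩
          · exact no_half h hO hB hq (pair hba hw hwq).1 (hsup o hoi hoj) hs hne
          · exact hne (han o _ (pr_mem _ _ _) hs)
        · obtain ⟨n, hn, hn0, hwn⟩ := exists_perp_vec h o (pr h.toPre o (g.1 w))
          refine kill hba hw hwq hn (perp_aniso h (pr_mem _ _ _) hn hs hn0 hwn)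
            (perp_of_pr h.toPre (hsup o hoi hoj) n hn) ?_ hji.symm (Ne.symm hoi) (Ne.symm hoj) (Or.inl hi) (Or.inl hj)
            (Or.inr hne)
          rwa [pr_polar h.toPre o _ hn] at hwn
      rw [this]; exact zero_mem _
    obtain ⟨w, w', -, hw, hw', -, hwq, hwq', -, hind, -, -⟩ := exists_three h b hvq
    intro y hy
    obtain ⟨α, β, rfl⟩ := span_two h hw hw' (fun e => hvq (by rw [← hwq, e, map_zero])) hind hy
    rw [map_add, map_smul, map_smul]
    exact Submodule.add_mem _ (Submodule.smul_mem _ _ (hone w hw hwq)) (Submodule.smul_mem _ _ (hone w' hw' hwq'))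
  obtain ⟨c, hca, hca', -, -⟩ := exists_out_four h a a' a a'
  set M := D a' ⊔ D c with hM
  have hvM : v ∉ M := fun hm => by
    obtain ⟨y, hy, y', hy', e⟩ := Submodule.mem_sup.1 hm
    have e1 := congrArg (pr h.toPre a) e
    rw [map_add, pr_other h.toPre haa.symm hy, pr_other h.toPre hca hy', pr_same h.toPre hv, add_zero] at e1
    exact hvq (by rw [← e1, map_zero])
  have hxW : x ∈ D i ⊔ D j := by
    rw [← sum_pr h.toPre x]
    refine Submodule.sum_mem _ fun o _ => ?_
    by_cases hoi : o = i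
    · subst hoi; exact Submodule.mem_sup_left (pr_mem _ _ _)
    by_cases hoj : o = j
    · subst hoj; exact Submodule.mem_sup_right (pr_mem _ _ _)
    rw [hsup o hoi hoj]; exact zero_mem _
  have h1 : (M ⊔ Submodule.span F ({v} : Set V)).map g.1.toLinearMap ≤ D i ⊔ D j := by
    rw [Submodule.map_le_iff_le_comap]
    refine sup_le (sup_le (himg a' haa.symm) (himg c hca)) ?_
    rw [Submodule.span_singleton_le_iff_mem]
    exact hxW
  have h2 := Submodule.finrank_mono h1
  rw [LinearEquiv.finrank_map_eq] at h2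
  have h3 := Submodule.finrank_lt_finrank_of_lt (lt_of_le_of_ne (le_sup_left : M ≤ M ⊔ Submodule.span F {v})
    fun e => hvM (e ▸ Submodule.mem_sup_right (Submodule.mem_span_singleton_self v)))
  have h4 := Submodule.finrank_sup_add_finrank_inf_eq (D a') (D c)
  have h5 : finrank F (D a' ⊓ D c : Submodule F V) = 0 := by
    rw [show D a' ⊓ D c = ⊥ from (Submodule.eq_bot_iff _).2 fun y hy => eq_zero_of_two h.toPre hca'.symm hy.1 hy.2]
    exact finrank_bot F V
  have h6 := Submodule.finrank_sup_add_finrank_inf_eq (D i) (D j)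
  rw [h.dim, h.dim] at h4 h6
  change finrank F M < _ at h3
  rw [hM] at h3 h2
  omega

/-- the main theorem on overgroups -/
theorem overgroup_plane (h : Plane Q D) (hO : PlaneOver D H) {g : oG Q} (hg : g ∈ H)
    (hgS : ¬ ∃ σ : Equiv.Perm (Fin t), ∀ i, (D i).map g.1.toLinearMap = D (σ i)) : eo Q ≤ H := by
  by_cases hB : RelClosed D H
  · refine (closed_false h hO hB hg fun i v hv hvq o hgv => hgS ?_).elim
    obtain ⟨σ, hσ⟩ := mono_of_fix h hO hB hg hv hvq hgv
    exact ⟨σ, fun k => map_eq_of_le (h.eqdim _ _) (hσ k)⟩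
  · unfold RelClosed at hB
    push Not at hB
    obtain ⟨i, u, x, hu, hux, hx⟩ := hB
    exact spread h hO hu hux hx

end Cfsg.Agent.ClassicalMax.DecAny
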