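import Cfsg.Agent.ClassicalMax.DecAny.WideMain
import Cfsg.Agent.ClassicalMax.DecAny.PlaneMain
import Cfsg.Agent.ClassicalMax.DecOrth.Main
import Cfsg.Agent.Classical.QuadStd
import Cfsg.Agent.Classical.QuadTypes
import Cfsg.Prelude.Def_GeometricClasses

/-!
The stabiliser of an orthogonal decomposition into members of dimension at least two is maximal in the derived group of
an orthogonal group of dimension at least thirteen, apart from the small exceptions.
-/

set_option autoImplicit false
set_option linter.unusedSectionVars false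
set_option linter.style.haveILetI false

namespace Cfsg.Agent.ClassicalMax.DecAny

open Module QuadraticMap Cfsg.Agent.Classical Cfsg.Agent.Classical.Quad

variable {F : Type*} [Field F] [Fintype F] {ι : Type} [Fintype ι] [DecidableEq ι] {n t : ℕ} {Q : QuadraticForm F (ι → F)}
  {D : Fin t → Submodule F (ι → F)}

theorem plus_of_sing {W : Submodule F (ι → F)} (hW : finrank F W = 2) {f : ι → F} (hf : f ∈ W) (hf0 : f ≠ 0)
    (hfq : Q f = 0) : Cfsg.Geo.IsPlusTypeOn (⇑Q) W := by
  refine ⟨Submodule.span F {f}, (Submodule.span_singleton_le_iff_mem f W).2 hf, fun v hv => ?_, ?_⟩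
  · obtain ⟨r, rfl⟩ := Submodule.mem_span_singleton.1 hv
    rw [map_smul', hfq, mul_zero]
  · rw [finrank_span_singleton hf0, hW]

theorem plus_of_plane {W : Submodule F (ι → F)} (hW : finrank F W = 4) {a b : ι → F} (ha : a ∈ W) (hb : b ∈ W)
    (ha0 : a ≠ 0) (haq : Q a = 0) (hbq : Q b = 0) (hab : polar Q a b = 0)
    (hba : b ∉ Submodule.span F ({a} : Set (ι → F))) : Cfsg.Geo.IsPlusTypeOn (⇑Q) W := by
  refine ⟨Submodule.span F {a, b}, Submodule.span_le.2 fun v hv => by rcases hv with rfl | rfl <;> assumption,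
    fun v hv => ?_, ?_⟩
  · obtain ⟨r, s, rfl⟩ := Submodule.mem_span_pair.1 hv
    rw [map_add', map_smul', map_smul', polar_smul_left, polar_smul_right, haq, hbq, hab]
    simp
  · have hli : LinearIndependent F ![a, b] := by
      rw [LinearIndependent.pair_iff' ha0]
      exact fun r hr => hba (Submodule.mem_span_singleton.2 ⟨r, hr⟩)
    have := finrank_span_eq_card hli
    rw [Matrix.range_cons, Matrix.range_cons, Matrix.range_empty, Set.union_empty, Set.singleton_union] at this
    rw [this, Fintype.card_fin, hW]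

theorem plus_transfer {W W' : Submodule F (ι → F)} (e : W ≃ₗ[F] W')
    (he : ∀ w : W, Q (e w : ι → F) = Q (w : ι → F)) (h : Cfsg.Geo.IsPlusTypeOn (⇑Q) W) :
    Cfsg.Geo.IsPlusTypeOn (⇑Q) W' := by
  obtain ⟨U, hUW, hU, hdim⟩ := h
  let f : U →ₗ[F] (ι → F) := W'.subtype ∘ₗ e.toLinearMap ∘ₗ Submodule.inclusion hUW
  have hf : Function.Injective f := fun a b hab =>
    Submodule.inclusion_injective hUW (e.injective (Subtype.ext hab))
  refine ⟨LinearMap.range f, ?_, ?_, ?_⟩
  · rintro _ ⟨u, rfl⟩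
    exact Subtype.coe_prop _
  · rintro _ ⟨u, rfl⟩
    exact (he _).trans (hU _ u.2)
  · rw [LinearMap.finrank_range_of_inj hf, ← e.finrank_eq, hdim]

/-- the stabiliser of the decomposition is maximal, at least eight dimensions and five planes -/
theorem maximalFintype (hQ : (polarBilin Q).Nondegenerate) (hn : 8 ≤ Fintype.card ι) (k : ℕ) (hk : 2 ≤ k)
    (hfive : k = 2 → 5 ≤ t) (hthree : k = 3 → 3 ≤ t)
    (hD : Cfsg.Geo.IsOrthogonalMDecomposition (⇑Q) k D)
    (hodd : Odd k → Odd (Fintype.card F) ∧ ¬ (k = 3 ∧ Fintype.card F = 3))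
    (htwo : k = 2 → Fintype.card F ≠ 3 ∧ ((∀ i, Cfsg.Geo.IsPlusTypeOn (⇑Q) (D i)) →
      Fintype.card F ≠ 2 ∧ Fintype.card F ≠ 4 ∧ Fintype.card F ≠ 5))
    (hfour : k = 4 → Fintype.card F = 2 → ¬ ∀ i, Cfsg.Geo.IsPlusTypeOn (⇑Q) (D i)) :
    Cfsg.Geo.IsMaximalIn (Cfsg.Geo.omegaGL ⇑Q) (Cfsg.Geo.decompositionStabilizer D ⊓ Cfsg.Geo.omegaGL ⇑Q) := by
  classical
  obtain ⟨⟨hM, hnd, horth⟩, hiso⟩ := hD
  have hiso' : ∀ i j, ∃ ψ : D i ≃ₗ[F] D j, ∀ x : D i, Q (ψ x : ι → F) = Q (x : ι → F) := hiso
  have hdim : finrank F (ι → F) = Fintype.card ι := Module.finrank_fintype_fun_eq_card F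
  have hsum : Fintype.card ι = t * k := by
    conv_lhs => rw [← hdim]
    have hint : DirectSum.IsInternal D :=
      DirectSum.isInternal_submodule_of_iSupIndep_of_iSup_eq_top hM.indep hM.iSup_eq_top
    rw [← (LinearEquiv.ofBijective (DirectSum.coeLinearMap D) hint).finrank_eq, Module.finrank_directSum]
    simp [hM.finrank_eq]
  have hp : Pre Q D :=
    { nd := hQ
      top := hM.iSup_eq_top
      perp := horth
      ndD := fun i x hx h => by_contra fun h0 => (hnd i x hx h0).2.elim fun y hy => hy.2 (h y hy.1)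
      eqdim := fun i j => by rw [hM.finrank_eq, hM.finrank_eq]
      dimV := by rw [hdim]; omega }
  have ht2 := hM.two_le
  have hmem : ∀ g : (ι → F) ≃ₗ[F] (ι → F), (glEquiv ι F).symm g ∈ Cfsg.Geo.decompositionStabilizer D ↔
      ∃ σ : Equiv.Perm (Fin t), ∀ i, (D i).map g.toLinearMap = D (σ i) := by
    intro g
    have e : Matrix.toLin' ((((glEquiv ι F).symm g : GL ι F)) : Matrix ι ι F) = g.toLinearMap :=
      LinearMap.ext fun x => by
        conv_rhs => rw [← (glEquiv ι F).apply_symm_apply g]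
        rw [LinearEquiv.coe_coe, glEquiv_apply, Matrix.toLin'_apply]
    show (∃ σ : Equiv.Perm (Fin t), ∀ i, _) ↔ _
    rw [e]
  have hmaps : ∀ (g : Quad.oG Q) (σ : Equiv.Perm (Fin t)), DecOrth.Maps D g.1 σ →
      (glEquiv ι F).symm g.1 ∈ Cfsg.Geo.decompositionStabilizer D :=
    fun g σ hσ => (hmem _).2 ⟨σ, fun i => RootPlanes.map_eq_of_le (hp.eqdim _ _) (hσ i)⟩
  have plane : k = 2 → Plane Q D := fun hk2 =>
    { toPre := hp
      dim := fun i => by rw [hM.finrank_eq, hk2]
      five := hfive hk2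
      iso := hiso'
      kind := by
        obtain ⟨h3, hpl⟩ := htwo hk2
        rw [Nat.card_eq_fintype_card]
        by_cases hs : ∃ i, ∃ f ∈ D i, f ≠ 0 ∧ Q f = 0
        · obtain ⟨i, f, hf, hf0, hfq⟩ := hs
          have hall : ∀ j, ∃ f ∈ D j, f ≠ 0 ∧ Q f = 0 := fun j => by
            obtain ⟨e, he⟩ := hiso' i j
            exact ⟨e ⟨f, hf⟩, Subtype.coe_prop _, fun h0 => hf0 (congrArg Subtype.val
              (e.map_eq_zero_iff.1 (Subtype.ext h0 : e ⟨f, hf⟩ = 0))), (he _).trans hfq⟩
          obtain ⟨h2, h4, h5⟩ := hpl fun j => by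
            obtain ⟨f, hf, hf0, hfq⟩ := hall j
            exact plus_of_sing (by rw [hM.finrank_eq, hk2]) hf hf0 hfq
          refine Or.inl ⟨?_, hall⟩
          have h6 : Fintype.card F ≠ 6 := fun e => by
            obtain ⟨p, m, hp', hm, hpm⟩ := (isPrimePow_nat_iff _).1 (FiniteField.isPrimePow_card F)
            rw [e] at hpm
            have h2'' := Nat.prime_dvd_prime_iff_eq Nat.prime_two hp'
            have h3'' := Nat.prime_dvd_prime_iff_eq Nat.prime_three hp'
            have a2 := Nat.prime_two.dvd_of_dvd_pow (hpm ▸ (by norm_num : 2 ∣ 6))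
            have a3 := Nat.prime_three.dvd_of_dvd_pow (hpm ▸ (by norm_num : 3 ∣ 6))
            rw [h2''] at a2
            rw [h3''] at a3
            omega
          have := Fintype.one_lt_card (α := F)
          omega
        · push Not at hs
          exact Or.inr ⟨h3, fun i v hv hvq => by_contra fun h0 => hs i v hv h0 hvq⟩ }
  refine RootPlanes.isMaximalIn_omega Q hQ (by omega) _ ?_ fun H hH g hg hgS => ?_
  · by_cases hk2 : k = 2
    · have h := plane hk2
      have h6 := h.five
      let a : Fin t := ⟨0, by omega⟩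
      let b : Fin t := ⟨1, by omega⟩
      obtain ⟨l, hla, hlb, -, -⟩ := exists_out_four h a b a b
      obtain ⟨d, hda, hdb, hdl, -⟩ := exists_out_four h a b l l
      have hab : a ≠ b := fun e => Nat.zero_ne_one (Fin.mk.inj e)
      -- a vector of value one meeting two members, and no others but possibly `d`
      obtain ⟨x, hxq, hxa, hxb, hxl⟩ : ∃ x, Q x = 1 ∧ pr hp a x ≠ 0 ∧ pr hp b x ≠ 0 ∧ pr hp l x = 0 := by
        by_cases hq2 : Fintype.card F = 2
        · obtain ⟨u, hu, huq⟩ := exists_value h a one_ne_zero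
          obtain ⟨v, hv, hvq⟩ := exists_value h b one_ne_zero
          obtain ⟨w, hw, hwq⟩ := exists_value h d one_ne_zero
          refine ⟨u + v + w, ?_, ?_, ?_, ?_⟩
          · rw [map_add', map_add', huq, hvq, hwq, polar_add_left, hp.perp a b hab u hu v hv,
              hp.perp a d hda.symm u hu w hw, hp.perp b d hdb.symm v hv w hw]
            linear_combination two_eq_zero (F := F) (by rw [Nat.card_eq_fintype_card, hq2])
          · rw [map_add, map_add, pr_same hp hu, pr_other hp hab.symm hv, pr_other hp hda hw, add_zero, add_zero]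
            exact fun e => one_ne_zero (α := F) (by rw [← huq, e, map_zero])
          · rw [map_add, map_add, pr_other hp hab hu, pr_same hp hv, pr_other hp hdb hw, add_zero, zero_add]
            exact fun e => one_ne_zero (α := F) (by rw [← hvq, e, map_zero])
          · rw [map_add, map_add, pr_other hp hla.symm hu, pr_other hp hlb.symm hv, pr_other hp hdl hw, add_zero,
              add_zero]
        · obtain ⟨c, hc0, hc1⟩ := exists_ne_two_values (F := F) (by rwa [Nat.card_eq_fintype_card]) 1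
          obtain ⟨u, hu, huq⟩ := exists_value h a (sub_ne_zero.2 (Ne.symm hc1) : (1 : F) - c ≠ 0)
          obtain ⟨v, hv, hvq⟩ := exists_value h b hc0
          refine ⟨u + v, ?_, ?_, ?_, ?_⟩
          · rw [map_add', huq, hvq, hp.perp a b hab u hu v hv]; ring
          · rw [map_add, pr_same hp hu, pr_other hp hab.symm hv, add_zero]
            exact fun e => hc1 (by rw [e, map_zero] at huq; linear_combination huq)
          · rw [map_add, pr_other hp hab hu, pr_same hp hv, zero_add]
            exact fun e => hc0 (by rw [← hvq, e, map_zero])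
          · rw [map_add, pr_other hp hla.symm hu, pr_other hp hlb.symm hv, add_zero]
      obtain ⟨u, hu, huq⟩ := exists_value h l one_ne_zero
      have hxq0 : Q x ≠ 0 := by rw [hxq]; exact one_ne_zero
      have huq0 : Q u ≠ 0 := by rw [huq]; exact one_ne_zero
      refine ⟨Quad.rO huq0 * Quad.rO hxq0, Quad.rO_mul_mem_commutator hQ huq0 hxq0 (t := 1)
        (by rw [hxq, huq]; ring), fun hm => ?_⟩
      obtain ⟨σ, hσ⟩ := (hmem _).1 hm
      -- a vector of the first member moved outside the members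
      obtain ⟨p, hp', hp0, hxp⟩ := exists_perp_vec h a (pr hp a x)
      obtain ⟨z, hz, -, hzx, hzp⟩ := avoid h a one_ne_zero (pr hp a x) p
      have hκ : polar Q z x ≠ 0 := fun e => hzp (perp_line h (pr_mem hp a x) hxa hp' hp0 hxp hz
        (by rw [pr_polar hp a x hz, polar_comm, e]))
      have hgz : (Quad.rO huq0 * Quad.rO hxq0).1 z = z - (polar Q z x) • x := by
        rw [oG_mul_apply, rO_apply hxq0, hxq, div_one, rO_fix huq0]
        rw [polar_sub_left, polar_smul_left, hp.perp a l hla.symm z hz u hu, ← pr_polar hp l x hu, hxl]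
        simp [polar]
      have hm' : (Quad.rO huq0 * Quad.rO hxq0).1 z ∈ D (σ a) := hσ a ▸ Submodule.mem_map_of_mem hz
      rw [hgz] at hm'
      by_cases hσa : σ a = a
      · have e1 := pr_other hp (i := b) (show σ a ≠ b by rw [hσa]; exact hab) hm'
        rw [map_sub, map_smul, pr_other hp hab hz, zero_sub, neg_eq_zero] at e1
        exact smul_ne_zero hκ hxb e1
      · have e1 := pr_other hp (i := a) hσa hm'
        rw [map_sub, map_smul, pr_same hp hz, sub_eq_zero] at e1
        exact hzx (Submodule.mem_span_singleton.2 ⟨_, e1.symm⟩)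
    · have hk3 : ∀ i, 3 ≤ finrank F (D i) := fun i => by rw [hM.finrank_eq]; omega
      have sing : ∀ i, ∃ f ∈ D i, f ≠ 0 ∧ Q f = 0 := fun i => by
        obtain ⟨v, hv, hq⟩ := exists_singular (Q.comp (D i).subtype) (hk3 i)
        exact ⟨v, v.2, fun e => hv (Subtype.ext e), hq⟩
      let a : Fin t := ⟨0, by omega⟩
      let b : Fin t := ⟨1, by omega⟩
      have hab : a ≠ b := fun h => Nat.zero_ne_one (Fin.mk.inj h)
      obtain ⟨e, he, he0, heq⟩ := sing a
      obtain ⟨f, hf, hf0, hfq⟩ := sing b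
      obtain ⟨f', hf', -, hff'⟩ := partner hp hf hf0 hfq
      have hef := horth a b hab e he f hf
      refine ⟨Quad.sO heq hef, Quad.sO_mem_commutator hQ (Or.inr (by rw [hdim]; omega)) _ _, fun hm => ?_⟩
      obtain ⟨σ, hσ⟩ := (hmem _).1 hm
      have h1 : (Quad.sO heq hef).1 f' ∈ D (σ b) := hσ b ▸ Submodule.mem_map_of_mem hf'
      rw [Quad.sO_apply, polar_comm Q f' f, hff', horth b a hab.symm f' hf' e he] at h1
      simp only [one_smul, neg_zero, zero_smul, mul_zero, add_zero] at h1
      have hf'0 : f' ≠ 0 := fun h => by rw [h] at hff'; simp [polar] at hff'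
      by_cases hb : σ b = a
      · have : f' ∈ D a := ((D a).add_mem_iff_left he).1 (hb ▸ h1)
        exact hf'0 (eq_zero_of_two hp hab this hf')
      · have h3 := pr_other hp (i := a) hb h1
        rw [map_add, pr_other hp hab.symm hf', pr_same hp he, zero_add] at h3
        exact he0 h3
  · have hblocks : ∀ g ∈ commutator (Quad.oG Q), (∀ i, ∀ x ∈ D i, g.1 x ∈ D i) → g ∈ H :=
      fun g hg h => hH g hg (hmaps g 1 h)
    have hnS : ¬ ∃ σ : Equiv.Perm (Fin t), ∀ i, (D i).map g.1.toLinearMap = D (σ i) := fun h => hgS ((hmem _).2 h)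
    by_cases hk2 : k = 2
    · refine overgroup_plane (plane hk2) (H := H)
        ⟨hblocks, fun g σ hg hσ => hH g hg (hmaps g σ hσ), fun a b c hab hbc hac => ?_⟩ hg hnS
      obtain ⟨s, hs, σ, hσ, hσ'⟩ := exists_cycle hp hiso' hab hbc hac
      exact ⟨s, hH s hs (hmaps s σ hσ), σ, hσ, hσ'⟩
    have hO : DecOrth.Over D H := ⟨hblocks, fun a b c hab hbc hac => by
      obtain ⟨s, hs, σ, hσ, h1, h2, h3, -⟩ := exists_cycle hp hiso' hab hbc hac
      exact ⟨s, hH s hs (hmaps s σ hσ), σ, hσ, h1, h2, h3⟩⟩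
    by_cases hk3 : k = 3
    · obtain ⟨hqodd, hq3⟩ := hodd (hk3 ▸ ⟨1, rfl⟩)
      have hd : DecOrth.Dec Q D :=
        { two := Ring.two_ne_zero fun hc => by
            have h' := FiniteField.even_card_of_char_two hc
            obtain ⟨r, hr⟩ := hqodd
            omega
          nd := hQ
          top := hM.iSup_eq_top
          perp := horth
          ndD := hp.ndD
          dim := fun i => by rw [hM.finrank_eq]; omega
          eqdim := hp.eqdim
          three := hthree hk3
          size := Or.inl (by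
            have := Fintype.one_lt_card (α := F)
            obtain ⟨r, hr⟩ := hqodd
            have : Fintype.card F ≠ 3 := fun e => hq3 ⟨hk3, e⟩
            rw [Nat.card_eq_fintype_card]
            omega) }
      exact DecOrth.overgroup hd hO hg hnS
    have hw : Wide Q D :=
      { toPre := hp
        dim := fun i => by rw [hM.finrank_eq]; omega
        small := by
          rw [Nat.card_eq_fintype_card]
          by_cases hq : Fintype.card F = 2
          swap
          · exact Or.inl hq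
          by_cases hk4 : k = 4
          swap
          · exact Or.inr (Or.inl fun i => by rw [hM.finrank_eq]; omega)
          refine Or.inr (Or.inr (Or.inl fun i a ha b hb ha0 haq hbq hab => by_contra fun hba => hfour hk4 hq fun j => ?_))
          obtain ⟨e, he⟩ := hiso' i j
          exact plus_transfer e he (plus_of_plane (by rw [hM.finrank_eq, hk4]) ha hb ha0 haq hbq hab hba) }
    exact overgroup_wide hw hO hg hnS

variable {Q : QuadraticForm F (Fin n → F)} {D : Fin t → Submodule F (Fin n → F)}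

/-- the stabiliser of the decomposition is maximal, at least eight dimensions and five planes -/
theorem maximal5 (hQ : (polarBilin Q).Nondegenerate) (hn : 8 ≤ n) (k : ℕ) (hk : 2 ≤ k)
    (hfive : k = 2 → 5 ≤ t) (hthree : k = 3 → 3 ≤ t)
    (hD : Cfsg.Geo.IsOrthogonalMDecomposition (⇑Q) k D)
    (hodd : Odd k → Odd (Fintype.card F) ∧ ¬ (k = 3 ∧ Fintype.card F = 3))
    (htwo : k = 2 → Fintype.card F ≠ 3 ∧ ((∀ i, Cfsg.Geo.IsPlusTypeOn (⇑Q) (D i)) →
      Fintype.card F ≠ 2 ∧ Fintype.card F ≠ 4 ∧ Fintype.card F ≠ 5))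
    (hfour : k = 4 → Fintype.card F = 2 → ¬ ∀ i, Cfsg.Geo.IsPlusTypeOn (⇑Q) (D i)) :
    Cfsg.Geo.IsMaximalIn (Cfsg.Geo.omegaGL ⇑Q) (Cfsg.Geo.decompositionStabilizer D ⊓ Cfsg.Geo.omegaGL ⇑Q) :=
  maximalFintype hQ (by rwa [Fintype.card_fin]) k hk hfive hthree hD hodd htwo hfour

/-- the stabiliser of the decomposition is maximal, at least eight dimensions -/
theorem maximal' (hQ : (polarBilin Q).Nondegenerate) (hn : 8 ≤ n) (k : ℕ) (hk : 2 ≤ k)
    (hsix : k = 2 → 6 ≤ t) (hthree : k = 3 → 3 ≤ t)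
    (hD : Cfsg.Geo.IsOrthogonalMDecomposition (⇑Q) k D)
    (hodd : Odd k → Odd (Fintype.card F) ∧ ¬ (k = 3 ∧ Fintype.card F = 3))
    (htwo : k = 2 → Fintype.card F ≠ 3 ∧ ((∀ i, Cfsg.Geo.IsPlusTypeOn (⇑Q) (D i)) →
      Fintype.card F ≠ 2 ∧ Fintype.card F ≠ 4 ∧ Fintype.card F ≠ 5))
    (hfour : k = 4 → Fintype.card F = 2 → ¬ ∀ i, Cfsg.Geo.IsPlusTypeOn (⇑Q) (D i)) :
    Cfsg.Geo.IsMaximalIn (Cfsg.Geo.omegaGL ⇑Q) (Cfsg.Geo.decompositionStabilizer D ⊓ Cfsg.Geo.omegaGL ⇑Q) :=
  maximal5 hQ hn k hk (fun h => le_trans (by norm_num) (hsix h)) hthree hD hodd htwo hfour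

/-- the stabiliser of the decomposition is maximal, at least thirteen dimensions -/
theorem maximal (hQ : (polarBilin Q).Nondegenerate) (hn : 13 ≤ n) (k : ℕ) (hk : 2 ≤ k)
    (hD : Cfsg.Geo.IsOrthogonalMDecomposition (⇑Q) k D)
    (hodd : Odd k → Odd (Fintype.card F) ∧ ¬ (k = 3 ∧ Fintype.card F = 3))
    (htwo : k = 2 → Fintype.card F ≠ 3 ∧ ((∀ i, Cfsg.Geo.IsPlusTypeOn (⇑Q) (D i)) →
      Fintype.card F ≠ 2 ∧ Fintype.card F ≠ 4 ∧ Fintype.card F ≠ 5))
    (hfour : k = 4 → Fintype.card F = 2 → ¬ ∀ i, Cfsg.Geo.IsPlusTypeOn (⇑Q) (D i)) :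
    Cfsg.Geo.IsMaximalIn (Cfsg.Geo.omegaGL ⇑Q) (Cfsg.Geo.decompositionStabilizer D ⊓ Cfsg.Geo.omegaGL ⇑Q) := by
  have hM := hD.1.1
  have hint : DirectSum.IsInternal D :=
    DirectSum.isInternal_submodule_of_iSupIndep_of_iSup_eq_top hM.indep hM.iSup_eq_top
  have hsum : n = t * k := by
    rw [← Module.finrank_fin_fun F (n := n), ← (LinearEquiv.ofBijective (DirectSum.coeLinearMap D) hint).finrank_eq,
      Module.finrank_directSum]
    simp [hM.finrank_eq]
  exact maximal' hQ (by omega) k hk (fun h => by subst h; omega) (fun h => by subst h; omega) hD hodd htwo hfour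

end Cfsg.Agent.ClassicalMax.DecAny
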