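import Cfsg.Agent.ClassicalMax.DecAny.Base

/-!
Decompositions into at least five planes: vectors of a plane with a prescribed value, transitivity of the reflections
of a plane, the moves in an overgroup of the stabiliser, and the relation between two vectors whose reflections have
their product in the overgroup.
-/

set_option autoImplicit false
set_option linter.unusedSectionVars false
set_option linter.style.haveILetI false

namespace Cfsg.Agent.ClassicalMax.DecAny

open Module QuadraticMap Cfsg.Agent.Classical Cfsg.Agent.Classical.Quad Cfsg.Agent.ClassicalMax.RootPlanes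
open Cfsg.Agent.ClassicalMax.DecOrth (In Maps)

variable {F V : Type*} [Field F] [Finite F] [AddCommGroup V] [Module F V] [FiniteDimensional F V]
  {Q : QuadraticForm F V} {t : ℕ} {D : Fin t → Submodule F V} {H : Subgroup (oG Q)}

/-- the decompositions into planes treated here -/
structure Plane (Q : QuadraticForm F V) (D : Fin t → Submodule F V) : Prop extends Pre Q D where
  dim : ∀ i, finrank F (D i) = 2
  five : 5 ≤ t
  iso : ∀ i j, ∃ ψ : D i ≃ₗ[F] D j, ∀ x : D i, Q (ψ x : V) = Q (x : V)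
  kind : (7 ≤ Nat.card F ∧ ∀ i, ∃ f ∈ D i, f ≠ 0 ∧ Q f = 0) ∨
    (Nat.card F ≠ 3 ∧ ∀ i, ∀ v ∈ D i, Q v = 0 → v = 0)

/-- the standing hypotheses on the overgroup -/
structure PlaneOver (D : Fin t → Submodule F V) (H : Subgroup (oG Q)) : Prop where
  blocks : ∀ g ∈ commutator (oG Q), (∀ i, ∀ x ∈ D i, g.1 x ∈ D i) → g ∈ H
  stab : ∀ (g : oG Q) (σ : Equiv.Perm (Fin t)), g ∈ commutator (oG Q) → Maps D g.1 σ → g ∈ H
  cyc : ∀ a b c : Fin t, a ≠ b → b ≠ c → a ≠ c → ∃ g ∈ H, ∃ σ : Equiv.Perm (Fin t),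
    Maps D g.1 σ ∧ σ a = b ∧ σ b = c ∧ σ c = a ∧ ∀ o, o ≠ a → o ≠ b → o ≠ c → σ o = o

/-! ### linear algebra in a plane -/

theorem notin_smul {y z : V} (hy : y ∉ Submodule.span F ({z} : Set V)) {α β : F} (h : α • y + β • z = 0)
    (hz : z ≠ 0) : α = 0 ∧ β = 0 := by
  have hα : α = 0 := by
    by_contra hα
    refine hy (Submodule.mem_span_singleton.2 ⟨-(β / α), ?_⟩)
    have h1 : α • y = -(β • z) := eq_neg_of_add_eq_zero_left h
    have h2 : y = α⁻¹ • (α • y) := (inv_smul_smul₀ hα y).symm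
    rw [h2, h1, smul_neg, smul_smul, neg_smul, inv_mul_eq_div]
  refine ⟨hα, ?_⟩
  rw [hα, zero_smul, zero_add] at h
  exact (smul_eq_zero.1 h).resolve_right hz

theorem span_two (h : Plane Q D) {i : Fin t} {a b z : V} (ha : a ∈ D i) (hb : b ∈ D i) (ha0 : a ≠ 0)
    (hba : b ∉ Submodule.span F ({a} : Set V)) (hz : z ∈ D i) : ∃ α β : F, α • a + β • b = z := by
  have hli : LinearIndependent F ![a, b] := by
    rw [LinearIndependent.pair_iff' ha0]
    exact fun r hr => hba (Submodule.mem_span_singleton.2 ⟨r, hr⟩)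
  have hr : Submodule.span F (Set.range ![a, b]) = D i :=
    Submodule.eq_of_le_of_finrank_eq (by
      rw [Submodule.span_le]; rintro _ ⟨k, rfl⟩; fin_cases k <;> assumption)
      (by rw [finrank_span_eq_card hli, Fintype.card_fin, h.dim i])
  rw [← hr, Matrix.range_cons, Matrix.range_cons, Matrix.range_empty, Set.union_empty, Set.singleton_union,
    Submodule.mem_span_pair] at hz
  exact hz

theorem perp_line (h : Plane Q D) {i : Fin t} {y n z : V} (hy : y ∈ D i) (hy0 : y ≠ 0) (hn : n ∈ D i) (hn0 : n ≠ 0)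
    (hyn : polar Q y n = 0) (hz : z ∈ D i) (hyz : polar Q y z = 0) : z ∈ Submodule.span F ({n} : Set V) := by
  by_contra hzn
  refine hy0 (h.ndD i y hy fun w hw => ?_)
  obtain ⟨α, β, rfl⟩ := span_two h hn hz hn0 hzn hw
  rw [polar_add_right, polar_smul_right, polar_smul_right, hyn, hyz, smul_zero, smul_zero, add_zero]

theorem exists_perp_vec (h : Plane Q D) (i : Fin t) (y : V) : ∃ n ∈ D i, n ≠ 0 ∧ polar Q y n = 0 := by
  let L : D i →ₗ[F] F := (polarBilin Q y).comp (D i).subtype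
  have h1 := L.finrank_range_add_finrank_ker
  have h2 := (Submodule.finrank_le (LinearMap.range L)).trans_eq (Module.finrank_self F)
  have h3 := h.dim i
  have : LinearMap.ker L ≠ ⊥ := fun e => by
    have e0 : finrank F (LinearMap.ker L) = 0 := by rw [e]; exact finrank_bot F _
    omega
  obtain ⟨z, hz, hz0⟩ := Submodule.exists_mem_ne_zero_of_ne_bot this
  exact ⟨z, z.2, fun e => hz0 (Subtype.ext e), hz⟩

/-- a non-zero vector perpendicular to an anisotropic one is anisotropic -/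
theorem perp_aniso (h : Plane Q D) {i : Fin t} {v n : V} (hv : v ∈ D i) (hn : n ∈ D i) (hvq : Q v ≠ 0) (hn0 : n ≠ 0)
    (hvn : polar Q v n = 0) : Q n ≠ 0 := by
  intro hq
  have hnv : n ∉ Submodule.span F ({v} : Set V) := fun hm => by
    obtain ⟨r, rfl⟩ := Submodule.mem_span_singleton.1 hm
    rw [map_smul'] at hq
    have : r = 0 := by simpa [hvq] using hq
    exact hn0 (by rw [this, zero_smul])
  refine hn0 (h.ndD i n hn fun w hw => ?_)
  obtain ⟨α, β, rfl⟩ := span_two h hv hn (fun e => hvq (by rw [e, map_zero])) hnv hw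
  rw [polar_add_right, polar_smul_right, polar_smul_right, polar_comm Q n v, hvn, polar_self', hq, mul_zero,
    smul_zero, smul_zero, add_zero]

theorem exists_value (h : Plane Q D) (i : Fin t) {c : F} (hc : c ≠ 0) : ∃ z ∈ D i, Q z = c := by
  have h3 : 3 ≤ finrank F (D i × F) := by rw [finrank_prod, finrank_self, h.dim i]
  obtain ⟨⟨z, s⟩, hne, hq⟩ := exists_singular
    ((Q.comp (D i).subtype).prod ((-c) • (QuadraticMap.sq : QuadraticForm F F))) h3
  simp only [QuadraticMap.prod_apply, QuadraticMap.comp_apply, Submodule.subtype_apply, QuadraticMap.smul_apply,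
    QuadraticMap.sq_apply, smul_eq_mul] at hq
  by_cases hs : s = 0
  · subst hs
    have hz0 : (z : V) ≠ 0 := fun e => hne (by rw [show z = 0 from Subtype.ext e]; rfl)
    obtain ⟨f, hf, hfq, hzf⟩ := partner h.toPre z.2 hz0 (by simpa using hq)
    refine ⟨(z : V) + c • f, (D i).add_mem z.2 ((D i).smul_mem _ hf), ?_⟩
    rw [map_add_smul, hzf, hfq, show Q (z : V) = 0 by simpa using hq]
    ring
  · refine ⟨s⁻¹ • (z : V), (D i).smul_mem _ z.2, ?_⟩
    rw [map_smul', show Q (z : V) = c * (s * s) by linear_combination hq]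
    field_simp

/-! ### counting -/

theorem coef_of_three {a b c r₁ r₂ r₃ : F} (h12 : r₁ ≠ r₂) (h13 : r₁ ≠ r₃) (h23 : r₂ ≠ r₃)
    (e₁ : a * (r₁ * r₁) + b * r₁ + c = 0) (e₂ : a * (r₂ * r₂) + b * r₂ + c = 0)
    (e₃ : a * (r₃ * r₃) + b * r₃ + c = 0) : a = 0 ∧ b = 0 ∧ c = 0 := by
  have f1 : a * (r₁ + r₂) + b = 0 :=
    (mul_eq_zero.1 (show (a * (r₁ + r₂) + b) * (r₁ - r₂) = 0 by linear_combination e₁ - e₂)).resolve_right
      (sub_ne_zero.2 h12)
  have f2 : a * (r₁ + r₃) + b = 0 :=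
    (mul_eq_zero.1 (show (a * (r₁ + r₃) + b) * (r₁ - r₃) = 0 by linear_combination e₁ - e₃)).resolve_right
      (sub_ne_zero.2 h13)
  have ha : a = 0 :=
    (mul_eq_zero.1 (show a * (r₂ - r₃) = 0 by linear_combination f1 - f2)).resolve_right (sub_ne_zero.2 h23)
  have hb : b = 0 := by rw [ha] at f1; linear_combination f1
  exact ⟨ha, hb, by rw [ha, hb] at e₁; linear_combination e₁⟩

theorem card_roots_le_two [Fintype F] [DecidableEq F] {a b c : F} (hne : a ≠ 0 ∨ b ≠ 0 ∨ c ≠ 0) :
    (Finset.univ.filter fun r : F => a * (r * r) + b * r + c = 0).card ≤ 2 := by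
  by_contra hgt
  obtain ⟨r₁, h1, r₂, h2, r₃, h3, h12, h13, h23⟩ := Finset.two_lt_card.1 (not_le.1 hgt)
  simp only [Finset.mem_filter, Finset.mem_univ, true_and] at h1 h2 h3
  obtain ⟨ha, hb, hc⟩ := coef_of_three h12 h13 h23 h1 h2 h3
  tauto

/-- a plane has at least `q - 1` vectors of each non-zero value, and `q + 1` if it is anisotropic -/
theorem vals_card (h : Plane Q D) {i : Fin t} {c : F} (hc : c ≠ 0) (s : Finset V)
    (hs : ∀ z ∈ D i, Q z = c → z ∈ s) : Nat.card F - 1 ≤ s.card ∧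
      ((∀ v ∈ D i, Q v = 0 → v = 0) → Nat.card F + 1 ≤ s.card) := by
  classical
  have := Fintype.ofFinite F
  rw [Nat.card_eq_fintype_card]
  obtain ⟨z₀, hz₀, hz₀q⟩ := exists_value h i hc
  have hz₀0 : z₀ ≠ 0 := fun e => hc (by rw [← hz₀q, e, map_zero])
  obtain ⟨n, hn, hnz⟩ : ∃ n ∈ D i, n ∉ Submodule.span F ({z₀} : Set V) := by
    refine SetLike.not_le_iff_exists.1 fun hle => ?_
    have h1 := Submodule.finrank_mono hle
    rw [finrank_span_singleton hz₀0, h.dim i] at h1
    omega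
  -- in characteristic two the chords meet once
  have char2 : (2 : F) = 0 → polar Q z₀ n ≠ 0 := fun h2 e =>
    hnz (perp_line h hz₀ hz₀0 hz₀ hz₀0 (by rw [polar_self', h2, zero_mul]) hn e)
  let G : Finset F := Finset.univ.filter fun r => Q (n + r • z₀) ≠ 0
  let f : F → V := fun r => z₀ - (polar Q z₀ (n + r • z₀) / Q (n + r • z₀)) • (n + r • z₀)
  have hfm : ∀ r ∈ G, f r ∈ s := fun r hr => by
    have hq : Q (n + r • z₀) ≠ 0 := (Finset.mem_filter.1 hr).2
    refine hs _ ((D i).sub_mem hz₀ ((D i).smul_mem _ ((D i).add_mem hn ((D i).smul_mem _ hz₀)))) ?_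
    show Q ((rO hq).1 z₀) = c
    rw [(rO hq).2, hz₀q]
  have hfinj : Set.InjOn f G := fun r hr r' hr' e => by
    have hq : Q (n + r • z₀) ≠ 0 := (Finset.mem_filter.1 hr).2
    have hq' : Q (n + r' • z₀) ≠ 0 := (Finset.mem_filter.1 hr').2
    simp only [f, sub_right_inj] at e
    set α := polar Q z₀ (n + r • z₀) / Q (n + r • z₀) with hα
    set β := polar Q z₀ (n + r' • z₀) / Q (n + r' • z₀) with hβ
    have e' : (α - β) • n + (α * r - β * r') • z₀ = 0 := by
      linear_combination (norm := module) e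
    obtain ⟨e1, e2⟩ := notin_smul hnz e' hz₀0
    rw [sub_eq_zero] at e1
    rw [← e1] at e2
    rcases eq_or_ne α 0 with h0 | h0
    · have p1 := (div_eq_zero_iff.1 (hα ▸ h0)).resolve_right hq
      have p2 := (div_eq_zero_iff.1 (hβ ▸ e1 ▸ h0)).resolve_right hq'
      rw [polar_add_right, polar_smul_right, polar_self', hz₀q, smul_eq_mul] at p1 p2
      by_cases h2 : (2 : F) = 0
      · exact absurd (by rw [h2] at p1; linear_combination p1) (char2 h2)
      · exact mul_right_cancel₀ (mul_ne_zero h2 hc) (by linear_combination p1 - p2)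
    · exact mul_left_cancel₀ h0 (sub_eq_zero.1 e2)
  have hneg : -z₀ ∉ G.image f := fun hm => by
    obtain ⟨r, hr, e⟩ := Finset.mem_image.1 hm
    have hq : Q (n + r • z₀) ≠ 0 := (Finset.mem_filter.1 hr).2
    simp only [f] at e
    set α := polar Q z₀ (n + r • z₀) / Q (n + r • z₀) with hα
    have e' : (-α) • n + (2 - α * r) • z₀ = 0 := by linear_combination (norm := module) e
    obtain ⟨e1, e2⟩ := notin_smul hnz e' hz₀0
    have hα0 : α = 0 := neg_eq_zero.1 e1
    have h2 : (2 : F) = 0 := by rw [hα0] at e2; linear_combination e2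
    have p1 := (div_eq_zero_iff.1 (hα ▸ hα0)).resolve_right hq
    rw [polar_add_right, polar_smul_right, polar_self', h2, zero_mul, smul_zero, add_zero] at p1
    exact char2 h2 p1
  have hle : (insert (-z₀) (G.image f)).card ≤ s.card := Finset.card_le_card fun z hz => by
    rcases Finset.mem_insert.1 hz with rfl | hz
    · exact hs _ ((D i).neg_mem hz₀) (by rw [QuadraticMap.map_neg, hz₀q])
    · obtain ⟨r, hr, rfl⟩ := Finset.mem_image.1 hz
      exact hfm r hr
  rw [Finset.card_insert_of_notMem hneg, Finset.card_image_of_injOn hfinj] at hle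
  have hroots : (Finset.univ.filter fun r : F => Q (n + r • z₀) = 0).card ≤ 2 := by
    have e : ∀ r : F, Q (n + r • z₀) = c * (r * r) + polar Q n z₀ * r + Q n := fun r => by
      rw [map_add_smul, hz₀q]; ring
    simp only [e]
    exact card_roots_le_two (Or.inl hc)
  have hsum := Finset.card_filter_add_card_filter_not (s := (Finset.univ : Finset F))
    (fun r : F => Q (n + r • z₀) = 0)
  rw [Finset.card_univ] at hsum
  change _ + G.card = _ at hsum
  refine ⟨by omega, fun han => ?_⟩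
  have : (Finset.univ.filter fun r : F => Q (n + r • z₀) = 0).card = 0 := by
    rw [Finset.card_eq_zero, Finset.filter_eq_empty_iff]
    intro r _ hr
    obtain ⟨e1, -⟩ := notin_smul hnz (α := 1) (β := r)
      (by rw [one_smul]; exact han _ ((D i).add_mem hn ((D i).smul_mem _ hz₀)) hr) hz₀0
    exact one_ne_zero e1
  omega

theorem eq_or_eq_neg_of_line {a z z₀ : V} {c : F} (hc : c ≠ 0) (hz : z ∈ Submodule.span F ({a} : Set V))
    (hz₀ : z₀ ∈ Submodule.span F ({a} : Set V)) (hq : Q z = c) (hq₀ : Q z₀ = c) : z = z₀ ∨ z = -z₀ := by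
  obtain ⟨r, rfl⟩ := Submodule.mem_span_singleton.1 hz
  obtain ⟨s, rfl⟩ := Submodule.mem_span_singleton.1 hz₀
  rw [map_smul'] at hq hq₀
  have ha : Q a ≠ 0 := fun e => hc (by rw [← hq, e, mul_zero])
  rcases mul_self_eq_mul_self_iff.1 (mul_right_cancel₀ ha (hq.trans hq₀.symm)) with e | e
  · exact Or.inl (by rw [e])
  · exact Or.inr (by rw [e, neg_smul])

/-- a vector of prescribed value off two given lines -/
theorem avoid (h : Plane Q D) (i : Fin t) {c : F} (hc : c ≠ 0) (a b : V) :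
    ∃ z ∈ D i, Q z = c ∧ z ∉ Submodule.span F ({a} : Set V) ∧ z ∉ Submodule.span F ({b} : Set V) := by
  classical
  have : Finite V := Module.finite_of_finite F
  have := Fintype.ofFinite V
  have hF := Fintype.ofFinite F
  let s : Finset V := Finset.univ.filter fun z => z ∈ D i ∧ Q z = c
  obtain ⟨h1, h2⟩ := vals_card h hc s (fun z hz hq => Finset.mem_filter.2 ⟨Finset.mem_univ z, hz, hq⟩) (i := i)
  by_contra hn
  push Not at hn
  let k : ℕ := if (2 : F) = 0 then 1 else 2
  have hline : ∀ a : V, (s.filter fun z => z ∈ Submodule.span F ({a} : Set V)).card ≤ k := fun a => by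
    by_cases he : ∃ z₀, z₀ ∈ s ∧ z₀ ∈ Submodule.span F ({a} : Set V)
    swap
    · push Not at he
      rw [Finset.filter_eq_empty_iff.2 fun z hz => he z hz]
      simp
    obtain ⟨z₀, hz₀, hz₀a⟩ := he
    have hsub : (s.filter fun z => z ∈ Submodule.span F ({a} : Set V)) ⊆ {z₀, -z₀} := fun z hz => by
      rw [Finset.mem_filter] at hz
      rw [Finset.mem_insert, Finset.mem_singleton]
      exact eq_or_eq_neg_of_line hc hz.2 hz₀a (Finset.mem_filter.1 hz.1).2.2 (Finset.mem_filter.1 hz₀).2.2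
    refine (Finset.card_le_card hsub).trans ?_
    by_cases hch : (2 : F) = 0
    · have : -z₀ = z₀ := by
        rw [← neg_one_smul F, show (-1 : F) = 1 by linear_combination -hch, one_smul]
      simp [k, hch, this]
    · simp [k, hch, Finset.card_le_two]
  have hcover : s ⊆ (s.filter fun z => z ∈ Submodule.span F ({a} : Set V)) ∪
      (s.filter fun z => z ∈ Submodule.span F ({b} : Set V)) := fun z hz => by
    rw [Finset.mem_union]
    by_cases hza : z ∈ Submodule.span F ({a} : Set V)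
    · exact Or.inl (Finset.mem_filter.2 ⟨hz, hza⟩)
    · exact Or.inr (Finset.mem_filter.2 ⟨hz, hn z (Finset.mem_filter.1 hz).2.1 (Finset.mem_filter.1 hz).2.2 hza⟩)
  have h3 := (Finset.card_le_card hcover).trans (Finset.card_union_le _ _)
  have h4 := hline a
  have h5 := hline b
  have hk : k ≤ 2 := by simp only [k]; split <;> omega
  rw [Nat.card_eq_fintype_card] at h1 h2
  rcases h.kind with ⟨hq, -⟩ | ⟨hq, han⟩
  · rw [Nat.card_eq_fintype_card] at hq
    omega
  · rw [Nat.card_eq_fintype_card] at hq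
    have := h2 (han i)
    have := Fintype.one_lt_card (α := F)
    by_cases hq2 : Fintype.card F = 2
    · have hch : (2 : F) = 0 := by
        have := FiniteField.cast_card_eq_zero F
        rw [hq2] at this
        exact_mod_cast this
      have : k = 1 := by simp [k, hch]
      omega
    · omega

/-- three pairwise independent vectors of a prescribed value -/
theorem exists_three (h : Plane Q D) (i : Fin t) {c : F} (hc : c ≠ 0) : ∃ a b d : V, a ∈ D i ∧ b ∈ D i ∧ d ∈ D i ∧
    Q a = c ∧ Q b = c ∧ Q d = c ∧ b ∉ Submodule.span F ({a} : Set V) ∧ d ∉ Submodule.span F ({a} : Set V) ∧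
      d ∉ Submodule.span F ({b} : Set V) := by
  obtain ⟨a, ha, haq⟩ := exists_value h i hc
  obtain ⟨b, hb, hbq, hba, -⟩ := avoid h i hc a a
  obtain ⟨d, hd, hdq, hda, hdb⟩ := avoid h i hc a b
  exact ⟨a, b, d, ha, hb, hd, haq, hbq, hdq, hba, hda, hdb⟩

/-- a vector of prescribed value not perpendicular to a given one -/
theorem exists_nonperp (h : Plane Q D) {i : Fin t} {c : F} (hc : c ≠ 0) {y : V} (hy : y ∈ D i) (hy0 : y ≠ 0) :
    ∃ z ∈ D i, Q z = c ∧ polar Q y z ≠ 0 := by
  obtain ⟨n, hn, hn0, hyn⟩ := exists_perp_vec h i y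
  obtain ⟨z, hz, hzq, hzn, -⟩ := avoid h i hc n n
  exact ⟨z, hz, hzq, fun e => hzn (perp_line h hy hy0 hn hn0 hyn hz e)⟩

/-- transitivity of the reflections of a plane -/
theorem orbit (h : Plane Q D) {i : Fin t} {v v' : V} (hv : v ∈ D i) (hv' : v' ∈ D i) (hvq : Q v ≠ 0)
    (he : Q v' = Q v) (P : V → Prop) (hP : ∀ w ∈ D i, ∀ hw : Q w ≠ 0, ∀ z ∈ D i, P z → P ((rO hw).1 z))
    (h0 : P v) : P v' := by
  have step : ∀ {a b : V}, a ∈ D i → b ∈ D i → Q a = Q v → Q b = Q v → Q (a - b) ≠ 0 → P a → P b :=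
    fun {a b} ha hb haq hbq hd hPa => by
      have e := hP _ ((D i).sub_mem ha hb) hd a ha hPa
      have e1 : polar Q a (a - b) = Q (a - b) := by
        rw [polar_sub_right, polar_self', sub_eq_add_neg a b, map_add', QuadraticMap.map_neg, polar_neg_right, haq, hbq]
        ring
      rwa [rO_apply, e1, div_self hd, one_smul, sub_sub_cancel] at e
  by_cases hd : Q (v - v') = 0
  swap
  · exact step hv hv' rfl he hd h0
  have hp : polar Q v v' = 2 * Q v := by
    rw [sub_eq_add_neg, map_add', QuadraticMap.map_neg, polar_neg_right, he] at hd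
    linear_combination -hd
  by_cases h2 : (2 : F) = 0
  · obtain ⟨z, hz, hzq, hzv, hzv'⟩ := avoid h i hvq v v'
    have key : ∀ {a : V}, a ∈ D i → Q a = Q v → z ∉ Submodule.span F ({a} : Set V) → Q (a - z) ≠ 0 :=
      fun {a} ha haq hza e => by
        rw [sub_eq_add_neg, map_add', QuadraticMap.map_neg, polar_neg_right, haq, hzq] at e
        have ha0 : a ≠ 0 := fun e' => hvq (by rw [← haq, e', map_zero])
        exact hza (perp_line h ha ha0 ha ha0 (by rw [polar_self', h2, zero_mul]) hz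
          (by linear_combination (Q v) * h2 - e))
    refine step hz hv' hzq he ?_ (step hv hz rfl hzq (key hv rfl hzv) h0)
    rw [← QuadraticMap.map_neg, neg_sub]
    exact key hv' he hzv'
  · have hs : Q (v - -v') ≠ 0 := by
      rw [sub_neg_eq_add, map_add', he, hp, ← two_mul, ← add_mul]
      exact mul_ne_zero (by rw [← two_mul]; exact mul_ne_zero h2 h2) hvq
    have h1 := step hv ((D i).neg_mem hv') rfl (by rw [QuadraticMap.map_neg, he]) hs h0
    refine step ((D i).neg_mem hv') hv' (by rw [QuadraticMap.map_neg, he]) he ?_ h1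
    rw [show -v' - v' = (-2 : F) • v' by module, map_smul', he]
    exact mul_ne_zero (mul_ne_zero (neg_ne_zero.2 h2) (neg_ne_zero.2 h2)) hvq

/-! ### moves -/

theorem rO_maps (h : Plane Q D) {j : Fin t} {v : V} (hv : v ∈ D j) (hvq : Q v ≠ 0) (i : Fin t) :
    ∀ x ∈ D i, (rO hvq).1 x ∈ D i := fun x hx => by
  rw [rO_apply]
  by_cases hij : i = j
  · subst hij; exact (D i).sub_mem hx ((D i).smul_mem _ hv)
  · rw [h.perp i j hij x hx v hv]; simpa using hx

theorem rO_fix {v x : V} (hv : Q v ≠ 0) (hx : polar Q x v = 0) : (rO hv).1 x = x := by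
  rw [rO_apply, hx]; simp

/-- two reflections in members with values in one square class -/
theorem rr_mem (h : Plane Q D) (hO : PlaneOver D H) {i j : Fin t} {u v : V} (hu : u ∈ D i) (hv : v ∈ D j)
    (huq : Q u ≠ 0) (hvq : Q v ≠ 0) {s : F} (hs : Q v = s * s * Q u) : rO huq * rO hvq ∈ H :=
  hO.blocks _ (rO_mul_mem_commutator h.nd huq hvq hs) fun l x hx => by
    rw [oG_mul_apply]; exact rO_maps h hu huq l _ (rO_maps h hv hvq l x hx)

/-- equal vectors of one value in a member are moved into one another with one compensating member -/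
theorem move (h : Plane Q D) (hO : PlaneOver D H) {i o : Fin t} (ho : o ≠ i) {a a' : V} (ha : a ∈ D i)
    (ha' : a' ∈ D i) (haq : Q a ≠ 0) (he : Q a' = Q a) :
    ∃ g ∈ H, g.1 a = a' ∧ (∀ l, ∀ x ∈ D l, g.1 x ∈ D l) ∧ ∀ l, l ≠ i → l ≠ o → ∀ x ∈ D l, g.1 x = x := by
  refine orbit h ha ha' haq he (fun z => ∃ g ∈ H, g.1 a = z ∧ (∀ l, ∀ x ∈ D l, g.1 x ∈ D l) ∧
    ∀ l, l ≠ i → l ≠ o → ∀ x ∈ D l, g.1 x = x) ?_ ⟨1, one_mem H, rfl, fun l x hx => hx, fun _ _ _ _ _ => rfl⟩
  rintro w hw hwq z hz ⟨g, hg, hga, hgm, hgf⟩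
  obtain ⟨v, hv, hvq⟩ := exists_value h o hwq
  have hvq0 : Q v ≠ 0 := by rw [hvq]; exact hwq
  refine ⟨rO hwq * rO hvq0 * g, mul_mem (rr_mem h hO hw hv hwq hvq0 (s := 1) (by rw [hvq]; ring)) hg, ?_, ?_, ?_⟩
  · rw [oG_mul_apply, hga, oG_mul_apply, rO_fix hvq0 (h.perp i o ho.symm z hz v hv)]
  · intro l x hx
    rw [oG_mul_apply, oG_mul_apply]
    exact rO_maps h hw hwq l _ (rO_maps h hv hvq0 l _ (hgm l x hx))
  · intro l hli hlo x hx
    rw [oG_mul_apply, hgf l hli hlo x hx, oG_mul_apply, rO_fix hvq0 (h.perp l o hlo x hx v hv),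
      rO_fix hwq (h.perp l i hli x hx w hw)]

/-! ### related vectors -/

/-- the product of the two reflections lies in `H`, the values are equal -/
def Rel (H : Subgroup (oG Q)) (x y : V) : Prop :=
  ∃ (hx : Q x ≠ 0) (hy : Q y ≠ 0), Q y = Q x ∧ rO hx * rO hy ∈ H

theorem Rel.ne {x y : V} (h : Rel H x y) : Q x ≠ 0 := h.1

theorem Rel.value {x y : V} (h : Rel H x y) : Q y = Q x := h.2.2.1

theorem Rel.symm {x y : V} (h : Rel H x y) : Rel H y x := by
  obtain ⟨hx, hy, e, hm⟩ := h
  refine ⟨hy, hx, e.symm, ?_⟩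
  have := inv_mem hm
  rwa [mul_inv_rev, rO_inv, rO_inv] at this

theorem Rel.trans {x y z : V} (h : Rel H x y) (h' : Rel H y z) : Rel H x z := by
  obtain ⟨hx, hy, e, hm⟩ := h
  obtain ⟨hy', hz, e', hm'⟩ := h'
  refine ⟨hx, hz, e'.trans e, ?_⟩
  have := mul_mem hm hm'
  rwa [mul_assoc, ← mul_assoc (rO hy), rO_mul_self, one_mul] at this

theorem Rel.conj {x y : V} (h : Rel H x y) {g : oG Q} (hg : g ∈ H) : Rel H (g.1 x) (g.1 y) := by
  obtain ⟨hx, hy, e, hm⟩ := h
  refine ⟨by rwa [g.2], by rwa [g.2], by rw [g.2, g.2, e], ?_⟩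
  have h1 := mul_mem (mul_mem hg hm) (inv_mem hg)
  rw [show g * (rO hx * rO hy) * g⁻¹ = (g * rO hx * g⁻¹) * (g * rO hy * g⁻¹) by group, conj_rO, conj_rO] at h1
  exact h1

/-- closure under the reflections of related vectors -/
theorem Rel.reflect {u x y : V} (hx : Rel H u x) (hy : Rel H u y) (hyq : Q y ≠ 0) :
    Rel H u ((rO hyq).1 x) := by
  obtain ⟨hu, hxq, e, hm⟩ := hx
  obtain ⟨hu', hyq', e', hm₂⟩ := hy
  refine ⟨hu, by rwa [(rO hyq).2], by rw [(rO hyq).2, e], ?_⟩
  have h1 := mul_mem hm₂ (mul_mem (inv_mem hm) hm₂)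
  have e1 : rO hu * rO hyq' * ((rO hu * rO hxq)⁻¹ * (rO hu * rO hyq')) =
      rO hu * (rO hyq * rO hxq * (rO hyq)⁻¹) := by
    rw [mul_inv_rev, rO_inv, rO_inv, rO_inv]
    rw [show rO hu * rO hyq' * (rO hxq * rO hu * (rO hu * rO hyq')) =
      rO hu * rO hyq' * rO hxq * (rO hu * rO hu) * rO hyq' by group, rO_mul_self, mul_one]
    group
  rw [e1, conj_rO] at h1
  exact h1

theorem rel_members (h : Plane Q D) (hO : PlaneOver D H) {i j : Fin t} {u v : V} (hu : u ∈ D i) (hv : v ∈ D j)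
    (huq : Q u ≠ 0) (he : Q v = Q u) : Rel H u v :=
  ⟨huq, by rwa [he], he, rr_mem h hO hu hv huq (by rwa [he]) (s := 1) (by rw [he]; ring)⟩

/-- two related vectors differing by a singular vector give a root element -/
theorem Rel.root {x y e : V} (h : Rel H x y) {δ : F} (he : Q e = 0) (hex : polar Q e x = 0) (hy : y = x + δ • e) :
    sO he (polar_perp_smul hex (-δ / Q x)) ∈ H := by
  obtain ⟨hx, hyq, -, hm⟩ := h
  rcases eq_or_ne δ 0 with rfl | hδ
  · rw [sO_congr he _ (by simp [polar]) (show (-(0 : F) / Q x) • x = 0 by simp), sO_zero]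
    exact one_mem H
  set γ := -δ / Q x with hγ
  have hγ0 : γ ≠ 0 := div_ne_zero (neg_ne_zero.2 hδ) hx
  have hq : Q (γ • x) ≠ 0 := by rw [map_smul']; exact mul_ne_zero (mul_ne_zero hγ0 hγ0) hx
  obtain ⟨hv', -, e2⟩ := sO_eq_rO_mul he (polar_perp_smul hex γ) hq
  have e3 : γ • x + (-Q (γ • x)) • e = γ • y := by
    have hd : δ = -(γ * Q x) := by rw [hγ]; field_simp
    rw [hy, map_smul', hd]
    module
  have hq' : Q (γ • y) ≠ 0 := by rwa [← e3]
  rw [e2, rO_congr hv' hq' e3, rO_smul hx hγ0 hq, rO_smul hyq hγ0 hq']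
  exact hm

end Cfsg.Agent.ClassicalMax.DecAny
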