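import Cfsg.Agent.ClassicalMax.DecAny.PlaneBase

/-!
Decompositions into planes when the vectors related to vectors of the members lie in the members: an element of the
overgroup keeping one anisotropic member vector in the members permutes the members, a product of two reflections
permuting the members is carried by two of them, and the torus of a hyperbolic member excludes half-singular relations.
-/

set_option autoImplicit false
set_option linter.unusedSectionVars false
set_option linter.style.haveILetI false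

namespace Cfsg.Agent.ClassicalMax.DecAny

open Module QuadraticMap Cfsg.Agent.Classical Cfsg.Agent.Classical.Quad Cfsg.Agent.ClassicalMax.RootPlanes
open Cfsg.Agent.ClassicalMax.DecOrth (Maps)
open scoped commutatorElement

variable {F V : Type*} [Field F] [Finite F] [AddCommGroup V] [Module F V] [FiniteDimensional F V]
  {Q : QuadraticForm F V} {t : ℕ} {D : Fin t → Submodule F V} {H : Subgroup (oG Q)}

/-- vectors related to vectors of members lie in members -/
def RelClosed (D : Fin t → Submodule F V) (H : Subgroup (oG Q)) : Prop :=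
  ∀ (i : Fin t) (u x : V), u ∈ D i → Rel H u x → ∃ o, x ∈ D o

theorem mono_of_fix (h : Plane Q D) (hO : PlaneOver D H) (hB : RelClosed D H) {g : oG Q} (hg : g ∈ H)
    {i o : Fin t} {u : V} (hu : u ∈ D i) (huq : Q u ≠ 0) (hgu : g.1 u ∈ D o) :
    ∃ σ : Equiv.Perm (Fin t), Maps D g.1 σ := by
  have key : ∀ k, ∀ v ∈ D k, Q v = Q u → ∃ p, g.1 v ∈ D p := fun k v hv hvq =>
    hB o _ _ hgu ((rel_members h hO hu hv huq hvq).conj hg)
  have hto : ∀ k, ∃ p, ∀ y ∈ D k, g.1 y ∈ D p := fun k => by
    obtain ⟨a, b, d, ha, hb, hd, haq, hbq, hdq, hba, hda, hdb⟩ := exists_three h k huq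
    have ha0 : a ≠ 0 := fun e => huq (by rw [← haq, e, map_zero])
    have hb0 : b ≠ 0 := fun e => huq (by rw [← hbq, e, map_zero])
    obtain ⟨p, hp⟩ := key k a ha haq
    obtain ⟨p', hp'⟩ := key k b hb hbq
    obtain ⟨p'', hp''⟩ := key k d hd hdq
    obtain ⟨α, β, hd'⟩ := span_two h ha hb ha0 hba hd
    have hpp : p = p' := by
      by_contra hne
      have hα : α ≠ 0 := fun e => hdb (Submodule.mem_span_singleton.2 ⟨β, by rw [← hd', e, zero_smul, zero_add]⟩)
      have hβ : β ≠ 0 := fun e => hda (Submodule.mem_span_singleton.2 ⟨α, by rw [← hd', e, zero_smul, add_zero]⟩)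
      by_cases hpd : p'' = p
      · subst hpd
        have h1 : g.1 (β • b) ∈ D p'' := by
          rw [show β • b = d - α • a by rw [← hd']; abel, map_sub, map_smul]
          exact (D p'').sub_mem hp'' ((D p'').smul_mem _ hp)
        have h2 : g.1 (β • b) ∈ D p' := by rw [map_smul]; exact (D p').smul_mem _ hp'
        exact smul_ne_zero hβ hb0 (g.1.map_eq_zero_iff.1 (eq_zero_of_two h.toPre hne h1 h2))
      · have h1 : pr h.toPre p (g.1 d) = 0 := pr_other h.toPre hpd hp''
        rw [← hd', map_add, map_smul, map_smul, map_add, map_smul, map_smul, pr_same h.toPre hp,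
          pr_other h.toPre (Ne.symm hne) hp', smul_zero, add_zero] at h1
        exact smul_ne_zero hα (fun e => ha0 (g.1.map_eq_zero_iff.1 e)) h1
    subst hpp
    refine ⟨p, fun y hy => ?_⟩
    obtain ⟨r, s, rfl⟩ := span_two h ha hb ha0 hba hy
    rw [map_add, map_smul, map_smul]
    exact (D p).add_mem ((D p).smul_mem _ hp) ((D p).smul_mem _ hp')
  choose σ hσ using hto
  have hmap : ∀ k, (D k).map g.1.toLinearMap = D (σ k) := fun k => map_eq_of_le (h.eqdim _ _) (hσ k)
  have hinj : Function.Injective σ := fun k k' e => by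
    by_contra hne
    have hD : D k = D k' :=
      Submodule.map_injective_of_injective (f := g.1.toLinearMap) g.1.injective (by rw [hmap, hmap, e])
    obtain ⟨x, hx, hxq⟩ := exists_value h k one_ne_zero
    have := eq_zero_of_two h.toPre hne hx (hD ▸ hx)
    rw [this, map_zero] at hxq
    exact zero_ne_one hxq
  exact ⟨Equiv.ofBijective σ hinj.bijective_of_finite, hσ⟩

/-- a product of two perpendicular reflections permuting the members meets at most two of them -/
theorem classify (h : Plane Q D) {x y : V} (hxq : Q x ≠ 0) (hyq : Q y ≠ 0) (hxy : polar Q x y = 0)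
    (hyx : y ∉ Submodule.span F ({x} : Set V)) {σ : Equiv.Perm (Fin t)} (hσ : Maps D (rO hxq * rO hyq).1 σ)
    {o₁ o₂ o₃ : Fin t} (h12 : o₁ ≠ o₂) (h13 : o₁ ≠ o₃) (h23 : o₂ ≠ o₃)
    (n₁ : pr h.toPre o₁ x ≠ 0 ∨ pr h.toPre o₁ y ≠ 0) (n₂ : pr h.toPre o₂ x ≠ 0 ∨ pr h.toPre o₂ y ≠ 0)
    (n₃ : pr h.toPre o₃ x ≠ 0 ∨ pr h.toPre o₃ y ≠ 0) : False := by
  let L : V →ₗ[F] V := (rO hxq * rO hyq).1.toLinearMap - LinearMap.id
  set W := Submodule.span F ({x, y} : Set V)
  have hLz : ∀ z, L z = (-(polar Q z x / Q x)) • x + (-(polar Q z y / Q y)) • y := fun z => by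
    simp only [L, LinearMap.sub_apply, LinearMap.id_apply, LinearEquiv.coe_coe, oG_mul_apply, rO_apply,
      polar_sub_left, polar_smul_left, polar_comm Q y x, hxy, smul_zero, sub_zero]
    module
  have hLW : ∀ z, L z ∈ W := fun z => Submodule.mem_span_pair.2 ⟨_, _, (hLz z).symm⟩
  have hxy' : x ∉ Submodule.span F ({y} : Set V) := fun hm => by
    obtain ⟨r, hr⟩ := Submodule.mem_span_singleton.1 hm
    refine hyx (Submodule.mem_span_singleton.2 ⟨r⁻¹, ?_⟩)
    rw [← hr, inv_smul_smul₀]
    intro e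
    rw [e, zero_smul] at hr
    exact hxq (by rw [← hr, map_zero])
  have hin : ∀ {a b : V} (haq : Q a ≠ 0), a ∉ Submodule.span F ({b} : Set V) →
      (∀ z, L z = (-(polar Q z a / Q a)) • a + (-(polar Q z b / Q b)) • b) → ∃ z, L z = a := by
    intro a b haq hab hL
    obtain ⟨z, hz, hza⟩ := exists_perp h.nd hab
    refine ⟨(-(Q a / polar Q z a)) • z, ?_⟩
    rw [hL, polar_smul_left, polar_smul_left, polar_comm Q z b, hz b (Submodule.mem_span_singleton_self b),
      smul_zero, zero_div, neg_zero, zero_smul, add_zero]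
    have : polar Q z a ≠ 0 := by rw [polar_comm, hza]; exact one_ne_zero
    rw [smul_eq_mul, show -(-(Q a / polar Q z a) * polar Q z a / Q a) = (1 : F) by field_simp, one_smul]
  obtain ⟨zx, hzx⟩ := hin hxq hxy' hLz
  obtain ⟨zy, hzy⟩ := hin hyq hyx fun z => (hLz z).trans (add_comm _ _)
  by_cases hmove : ∃ a, σ a ≠ a
  · obtain ⟨a, ha⟩ := hmove
    have hinj : Function.Injective (L.comp (D a).subtype) := (injective_iff_map_eq_zero _).2 fun z hz => by
      have h1 : (rO hxq * rO hyq).1 (z : V) = z := sub_eq_zero.1 hz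
      exact Subtype.ext (eq_zero_of_two h.toPre ha (h1 ▸ hσ a z z.2) z.2)
    have hW : (D a).map L = W := by
      refine Submodule.eq_of_le_of_finrank_le (by rintro _ ⟨z, -, rfl⟩; exact hLW z) ?_
      classical
      have h1 := finrank_span_le_card (R := F) ({x, y} : Set V)
      rw [Set.toFinset_insert, Set.toFinset_singleton] at h1
      have h2 := Finset.card_le_two (a := x) (b := y)
      change finrank F W ≤ _ at h1
      have h3 : finrank F ((D a).map L) = 2 := by
        rw [← LinearMap.range_domRestrict, ← h.dim a]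
        exact LinearMap.finrank_range_of_inj hinj
      change finrank F W ≤ _
      omega
    have hzero : ∀ o, o ≠ a → o ≠ σ a → ∀ w ∈ W, pr h.toPre o w = 0 := fun o hoa hos w hw => by
      rw [← hW] at hw
      obtain ⟨z, hz, rfl⟩ := hw
      show pr h.toPre o ((rO hxq * rO hyq).1 z - z) = 0
      rw [map_sub, pr_other h.toPre hoa.symm hz, pr_other h.toPre hos.symm (hσ a z hz), sub_zero]
    have kill : ∀ o, o ≠ a → o ≠ σ a → ¬(pr h.toPre o x ≠ 0 ∨ pr h.toPre o y ≠ 0) := fun o hoa hos hn =>
      hn.elim (fun e => e (hzero o hoa hos x (Submodule.subset_span (Or.inl rfl))))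
        (fun e => e (hzero o hoa hos y (Submodule.subset_span (Or.inr rfl))))
    have hmem : ∀ o, pr h.toPre o x ≠ 0 ∨ pr h.toPre o y ≠ 0 → o = a ∨ o = σ a := fun o hn => by
      by_contra hc
      push Not at hc
      exact kill o hc.1 hc.2 hn
    rcases hmem _ n₁ with e | e <;> rcases hmem _ n₂ with e' | e' <;> rcases hmem _ n₃ with e'' | e'' <;>
      simp_all
  push Not at hmove
  have hpc : ∀ o z, pr h.toPre o (L z) = L (pr h.toPre o z) := fun o z => by
    conv_lhs => rw [← sum_pr h.toPre z]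
    rw [map_sum, map_sum, Finset.sum_eq_single o]
    · refine pr_same h.toPre ((D o).sub_mem ?_ (pr_mem h.toPre o z))
      have := hσ o _ (pr_mem h.toPre o z)
      rwa [hmove o] at this
    · intro k _ hk
      refine pr_other h.toPre hk ((D k).sub_mem ?_ (pr_mem h.toPre k z))
      have := hσ k _ (pr_mem h.toPre k z)
      rwa [hmove k] at this
    · intro hn; exact absurd (Finset.mem_univ o) hn
  have get : ∀ o, pr h.toPre o x ≠ 0 ∨ pr h.toPre o y ≠ 0 → ∃ w ∈ W, w ∈ D o ∧ w ≠ 0 := fun o hn => by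
    rcases hn with hn | hn
    · rw [← hzx, hpc] at hn
      exact ⟨_, hLW _, by rw [← hpc]; exact pr_mem _ _ _, hn⟩
    · rw [← hzy, hpc] at hn
      exact ⟨_, hLW _, by rw [← hpc]; exact pr_mem _ _ _, hn⟩
  obtain ⟨w₁, m₁, d₁, z₁⟩ := get _ n₁
  obtain ⟨w₂, m₂, d₂, z₂⟩ := get _ n₂
  obtain ⟨w₃, m₃, d₃, z₃⟩ := get _ n₃
  have hli : LinearIndependent F ![w₁, w₂, w₃] := by
    rw [Fintype.linearIndependent_iff]
    intro c hc
    simp only [Fin.sum_univ_three, Matrix.cons_val_zero, Matrix.cons_val_one, Matrix.cons_val_two, Matrix.head_cons,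
      Matrix.tail_cons] at hc
    have e1 := congrArg (pr h.toPre o₁) hc
    have e2 := congrArg (pr h.toPre o₂) hc
    have e3 := congrArg (pr h.toPre o₃) hc
    simp only [map_add, map_smul, pr_same h.toPre d₁, pr_other h.toPre h12.symm d₂, pr_other h.toPre h13.symm d₃,
      smul_zero, add_zero, map_zero, smul_eq_zero, z₁, or_false] at e1
    simp only [map_add, map_smul, pr_same h.toPre d₂, pr_other h.toPre h12 d₁, pr_other h.toPre h23.symm d₃,
      smul_zero, add_zero, zero_add, map_zero, smul_eq_zero, z₂, or_false] at e2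
    simp only [map_add, map_smul, pr_same h.toPre d₃, pr_other h.toPre h13 d₁, pr_other h.toPre h23 d₂,
      smul_zero, zero_add, map_zero, smul_eq_zero, z₃, or_false] at e3
    intro k
    fin_cases k <;> assumption
  classical
  have h1 := Submodule.finrank_mono (show Submodule.span F (Set.range ![w₁, w₂, w₃]) ≤ W by
    rw [Submodule.span_le]; rintro _ ⟨k, rfl⟩; fin_cases k <;> assumption)
  rw [finrank_span_eq_card hli, Fintype.card_fin] at h1
  have h2 := finrank_span_le_card (R := F) ({x, y} : Set V)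
  rw [Set.toFinset_insert, Set.toFinset_singleton] at h2
  have h3 := Finset.card_le_two (a := x) (b := y)
  change 3 ≤ finrank F W at h1
  change finrank F W ≤ _ at h2
  omega

/-- the torus of a hyperbolic plane -/
theorem torus (h : Plane Q D) (hO : PlaneOver D H) (hq : 7 ≤ Nat.card F) {k : Fin t} {e f : V} (he : e ∈ D k)
    (hf : f ∈ D k) (heq : Q e = 0) (hfq : Q f = 0) (hef : polar Q e f = 1) :
    ∃ μ : F, μ ≠ 0 ∧ μ ≠ 1 ∧ ∃ τ ∈ H, ∀ z, τ.1 z = z + ((μ - 1) * polar Q z f) • e + ((μ⁻¹ - 1) * polar Q z e) • f := by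
  classical
  have := Fintype.ofFinite F
  obtain ⟨ν, hν⟩ : ∃ ν : F, ν ∉ ({0, 1, -1} : Finset F) := by
    by_contra hn
    push Not at hn
    have h1 := congrArg Finset.card (Finset.eq_univ_iff_forall.2 hn)
    rw [Finset.card_univ] at h1
    rw [Nat.card_eq_fintype_card] at hq
    have := Finset.card_le_three (a := (0 : F)) (b := 1) (c := -1)
    omega
  simp only [Finset.mem_insert, Finset.mem_singleton, not_or] at hν
  obtain ⟨hν0, hν1, hνn⟩ := hν
  have hfe : polar Q f e = 1 := by rw [polar_comm, hef]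
  have hee : polar Q e e = 0 := by rw [polar_self', heq, mul_zero]
  have hff : polar Q f f = 0 := by rw [polar_self', hfq, mul_zero]
  have hp1 : Q (e + f) = 1 := by rw [map_add', heq, hfq, hef]; ring
  have hp2 : Q (e + ν • f) = ν := by rw [map_add_smul, heq, hfq, hef]; ring
  have hp : Q (e + f) ≠ 0 := by rw [hp1]; exact one_ne_zero
  have hp' : Q (e + ν • f) ≠ 0 := by rw [hp2]; exact hν0
  set τ := rO hp * rO hp'
  have hA : ∀ z, τ.1 z = z + ((ν - 1) * polar Q z f) • e + ((ν⁻¹ - 1) * polar Q z e) • f := fun z => by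
    simp only [τ, oG_mul_apply, rO_apply, hp1, hp2, polar_sub_left, polar_smul_left, polar_add_left, polar_add_right,
      polar_smul_right, hef, hfe, hee, hff, smul_eq_mul]
    match_scalars <;> field_simp <;> ring
  refine ⟨ν * ν, mul_ne_zero hν0 hν0, fun e' => ?_, τ * τ, ?_, fun z => ?_⟩
  · rcases mul_self_eq_mul_self_iff.1 (show ν * ν = 1 * 1 by rw [e', one_mul]) with e'' | e''
    · exact hν1 e''
    · exact hνn e''
  · have e1 : τ * τ = ⁅rO hp, rO hp'⁆ := by
      rw [commutatorElement_def, rO_inv, rO_inv, ← mul_assoc]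
    rw [e1]
    refine hO.blocks _ (Subgroup.commutator_mem_commutator (Subgroup.mem_top _) (Subgroup.mem_top _)) fun o x hx => ?_
    rw [← e1]
    have hm : ∀ y ∈ D o, τ.1 y ∈ D o := fun y hy => by
      simp only [τ, oG_mul_apply]
      exact rO_maps h ((D k).add_mem he hf) hp o _ (rO_maps h ((D k).add_mem he ((D k).smul_mem _ hf)) hp' o _ hy)
    rw [oG_mul_apply]
    exact hm _ (hm x hx)
  · rw [oG_mul_apply, hA, hA]
    simp only [polar_add_left, polar_smul_left, hef, hfe, hee, hff, smul_eq_mul]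
    match_scalars <;> field_simp <;> ring

/-- related vectors: a component cannot be zero for one and singular for the other -/
theorem no_half (h : Plane Q D) (hO : PlaneOver D H) (hB : RelClosed D H) (hq : 7 ≤ Nat.card F) {k : Fin t}
    {z z' : V} (hz : Rel H z z') (h0 : pr h.toPre k z = 0) (hs : Q (pr h.toPre k z') = 0)
    (hne : pr h.toPre k z' ≠ 0) : False := by
  have hε := pr_mem h.toPre k z'
  set ε := pr h.toPre k z' with hεdef
  obtain ⟨f, hf, hfq, hef⟩ := partner h.toPre hε hne hs
  obtain ⟨μ, hμ0, hμ1, τ, hτ, hτz⟩ := torus h hO hq hε hf hs hfq hef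
  have p1 : polar Q z' f = 1 := by rw [← pr_polar h.toPre k z' hf, hef]
  have p2 : polar Q z' ε = 0 := by rw [← pr_polar h.toPre k z' hε, ← hεdef, polar_self', hs, mul_zero]
  have e1 : τ.1 z = z := by
    rw [hτz, perp_of_pr h.toPre h0 f hf, perp_of_pr h.toPre h0 ε hε]; simp
  have e2 : τ.1 z' = z' + (μ - 1) • ε := by rw [hτz, p1, p2]; simp
  have h1 := hz.conj hτ
  rw [e1] at h1
  have hrel : Rel H z' (τ.1 z') := hz.symm.trans h1
  have hroot := hrel.root hs (by rw [polar_comm, p2]) e2
  set γ := -(μ - 1) / Q z' with hγdef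
  have hγ : γ ≠ 0 := div_ne_zero (neg_ne_zero.2 (sub_ne_zero.2 hμ1)) hrel.ne
  set s := sO hs (polar_perp_smul (show polar Q ε z' = 0 by rw [polar_comm, p2]) γ)
  obtain ⟨l, hl⟩ : ∃ l, Q (pr h.toPre l z') ≠ 0 := by
    by_contra hn
    push Not at hn
    exact hrel.ne (by rw [Q_eq_sum h.toPre]; simp [hn])
  have hlk : l ≠ k := fun e => hl (e ▸ hs)
  obtain ⟨n, hn, hn0, hzn⟩ := exists_perp_vec h l (pr h.toPre l z')
  have hnq := perp_aniso h (pr_mem h.toPre l z') hn hl hn0 hzn
  rw [pr_polar h.toPre l z' hn, polar_comm] at hzn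
  have hsn : s.1 n = n := by
    rw [sO_apply, polar_smul_right, hzn, h.perp l k hlk n hn ε hε]; simp
  obtain ⟨σ, hσ⟩ := mono_of_fix h hO hB hroot hn hnq (o := l) (by rw [hsn]; exact hn)
  have hsf := hσ k f hf
  have hfe : polar Q f ε = 1 := by rw [polar_comm, hef]
  rw [sO_apply, hfe] at hsf
  by_cases hkl : σ k = l
  · have e3 := pr_other h.toPre (i := k) (show σ k ≠ k by rw [hkl]; exact hlk) hsf
    rw [map_add, map_add, map_add, map_smul, map_smul, map_smul, map_smul, pr_same h.toPre hf, pr_same h.toPre hε,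
      ← hεdef] at e3
    have e4 := congrArg (fun v => polar Q v ε) e3
    have hee : polar Q ε ε = 0 := by rw [polar_self', hs, mul_zero]
    simp [polar_add_left, polar_smul_left, hfe, hee] at e4
  · have e3 := pr_other h.toPre (i := l) hkl hsf
    rw [map_add, map_add, map_add, map_smul, map_smul, map_smul, map_smul, pr_other h.toPre hlk.symm hf,
      pr_other h.toPre hlk.symm hε] at e3
    simp at e3
    exact e3.elim hγ fun e => hl (by rw [e, map_zero])

end Cfsg.Agent.ClassicalMax.DecAny
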