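import Cfsg.Agent.ClassicalMax.DecAny.PlaneBase

/-!
Decompositions into planes: the additive group spanned by an orbit of the reflections of a plane is the plane, and one
root element with a centre carried by two members and a parameter meeting a third gives all root elements.
-/

set_option autoImplicit false
set_option linter.unusedSectionVars false
set_option linter.style.haveILetI false

namespace Cfsg.Agent.ClassicalMax.DecAny

open Module QuadraticMap Cfsg.Agent.Classical Cfsg.Agent.Classical.Quad Cfsg.Agent.ClassicalMax.RootPlanes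
open Cfsg.Agent.ClassicalMax.DecOrth (In Maps)

variable {F V : Type*} [Field F] [Finite F] [AddCommGroup V] [Module F V] [FiniteDimensional F V]
  {Q : QuadraticForm F V} {t : ℕ} {D : Fin t → Submodule F V} {H : Subgroup (oG Q)}

/-- a proper subring of a finite field has at most as many elements as the square root -/
theorem subring_small (R : Subring F) (hR : R ≠ ⊤) : Nat.card R * Nat.card R ≤ Nat.card F := by
  obtain ⟨y, hy⟩ : ∃ y, y ∉ R := by
    by_contra hn
    push Not at hn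
    exact hR (top_unique fun y _ => hn y)
  rw [← Nat.card_prod]
  refine Nat.card_le_card_of_injective (fun p : R × R => (p.1 : F) + p.2 * y) ?_
  rintro ⟨a, b⟩ ⟨a', b'⟩ e
  have e' : ((a : F) - a') + ((b : F) - b') * y = 0 := by
    have e0 : (a : F) + b * y = (a' : F) + b' * y := e
    linear_combination e0
  by_cases hb : (b : F) - b' = 0
  · rw [hb, zero_mul, add_zero, sub_eq_zero] at e'
    exact Prod.ext (Subtype.ext e') (Subtype.ext (sub_eq_zero.1 hb))
  · refine absurd ?_ hy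
    have := Fintype.ofFinite F
    have hinv : ((b : F) - b')⁻¹ ∈ R := by
      have h1 := FiniteField.pow_card_sub_one_eq_one _ hb
      have h2 := Fintype.one_lt_card (α := F)
      rw [show Fintype.card F - 1 = (Fintype.card F - 2) + 1 by omega, pow_succ] at h1
      rw [← eq_inv_of_mul_eq_one_left h1]
      exact pow_mem (sub_mem b.2 b'.2) _
    have : y = -((a : F) - a') * ((b : F) - b')⁻¹ := by
      field_simp
      linear_combination e'
    rw [this]
    exact mul_mem (neg_mem (sub_mem a.2 a'.2)) hinv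

theorem fibre (h : Plane Q D) {i : Fin t} {u z₁ z₂ z₃ : V} (hu : u ∈ D i) (h1 : z₁ ∈ D i) (h2 : z₂ ∈ D i)
    (h3 : z₃ ∈ D i) (huq : Q u ≠ 0) (e2 : Q z₂ = Q z₁) (e3 : Q z₃ = Q z₁) (p2 : polar Q u z₂ = polar Q u z₁)
    (p3 : polar Q u z₃ = polar Q u z₁) (h12 : z₁ ≠ z₂) (h13 : z₁ ≠ z₃) (h23 : z₂ ≠ z₃) : False := by
  obtain ⟨n, hn, hn0, hun⟩ := exists_perp_vec h i u
  have hu0 : u ≠ 0 := fun e => huq (by rw [e, map_zero])
  have key : ∀ {z : V}, z ∈ D i → polar Q u z = polar Q u z₁ → ∃ ρ : F, z = z₁ + ρ • n := fun {z} hz hp => by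
    obtain ⟨ρ, hρ⟩ := Submodule.mem_span_singleton.1
      (perp_line h hu hu0 hn hn0 hun ((D i).sub_mem hz h1) (by rw [polar_sub_right, hp, sub_self]))
    exact ⟨ρ, by rw [hρ]; abel⟩
  obtain ⟨r₂, hr₂⟩ := key h2 p2
  obtain ⟨r₃, hr₃⟩ := key h3 p3
  have root : ∀ {r : F}, Q (z₁ + r • n) = Q z₁ → Q n * (r * r) + polar Q z₁ n * r + 0 = 0 := fun {r} hr => by
    rw [map_add_smul] at hr
    linear_combination hr
  have hne0 : ∀ {r : F} {z : V}, z = z₁ + r • n → z₁ ≠ z → (0 : F) ≠ r := fun {r z} hz hne e => hne (by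
    rw [hz, ← e, zero_smul, add_zero])
  have := coef_of_three (hne0 hr₂ h12) (hne0 hr₃ h13) (fun e => h23 (by rw [hr₂, hr₃, e]))
    (root (r := 0) (by rw [zero_smul, add_zero])) (root (hr₂ ▸ e2)) (root (hr₃ ▸ e3))
  exact perp_aniso h hu hn huq hn0 hun this.1

/-- an additive group invariant under the reflections of a plane with an anisotropic vector of it contains it -/
theorem span_orbit (h : Plane Q D) {i : Fin t} (A : AddSubgroup V) {u : V} (hu : u ∈ D i) (huq : Q u ≠ 0)
    (huA : u ∈ A) (hA : ∀ w ∈ D i, ∀ hw : Q w ≠ 0, ∀ z ∈ D i, z ∈ A → (rO hw).1 z ∈ A) : ∀ z ∈ D i, z ∈ A := by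
  classical
  have : Finite V := Module.finite_of_finite F
  have := Fintype.ofFinite V
  have := Fintype.ofFinite F
  have trans : ∀ k : F, k • u ∈ A → ∀ v ∈ D i, Q v = Q u → k • v ∈ A := fun k hk v hv hvq =>
    orbit h hu hv huq hvq (fun z => k • z ∈ A) (fun w hw hwq z hz hz' => by
      have := hA w hw hwq _ ((D i).smul_mem k hz) hz'
      rwa [map_smul] at this) hk
  let R : Subring F :=
    { carrier := {r | ∀ k : F, k • u ∈ A → (r * k) • u ∈ A}
      one_mem' := fun k hk => by simpa using hk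
      mul_mem' := fun {r s} hr hs k hk => by rw [mul_assoc]; exact hr _ (hs k hk)
      add_mem' := fun {r s} hr hs k hk => by rw [add_mul, add_smul]; exact A.add_mem (hr k hk) (hs k hk)
      zero_mem' := fun k hk => by simp
      neg_mem' := fun {r} hr k hk => by rw [neg_mul, neg_smul]; exact A.neg_mem (hr k hk) }
  have hT : ∀ z ∈ D i, Q z = Q u → polar Q z u / Q u ∈ R := fun z hz hzq k hk => by
    have h1 := trans k hk z hz hzq
    have h2 := A.sub_mem h1 (hA u hu huq _ ((D i).smul_mem k hz) h1)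
    rw [rO_apply, sub_sub_cancel, polar_smul_left, smul_eq_mul] at h2
    rwa [show polar Q z u / Q u * k = k * polar Q z u / Q u by ring]
  have hR : R = ⊤ := by
    by_contra hR
    have hsmall := subring_small R hR
    let s : Finset V := Finset.univ.filter fun z => z ∈ D i ∧ Q z = Q u
    obtain ⟨h1, h2⟩ := vals_card h huq s (fun z hz hq => Finset.mem_filter.2 ⟨Finset.mem_univ z, hz, hq⟩) (i := i)
    let φ : V → F := fun z => polar Q z u / Q u
    have h3 : s.card ≤ 2 * (s.image φ).card := by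
      refine Finset.card_le_mul_card_image s 2 fun b _ => ?_
      by_contra hgt
      obtain ⟨z₁, m1, z₂, m2, z₃, m3, n12, n13, n23⟩ := Finset.two_lt_card.1 (not_le.1 hgt)
      simp only [s, φ, Finset.mem_filter, Finset.mem_univ, true_and] at m1 m2 m3
      have hp : ∀ {z : V}, polar Q z u / Q u = b → polar Q u z = b * Q u := fun {z} hb => by
        rw [polar_comm, ← hb, div_mul_cancel₀ _ huq]
      exact fibre h hu m1.1.1 m2.1.1 m3.1.1 huq (m2.1.2.trans m1.1.2.symm) (m3.1.2.trans m1.1.2.symm)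
        ((hp m2.2).trans (hp m1.2).symm) ((hp m3.2).trans (hp m1.2).symm) n12 n13 n23
    have h4 : (s.image φ).card ≤ Nat.card R := by
      rw [Nat.card_eq_fintype_card, Fintype.card_subtype]
      refine Finset.card_le_card fun b hb => ?_
      obtain ⟨z, hz, rfl⟩ := Finset.mem_image.1 hb
      have hz' := (Finset.mem_filter.1 hz).2
      exact Finset.mem_filter.2 ⟨Finset.mem_univ _, hT z hz'.1 hz'.2⟩
    rcases h.kind with ⟨hq, -⟩ | ⟨-, han⟩
    · have h5 : (Nat.card F - 1) * (Nat.card F - 1) ≤ 4 * Nat.card F := by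
        have := Nat.mul_le_mul (h1.trans (h3.trans (Nat.mul_le_mul_left 2 h4)))
          (h1.trans (h3.trans (Nat.mul_le_mul_left 2 h4)))
        nlinarith
      obtain ⟨r, hr⟩ := Nat.exists_eq_add_of_le hq
      rw [hr, show 7 + r - 1 = 6 + r by omega] at h5
      nlinarith
    · have h6 := (h2 (han i)).trans (h3.trans (Nat.mul_le_mul_left 2 h4))
      have := Finite.one_lt_card (α := F)
      nlinarith [Nat.mul_le_mul h6 h6]
  have all : ∀ (v : V), v ∈ D i → Q v = Q u → ∀ k : F, k • v ∈ A := fun v hv hvq k =>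
    trans k (by
      have := (show k ∈ R by rw [hR]; trivial) 1 (by rwa [one_smul])
      rwa [mul_one] at this) v hv hvq
  obtain ⟨a, b, -, ha, hb, -, haq, hbq, -, hba, -, -⟩ := exists_three h i huq
  intro z hz
  obtain ⟨α, β, rfl⟩ := span_two h ha hb (fun e => huq (by rw [← haq, e, map_zero])) hba hz
  exact A.add_mem (all a ha haq α) (all b hb hbq β)

/-- the parameters with root element in `H` -/
def rootPar (H : Subgroup (oG Q)) {e : V} (he : Q e = 0) : AddSubgroup V where
  carrier := {d | ∃ hd : polar Q e d = 0, sO he hd ∈ H}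
  zero_mem' := ⟨by simp [polar], by rw [sO_zero]; exact one_mem H⟩
  add_mem' := fun {a b} ha hb => by
    obtain ⟨h1, m1⟩ := ha
    obtain ⟨h2, m2⟩ := hb
    exact ⟨polar_perp_add h1 h2, sO_mul he h1 h2 ▸ mul_mem m1 m2⟩
  neg_mem' := fun {a} ha => by
    obtain ⟨h1, m1⟩ := ha
    exact ⟨polar_perp_neg h1, sO_inv he h1 ▸ inv_mem m1⟩

theorem rootPar_inv {e d : V} {he : Q e = 0} (hd : d ∈ rootPar H he) {g : oG Q} (hg : g ∈ H) (hge : g.1 e = e) :
    g.1 d ∈ rootPar H he := by
  obtain ⟨hed, hm⟩ := hd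
  have h1 := mul_mem (mul_mem hg hm) (inv_mem hg)
  rw [conj_sO] at h1
  refine ⟨?_, ?_⟩
  · conv_lhs => rw [← hge]
    rw [polar_oG, hed]
  · have : ∀ (p : V) (hp : Q p = 0) (hq : polar Q p (g.1 d) = 0), p = e → sO hp hq ∈ H →
        ∀ hq' : polar Q e (g.1 d) = 0, sO he hq' ∈ H := by
      rintro p hp hq rfl h' hq'; exact h'
    exact this _ _ _ hge h1 _

theorem exists_out (h : Plane Q D) (S : Finset (Fin t)) (hS : S.card < 5) : ∃ p, p ∉ S := by
  by_contra hn
  push Not at hn
  rw [Finset.eq_univ_iff_forall.2 hn, Finset.card_univ, Fintype.card_fin] at hS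
  exact absurd h.five (by omega)

theorem exists_out_four (h : Plane Q D) (a b c d : Fin t) : ∃ p, p ≠ a ∧ p ≠ b ∧ p ≠ c ∧ p ≠ d := by
  obtain ⟨p, hp⟩ := exists_out h {a, b, c, d} (lt_of_le_of_lt Finset.card_le_four (by norm_num))
  simp only [Finset.mem_insert, Finset.mem_singleton, not_or] at hp
  exact ⟨p, hp⟩

theorem back (h : Plane Q D) {g : V ≃ₗ[F] V} {σ : Equiv.Perm (Fin t)} (hg : Maps D g σ) {k l : Fin t}
    (hkl : σ k = l) {y : V} (hy : y ∈ D l) : ∃ y₀ ∈ D k, g y₀ = y := by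
  rw [← hkl, ← map_eq_of_le (h.eqdim k (σ k)) (hg k)] at hy
  exact hy

/-- a root element with centre in two members and parameter meeting a third, but not a fourth -/
theorem root_finish (h : Plane Q D) (hO : PlaneOver D H) {i j l m : Fin t} (hij : i ≠ j) (hli : l ≠ i)
    (hlj : l ≠ j) (hmi : m ≠ i) (hmj : m ≠ j) (hml : m ≠ l) {a b d : V} (ha : a ∈ D i) (hb : b ∈ D j)
    (haq : Q a ≠ 0) (hbq : Q b = -Q a) (he : Q (a + b) = 0) (hd : d ∈ rootPar H he)
    (hdl : pr h.toPre l d = 0) (hdm : pr h.toPre m d ≠ 0) : eo Q ≤ H := by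
  have hbq0 : Q b ≠ 0 := by rw [hbq]; exact neg_ne_zero.2 haq
  have eperp : ∀ {o : Fin t}, o ≠ i → o ≠ j → ∀ y ∈ D o, polar Q (a + b) y = 0 := fun {o} hoi hoj y hy => by
    rw [polar_add_left, h.perp i o hoi.symm a ha y hy, h.perp j o hoj.symm b hb y hy, add_zero]
  -- a reflection of `D m` compensated in `D l` fixes the centre
  have comp : ∀ w ∈ D m, ∀ hw : Q w ≠ 0, ∃ g ∈ H, g.1 (a + b) = a + b ∧
      ∀ z, (∀ y ∈ D l, polar Q z y = 0) → g.1 z = (rO hw).1 z := fun w hw hwq => by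
    obtain ⟨v, hv, hvq⟩ := exists_value h l hwq
    have hvq0 : Q v ≠ 0 := by rw [hvq]; exact hwq
    refine ⟨rO hwq * rO hvq0, rr_mem h hO hw hv hwq hvq0 (s := 1) (by rw [hvq]; ring), ?_, fun z hz => ?_⟩
    · rw [oG_mul_apply, rO_fix hvq0 (eperp hli hlj v hv), rO_fix hwq (eperp hmi hmj w hw)]
    · rw [oG_mul_apply, rO_fix hvq0 (hz v hv)]
  obtain ⟨w, hw, hwq, hdw⟩ := exists_nonperp h (i := m) one_ne_zero (pr_mem h.toPre m d) hdm
  rw [pr_polar h.toPre m d hw] at hdw
  have hwq0 : Q w ≠ 0 := by rw [hwq]; exact one_ne_zero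
  have hu : (polar Q d w / Q w) • w ∈ rootPar H he := by
    obtain ⟨g, hg, hge, hgz⟩ := comp w hw hwq0
    have h1 := (rootPar H he).sub_mem hd (rootPar_inv hd hg hge)
    rwa [hgz d (perp_of_pr h.toPre hdl), rO_apply, sub_sub_cancel] at h1
  have hinM : ∀ z ∈ D m, z ∈ rootPar H he := span_orbit h _ ((D m).smul_mem _ hw)
    (by rw [map_smul']; exact mul_ne_zero (mul_ne_zero (div_ne_zero hdw hwq0) (div_ne_zero hdw hwq0)) hwq0) hu
    fun w' hw' hwq' z hz hz' => by
      obtain ⟨g, hg, hge, hgz⟩ := comp w' hw' hwq'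
      have := rootPar_inv hz' hg hge
      rwa [hgz z fun y hy => h.perp m l hml z hz y hy] at this
  have hM : ∀ z ∈ D m, In H (a + b) z := fun z hz => ⟨he, eperp hmi hmj z hz, fun r hr => by
    obtain ⟨_, hm'⟩ := hinM _ ((D m).smul_mem r hz)
    exact hm'⟩
  -- all other members
  have hrest : ∀ o, o ≠ i → o ≠ j → ∀ y ∈ D o, In H (a + b) y := by
    intro o hoi hoj y hy
    by_cases hom : o = m
    · subst hom; exact hM y hy
    obtain ⟨p, hpi, hpj, hpm, hpo⟩ := exists_out_four h i j m o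
    obtain ⟨g, hg, σ, hσ, e1, -, -, hfix⟩ := hO.cyc m o p (Ne.symm hom) hpo.symm hpm.symm
    have hga : g.1 a ∈ D i := by
      have := hσ i a ha
      rwa [hfix i hmi.symm hoi.symm hpi.symm] at this
    have hgb : g.1 b ∈ D j := by
      have := hσ j b hb
      rwa [hfix j hmj.symm hoj.symm hpj.symm] at this
    obtain ⟨ki, hki, hkia, hkim, hkif⟩ := move h hO (o := p) hpi hga ha (by rw [g.2]; exact haq) (by rw [g.2])
    obtain ⟨kj, hkj, hkjb, hkjm, hkjf⟩ := move h hO (o := p) hpj hgb hb (by rw [g.2]; exact hbq0) (by rw [g.2])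
    have hN : (kj * ki * g).1 (a + b) = a + b := by
      rw [map_add, oG_mul_apply, oG_mul_apply, oG_mul_apply, oG_mul_apply, hkia, hkjf i hij hpi.symm a ha,
        hkif j hij.symm hpj.symm _ hgb, hkjb]
    have hmaps : Maps D (kj * ki * g).1 σ := fun k x hx => by
      rw [oG_mul_apply, oG_mul_apply]
      exact hkjm _ _ (hkim _ _ (hσ k x hx))
    obtain ⟨y₀, hy₀, rfl⟩ := back h hmaps e1 hy
    have := (hM y₀ hy₀).conj (mul_mem (mul_mem hkj hki) hg)
    rwa [hN] at this
  -- a second centre in two further members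
  obtain ⟨p, hpi, hpj, -, -⟩ := exists_out_four h i j i j
  obtain ⟨r, hri, hrj, hrp, -⟩ := exists_out_four h i j p p
  obtain ⟨o, hoi, hoj, hop, hor⟩ := exists_out_four h i j p r
  obtain ⟨g₁, hg₁, σ₁, hσ₁, a1, a2, a3, f1⟩ := hO.cyc i p o hpi.symm hop.symm hoi.symm
  obtain ⟨g₂, hg₂, σ₂, hσ₂, b1, b2, b3, f2⟩ := hO.cyc j r o hrj.symm hor.symm hoj.symm
  have j1 : σ₁ j = j := f1 j hij.symm hpj.symm hoj.symm
  have i2 : σ₂ i = i := f2 i hij hri.symm hoi.symm
  have p2 : σ₂ p = p := f2 p hpj hrp.symm hop.symm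
  set za := g₂.1 (g₁.1 a) with hzadef
  set zb := g₂.1 (g₁.1 b) with hzbdef
  have hza : za ∈ D p := by
    have := hσ₂ _ _ (hσ₁ i a ha)
    rwa [a1, p2] at this
  have hzb : zb ∈ D r := by
    have := hσ₂ _ _ (hσ₁ j b hb)
    rwa [j1, b1] at this
  have hzI : ∀ y ∈ D i, In H (za + zb) y := fun y hy => by
    obtain ⟨y', hy', rfl⟩ := back h hσ₂ i2 hy
    obtain ⟨y₀, hy₀, rfl⟩ := back h hσ₁ a3 hy'
    have := ((hrest o hoi hoj y₀ hy₀).conj hg₁).conj hg₂
    simpa only [map_add] using this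
  have hzJ : ∀ y ∈ D j, In H (za + zb) y := fun y hy => by
    obtain ⟨y', hy', rfl⟩ := back h hσ₂ b3 hy
    obtain ⟨y₀, hy₀, rfl⟩ := back h hσ₁ a2 hy'
    have := ((hrest p hpi hpj y₀ hy₀).conj hg₁).conj hg₂
    simpa only [map_add] using this
  have hzae : In H (a + b) (za + zb) := (hrest p hpi hpj za hza).add (hrest r hri hrj zb hzb)
  have hza0 : za ≠ 0 := fun e => haq (by rw [← g₁.2 a, ← g₂.2 (g₁.1 a), ← hzadef, e, map_zero])
  obtain ⟨w', hw', hzw⟩ := sep0 h.toPre hza hza0
  have hzw' : polar Q (za + zb) w' = 1 := by rw [polar_add_left, hzw, h.perp r p hrp zb hzb w' hw', add_zero]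
  have hpair : ∀ yi ∈ D i, ∀ yj ∈ D j, polar Q (a + b) (yi + yj) = 0 → In H (a + b) (yi + yj) := by
    intro yi hyi yj hyj hey
    have hy := (hzI yi hyi).add (hzJ yj hyj)
    set y := yi + yj with hydef
    have hwy : polar Q w' y = 0 := by
      rw [hydef, polar_add_right, h.perp p i hpi w' hw' yi hyi, h.perp p j hpj w' hw' yj hyj, add_zero]
    have hge : (sO hy.sing hy.perp).1 (a + b) = a + b := by
      rw [sO_apply, hey, hzae.perp]; simp
    have h1 := (hrest p hpi hpj w' hw').conj (hy.mem hy.sing hy.perp)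
    rw [hge, sO_apply, hwy, polar_comm Q w', hzw'] at h1
    have h2 := ((hrest p hpi hpj w' hw').sub h1).sub (hzae.smul (Q y))
    have e : w' - (w' + (0 : F) • (za + zb) + (-1 : F) • y + (-(Q y * 1)) • (za + zb)) - Q y • (za + zb) = y := by
      module
    rwa [e] at h2
  have hfull : Full H (a + b) := by
    refine full_of_tS he fun x hx => ?_
    suffices In H (a + b) x from this.2
    rw [← sum_pr h.toPre x, ← Finset.sum_erase_add _ _ (Finset.mem_univ i),
      ← Finset.sum_erase_add _ _ (Finset.mem_erase.2 ⟨hij.symm, Finset.mem_univ j⟩), add_assoc, add_comm _ (pr h.toPre i x)]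
    refine In.add ?_ (hpair _ (pr_mem h.toPre i x) _ (pr_mem h.toPre j x) ?_)
    · refine ⟨he, Submodule.sum_mem _ fun k hk => ?_⟩
      rw [Finset.mem_erase, Finset.mem_erase] at hk
      exact (hrest k hk.2.1 hk.1 _ (pr_mem h.toPre k x)).2
    · rw [polar_add_left, polar_add_right, polar_add_right, h.perp i j hij a ha _ (pr_mem h.toPre j x),
        h.perp j i hij.symm b hb _ (pr_mem h.toPre i x), polar_comm Q a, pr_polar h.toPre i x ha, polar_comm Q b,
        pr_polar h.toPre j x hb, add_zero, zero_add, polar_comm Q x a, polar_comm Q x b, ← polar_add_left, hx]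
  obtain ⟨b', hb', hb'q, hne⟩ : ∃ b' ∈ D j, Q b' = Q b ∧ 2 * Q a + polar Q b b' ≠ 0 := by
    by_cases h2 : (2 : F) = 0
    · obtain ⟨z, hz, hzq, hbz⟩ := exists_nonperp h (i := j) hbq0 hb (fun e => hbq0 (by rw [e, map_zero]))
      exact ⟨z, hz, hzq, by rwa [h2, zero_mul, zero_add]⟩
    · refine ⟨-b, (D j).neg_mem hb, QuadraticMap.map_neg Q b, ?_⟩
      rw [polar_neg_right, polar_self', hbq, show 2 * Q a + -(2 * -Q a) = 2 * 2 * Q a by ring]
      exact mul_ne_zero (mul_ne_zero h2 h2) haq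
  obtain ⟨k, hk, hkb, -, hkf⟩ := move h hO (o := p) hpj hb hb' hbq0 hb'q
  refine eo_le h.nd (by have := h.dimV; omega) hfull (hfull.conj hk) ?_
  rw [map_add, hkb, hkf i hij hpi.symm a ha, polar_add_left, polar_add_right, polar_add_right, polar_self',
    h.perp i j hij a ha b' hb', h.perp j i hij.symm b hb a ha, add_zero, zero_add]
  exact hne

end Cfsg.Agent.ClassicalMax.DecAny
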