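import Cfsg.Agent.ClassicalMax.DecAny.PlaneBase

/-!
In two planes of the decomposition there are vectors of opposite non-zero values with prescribed products against a
given vector.
-/

set_option autoImplicit false
set_option linter.unusedSectionVars false
set_option linter.style.haveILetI false

namespace Cfsg.Agent.ClassicalMax.DecAny

open Module QuadraticMap Cfsg.Agent.Classical Cfsg.Agent.Classical.Quad

variable {F V : Type*} [Field F] [Finite F] [AddCommGroup V] [Module F V] [FiniteDimensional F V]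
  {Q : QuadraticForm F V} {t : ℕ} {D : Fin t → Submodule F V}

/-- the values of `r + lr²` form a subgroup of index two -/
def asHom (h2 : (2 : F) = 0) (l : F) : F →+ F where
  toFun r := r + l * (r * r)
  map_zero' := by ring
  map_add' r s := by linear_combination (l * r * s) * h2

theorem asHom_index (h2 : (2 : F) = 0) {l : F} (hl : l ≠ 0) {v w : F} (hv : v ∉ (asHom h2 l).range)
    (hw : w ∉ (asHom h2 l).range) : v + w ∈ (asHom h2 l).range := by
  classical
  have := Fintype.ofFinite F
  by_contra hvw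
  set I : Finset F := Finset.univ.image (asHom h2 l) with hI
  have mem : ∀ {z : F}, z ∈ I ↔ z ∈ (asHom h2 l).range := fun {z} => by
    simp [hI, AddMonoidHom.mem_range]
  have hbig : Fintype.card F ≤ 2 * I.card := by
    rw [← Finset.card_univ]
    refine Finset.card_le_mul_card_image _ 2 fun b _ => ?_
    have e : ∀ r : F, (asHom h2 l r = b) ↔ l * (r * r) + 1 * r + -b = 0 := fun r => by
      show r + l * (r * r) = b ↔ _
      constructor <;> intro hr <;> linear_combination hr
    simp only [e]
    exact card_roots_le_two (Or.inl hl)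
  have hneg : ∀ z : F, -z = z := fun z => by linear_combination -z * h2
  have disj : ∀ {a b : F}, a + b ∉ (asHom h2 l).range → Disjoint (I.image (a + ·)) (I.image (b + ·)) :=
    fun {a b} hab => Finset.disjoint_left.2 fun z hz hz' => by
      obtain ⟨p, hp, rfl⟩ := Finset.mem_image.1 hz
      obtain ⟨q, hq, e⟩ := Finset.mem_image.1 hz'
      refine hab ?_
      rw [show a + b = q - p by linear_combination -e + b * h2]
      exact sub_mem (mem.1 hq) (mem.1 hp)
  have d1 := disj (a := 0) (b := v) (by rwa [zero_add])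
  have d2 := disj (a := 0) (b := w) (by rwa [zero_add])
  have d3 := disj hvw
  have hle := Finset.card_le_univ ((I.image (0 + ·)) ∪ (I.image (v + ·)) ∪ (I.image (w + ·)))
  rw [Finset.card_union_of_disjoint (Finset.disjoint_union_left.2 ⟨d2, d3⟩), Finset.card_union_of_disjoint d1,
    Finset.card_image_of_injective _ (add_right_injective _), Finset.card_image_of_injective _ (add_right_injective _),
    Finset.card_image_of_injective _ (add_right_injective _)] at hle
  have : 0 < I.card := Finset.card_pos.2 ⟨0, mem.2 (zero_mem _)⟩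
  omega

theorem as_solve (h2 : (2 : F) = 0) {l l' c c' : F} (hl : l ≠ 0) (hl' : l' ≠ 0)
    (hc : c ∉ (asHom h2 l).range) (hc' : c' ∉ (asHom h2 l').range) :
    ∃ r r' : F, (c + asHom h2 l r) + (c' + asHom h2 l' r') = 0 := by
  have fin : ∀ {y : F}, c + c' + y ∈ (asHom h2 l).range → y ∈ (asHom h2 l').range →
      ∃ r r' : F, (c + asHom h2 l r) + (c' + asHom h2 l' r') = 0 := fun {y} hy hy' => by
    obtain ⟨r, hr⟩ := hy
    obtain ⟨r', hr'⟩ := hy'
    exact ⟨r, r', by linear_combination hr + hr' + (c + c' + y) * h2⟩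
  by_cases hcc : c + c' ∈ (asHom h2 l).range
  · exact fin (y := 0) (by rwa [add_zero]) (zero_mem _)
  by_cases hex : ∃ y ∈ (asHom h2 l').range, y ∉ (asHom h2 l).range
  · obtain ⟨y, hy, hy'⟩ := hex
    exact fin (asHom_index h2 hl hcc hy') hy
  push Not at hex
  exfalso
  set μ := l / l' with hμ
  rcases eq_or_ne μ 1 with h1 | h1
  · rw [hμ, div_eq_one_iff_eq hl'] at h1
    subst h1
    exact hcc (asHom_index h2 hl hc hc')
  have hμ0 : μ ≠ 0 := div_ne_zero hl hl'
  have stable : ∀ z ∈ (asHom h2 l).range, μ * z ∈ (asHom h2 l).range := by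
    rintro _ ⟨s, rfl⟩
    refine hex _ ⟨μ * s, ?_⟩
    show μ * s + l' * (μ * s * (μ * s)) = μ * (s + l * (s * s))
    rw [hμ]
    field_simp
  have hback : ∀ {ν z : F}, ν ≠ 0 → (∀ y ∈ (asHom h2 l).range, ν * y ∈ (asHom h2 l).range) →
      ν * z ∈ (asHom h2 l).range → z ∈ (asHom h2 l).range := fun {ν z} hν hst hz => by
    let f : (asHom h2 l).range → (asHom h2 l).range := fun y => ⟨ν * y, hst y y.2⟩
    have hf : Function.Injective f := fun a b e => Subtype.ext (mul_left_cancel₀ hν (congrArg Subtype.val e))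
    obtain ⟨y, hy⟩ := (Finite.injective_iff_surjective.1 hf) ⟨ν * z, hz⟩
    rw [← mul_left_cancel₀ hν (congrArg Subtype.val hy)]
    exact y.2
  have hμv : μ * c ∉ (asHom h2 l).range := fun hm => hc (hback hμ0 stable hm)
  have hadd := asHom_index h2 hl hc hμv
  refine hc (hback (ν := 1 + μ) (fun e => h1 (by linear_combination e - h2)) ?_ (by rwa [add_mul, one_mul]))
  intro y hy
  rw [add_mul, one_mul]
  exact add_mem hy (stable y hy)

theorem sing_nonperp (h : Plane Q D) {i : Fin t} {x f : V} (hf : f ∈ D i) (hf0 : f ≠ 0) (hfq : Q f = 0)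
    (hx : pr h.toPre i x ≠ 0) : ∃ g ∈ D i, Q g = 0 ∧ polar Q x g = 1 := by
  obtain ⟨g, hg, hgq, hfg⟩ := partner h.toPre hf hf0 hfq
  have scale : ∀ {z : V}, z ∈ D i → Q z = 0 → polar Q x z ≠ 0 → ∃ g ∈ D i, Q g = 0 ∧ polar Q x g = 1 :=
    fun {z} hz hzq hxz => ⟨(polar Q x z)⁻¹ • z, (D i).smul_mem _ hz, by rw [map_smul', hzq, mul_zero],
      by rw [polar_smul_right, smul_eq_mul, inv_mul_cancel₀ hxz]⟩
  by_cases h1 : polar Q x f = 0
  swap
  · exact scale hf hfq h1
  by_cases h2 : polar Q x g = 0
  swap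
  · exact scale hg hgq h2
  refine absurd (h.ndD i _ (pr_mem h.toPre i x) fun w hw => ?_) hx
  have hgf : g ∉ Submodule.span F ({f} : Set V) := fun hm => by
    obtain ⟨r, rfl⟩ := Submodule.mem_span_singleton.1 hm
    rw [polar_smul_right, polar_self', hfq] at hfg
    simp at hfg
  obtain ⟨α, β, rfl⟩ := span_two h hf hg hf0 hgf hw
  rw [polar_add_right, polar_smul_right, polar_smul_right, pr_polar h.toPre i x hf, pr_polar h.toPre i x hg, h1, h2,
    smul_zero, smul_zero, add_zero]

/-- vectors of opposite values in two members -/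
theorem exists_pair (h : Plane Q D) {i j : Fin t} {x : V} (hi : pr h.toPre i x ≠ 0) (hj : pr h.toPre j x ≠ 0) :
    ∃ a ∈ D i, ∃ b ∈ D j, polar Q x a = 1 ∧ polar Q x b = -1 ∧ Q b = -Q a ∧ Q a ≠ 0 := by
  classical
  have := Fintype.ofFinite F
  set y := pr h.toPre i x
  set y' := pr h.toPre j x
  have hy := pr_mem h.toPre i x
  have hy' := pr_mem h.toPre j x
  have hxy : polar Q x y = 2 * Q y := by rw [← pr_polar h.toPre i x hy, polar_self']
  have hxy' : polar Q x y' = 2 * Q y' := by rw [← pr_polar h.toPre j x hy', polar_self']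
  rcases h.kind with ⟨hq, hsing⟩ | ⟨hq, han⟩
  · obtain ⟨f₀, hf₀, hf₀0, hf₀q⟩ := hsing i
    obtain ⟨g₀, hg₀, hg₀0, hg₀q⟩ := hsing j
    obtain ⟨f, hf, hfq, hxf⟩ := sing_nonperp h hf₀ hf₀0 hf₀q hi
    obtain ⟨g, hg, hgq, hxg⟩ := sing_nonperp h hg₀ hg₀0 hg₀q hj
    -- the value of `r y + (1 - 2 Q y r) f` is `r - Q y r²`
    have val : ∀ {k : Fin t} {z : V}, z ∈ D k → ∀ {y : V}, y ∈ D k → polar Q y z = 1 → Q z = 0 → ∀ r : F,
        Q (r • y + (1 - 2 * Q y * r) • z) = r - Q y * (r * r) := fun {k z} hz {y} hy hyz hzq r => by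
      rw [map_add_smul, map_smul', hzq, polar_smul_left, hyz, smul_eq_mul]; ring
    have hyf : polar Q y f = 1 := by rw [pr_polar h.toPre i x hf, hxf]
    have hyg : polar Q y' g = 1 := by rw [pr_polar h.toPre j x hg, hxg]
    obtain ⟨r, r', hsum, hne⟩ : ∃ r r' : F, r - Q y * (r * r) + (r' - Q y' * (r' * r')) = 0 ∧
        r' - Q y' * (r' * r') ≠ 0 := by
      by_cases h00 : Q y = 0 ∧ Q y' = 0
      · exact ⟨1, -1, by rw [h00.1, h00.2]; ring, by rw [h00.2]; simp⟩
      let B₁ : Finset F := Finset.univ.filter fun s => Q y * (s * s) + 0 * s + Q y' = 0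
      let B₂ : Finset F := Finset.univ.filter fun s => 0 * (s * s) + Q y * s + -Q y' = 0
      have hB₁ : B₁.card ≤ 2 := card_roots_le_two (by tauto)
      have hB₂ : B₂.card ≤ 2 := card_roots_le_two (by rw [neg_ne_zero]; tauto)
      have hlt : (B₁ ∪ B₂ ∪ {0, -1}).card < Fintype.card F := by
        have h1 := Finset.card_union_le (B₁ ∪ B₂) {0, -1}
        have h2 := Finset.card_union_le B₁ B₂
        have h3 := Finset.card_le_two (a := (0 : F)) (b := -1)
        rw [Nat.card_eq_fintype_card] at hq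
        omega
      obtain ⟨s, hs⟩ : ∃ s, s ∉ B₁ ∪ B₂ ∪ {0, -1} := by
        by_contra hn
        push Not at hn
        rw [Finset.eq_univ_iff_forall.2 hn, Finset.card_univ] at hlt
        exact lt_irrefl _ hlt
      simp only [B₁, B₂, Finset.mem_union, Finset.mem_filter, Finset.mem_univ, true_and, Finset.mem_insert,
        Finset.mem_singleton, not_or] at hs
      obtain ⟨⟨hs1, hs2⟩, hs0, hsn⟩ := hs
      have hden : s * s * Q y + Q y' ≠ 0 := fun e => hs1 (by linear_combination e)
      have hnum : 1 + s ≠ 0 := fun e => hsn (by linear_combination e)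
      obtain ⟨r', hr'⟩ : ∃ r' : F, r' * (s * s * Q y + Q y') = 1 + s := ⟨_, div_mul_cancel₀ _ hden⟩
      refine ⟨s * r', r', by linear_combination (-r') * hr', fun e => ?_⟩
      have hr0 : r' ≠ 0 := fun e' => hnum (by rw [← hr', e', zero_mul])
      have e2 : 1 - Q y' * r' = 0 :=
        (mul_eq_zero.1 (show r' * (1 - Q y' * r') = 0 by linear_combination e)).resolve_left hr0
      refine hs2 ?_
      have e3 : r' * (Q y * s) = 1 := mul_right_cancel₀ hs0 (by linear_combination hr' + e2)
      have : r' * (Q y * s - Q y') = 0 := by linear_combination e3 + e2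
      linear_combination (mul_eq_zero.1 this).resolve_left hr0
    refine ⟨r • y + (1 - 2 * Q y * r) • f, (D i).add_mem ((D i).smul_mem _ hy) ((D i).smul_mem _ hf),
      -(r' • y' + (1 - 2 * Q y' * r') • g), (D j).neg_mem ((D j).add_mem ((D j).smul_mem _ hy') ((D j).smul_mem _ hg)),
      ?_, ?_, ?_, ?_⟩
    · rw [polar_add_right, polar_smul_right, polar_smul_right, hxy, hxf, smul_eq_mul, smul_eq_mul]; ring
    · rw [polar_neg_right, polar_add_right, polar_smul_right, polar_smul_right, hxy', hxg, smul_eq_mul, smul_eq_mul]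
      ring
    · rw [QuadraticMap.map_neg, val hf hy hyf hfq, val hg hy' hyg hgq]; linear_combination hsum
    · rw [val hf hy hyf hfq]
      intro e
      rw [e, zero_add] at hsum
      exact hne hsum
  · obtain ⟨a₀, ha₀, hya⟩ := sep0 h.toPre hy hi
    obtain ⟨b₀, hb₀, hyb⟩ := sep0 h.toPre hy' hj
    rw [pr_polar h.toPre i x ha₀] at hya
    rw [pr_polar h.toPre j x hb₀] at hyb
    have done : ∀ a ∈ D i, ∀ b ∈ D j, polar Q x a = 1 → polar Q x b = -1 → Q a + Q b = 0 →
        ∃ a ∈ D i, ∃ b ∈ D j, polar Q x a = 1 ∧ polar Q x b = -1 ∧ Q b = -Q a ∧ Q a ≠ 0 :=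
      fun a ha b hb hxa hxb hab => ⟨a, ha, b, hb, hxa, hxb, eq_neg_of_add_eq_zero_right hab, fun e => by
        rw [han i a ha e] at hxa
        simp [polar] at hxa⟩
    by_cases h2 : (2 : F) = 0
    · have hqy : Q y ≠ 0 := fun e => hi (han i y hy e)
      have hqy' : Q y' ≠ 0 := fun e => hj (han j y' hy' e)
      have nr : ∀ {k : Fin t} {z : V}, z ∈ D k → ∀ {y : V}, y ∈ D k → polar Q y y = 0 → polar Q y z = 1 →
          Q z ∉ (asHom h2 (Q y)).range := fun {k z} hz {y} hy hyy hyz hm => by
        obtain ⟨r, hr⟩ := hm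
        change r + Q y * (r * r) = Q z at hr
        have h0 := han k (z + r • y) ((D k).add_mem hz ((D k).smul_mem _ hy)) (by
          rw [map_add_smul, polar_comm Q z y, hyz]; linear_combination hr + Q z * h2)
        have h1 := congrArg (polar Q y) h0
        rw [polar_add_right, polar_smul_right, hyy, hyz] at h1
        simp [polar] at h1
      have hyy : polar Q y y = 0 := by rw [polar_self', h2, zero_mul]
      have hyy' : polar Q y' y' = 0 := by rw [polar_self', h2, zero_mul]
      have pa : polar Q y a₀ = 1 := by rw [pr_polar h.toPre i x ha₀, hya]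
      have pb : polar Q y' b₀ = 1 := by rw [pr_polar h.toPre j x hb₀, hyb]
      obtain ⟨r, r', hrr⟩ := as_solve h2 hqy hqy' (nr ha₀ hy hyy pa) (nr hb₀ hy' hyy' pb)
      change Q a₀ + (r + Q y * (r * r)) + (Q b₀ + (r' + Q y' * (r' * r'))) = 0 at hrr
      refine done (a₀ + r • y) ((D i).add_mem ha₀ ((D i).smul_mem _ hy)) (b₀ + r' • y')
        ((D j).add_mem hb₀ ((D j).smul_mem _ hy')) ?_ ?_ ?_
      · rw [polar_add_right, polar_smul_right, hxy, hya, h2]; simp
      · rw [polar_add_right, polar_smul_right, hxy', hyb, h2, show (-1 : F) = 1 by linear_combination -h2]; simp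
      · rw [map_add_smul, map_add_smul, polar_comm Q a₀ y, pa, polar_comm Q b₀ y', pb]; linear_combination hrr
    · obtain ⟨n, hn, hn0, hyn⟩ := exists_perp_vec h i y
      obtain ⟨m, hm, hm0, hym⟩ := exists_perp_vec h j y'
      rw [pr_polar h.toPre i x hn] at hyn
      rw [pr_polar h.toPre j x hm] at hym
      have hqn : Q n ≠ 0 := fun e => hn0 (han i n hn e)
      have hqm : Q m ≠ 0 := fun e => hm0 (han j m hm e)
      have hodd : ringChar F ≠ 2 := fun hc => h2 (by
        have : CharP F 2 := hc ▸ ringChar.charP F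
        exact CharTwo.two_eq_zero)
      obtain ⟨r, r', hrr⟩ := FiniteField.exists_root_sum_quadratic
        (f := Polynomial.C (Q n) * Polynomial.X ^ 2 + Polynomial.C (polar Q a₀ n) * Polynomial.X + Polynomial.C (Q a₀))
        (g := Polynomial.C (Q m) * Polynomial.X ^ 2 + Polynomial.C (-polar Q b₀ m) * Polynomial.X +
          Polynomial.C (Q b₀))
        (Polynomial.degree_quadratic hqn) (Polynomial.degree_quadratic hqm)
        (FiniteField.odd_card_of_char_ne_two hodd)
      simp only [Polynomial.eval_add, Polynomial.eval_mul, Polynomial.eval_C, Polynomial.eval_pow,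
        Polynomial.eval_X] at hrr
      refine done (a₀ + r • n) ((D i).add_mem ha₀ ((D i).smul_mem _ hn)) (-b₀ + r' • m)
        ((D j).add_mem ((D j).neg_mem hb₀) ((D j).smul_mem _ hm)) ?_ ?_ ?_
      · rw [polar_add_right, polar_smul_right, hya, hyn, smul_zero, add_zero]
      · rw [polar_add_right, polar_neg_right, polar_smul_right, hyb, hym, smul_zero, add_zero]
      · rw [map_add_smul, map_add_smul, QuadraticMap.map_neg, polar_neg_left]; linear_combination hrr

end Cfsg.Agent.ClassicalMax.DecAny
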