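import Cfsg.Agent.ClassicalMax.DecAny.PlaneGen
import Cfsg.Agent.ClassicalMax.DecAny.PlanePair

/-!
Decompositions into planes: a vector outside the members related to a vector of a member gives all root elements.
-/

set_option autoImplicit false
set_option linter.unusedSectionVars false
set_option linter.style.haveILetI false

namespace Cfsg.Agent.ClassicalMax.DecAny

open Module QuadraticMap Cfsg.Agent.Classical Cfsg.Agent.Classical.Quad Cfsg.Agent.ClassicalMax.RootPlanes
open Cfsg.Agent.ClassicalMax.DecOrth (In Maps)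

variable {F V : Type*} [Field F] [Finite F] [AddCommGroup V] [Module F V] [FiniteDimensional F V]
  {Q : QuadraticForm F V} {t : ℕ} {D : Fin t → Submodule F V} {H : Subgroup (oG Q)}

theorem rel_image (h : Plane Q D) (hO : PlaneOver D H) {i : Fin t} {u x : V} (hu : u ∈ D i) (hux : Rel H u x)
    {g : oG Q} (hg : g ∈ H) {σ : Equiv.Perm (Fin t)} (hσ : Maps D g.1 σ) : Rel H u (g.1 x) :=
  (rel_members h hO hu (hσ i u hu) hux.ne (g.2 u)).trans (hux.conj hg)

/-- support in at least three members, not in all -/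
theorem spread_three (h : Plane Q D) (hO : PlaneOver D H) {k i j m l : Fin t} {u x : V} (hu : u ∈ D k)
    (hux : Rel H u x) (hij : i ≠ j) (hmi : m ≠ i) (hmj : m ≠ j) (hi : pr h.toPre i x ≠ 0) (hj : pr h.toPre j x ≠ 0)
    (hm : pr h.toPre m x ≠ 0) (hl : pr h.toPre l x = 0) : eo Q ≤ H := by
  have hli : l ≠ i := fun e => hi (e ▸ hl)
  have hlj : l ≠ j := fun e => hj (e ▸ hl)
  have hlm : l ≠ m := fun e => hm (e ▸ hl)
  obtain ⟨a, ha, b, hb, hxa, hxb, hab, haq⟩ := exists_pair h hi hj
  have hbq : Q b ≠ 0 := by rw [hab]; exact neg_ne_zero.2 haq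
  obtain ⟨w, hw, hwq⟩ := exists_value h l haq
  obtain ⟨w', hw', hwq'⟩ := exists_value h l hbq
  have hwq0 : Q w ≠ 0 := by rw [hwq]; exact haq
  have hwq0' : Q w' ≠ 0 := by rw [hwq']; exact hbq
  set g := rO haq * rO hwq0 * (rO hbq * rO hwq0')
  have hg : g ∈ H := mul_mem (rr_mem h hO ha hw haq hwq0 (s := 1) (by rw [hwq]; ring))
    (rr_mem h hO hb hw' hbq hwq0' (s := 1) (by rw [hwq']; ring))
  have hmaps : Maps D g.1 1 := fun o z hz => by
    simp only [g, oG_mul_apply]
    exact rO_maps h ha haq o _ (rO_maps h hw hwq0 o _ (rO_maps h hb hbq o _ (rO_maps h hw' hwq0' o _ hz)))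
  have hperp := perp_of_pr h.toPre hl
  have hgx : g.1 x = x + (-1 / Q a) • (a + b) := by
    simp only [g, oG_mul_apply]
    rw [rO_fix hwq0' (hperp w' hw'), rO_apply hbq, hxb,
      rO_fix hwq0 (by rw [polar_sub_left, polar_smul_left, hperp w hw, h.perp j l hlj.symm b hb w hw]; simp),
      rO_apply, polar_sub_left, polar_smul_left, hxa, h.perp j i hij.symm b hb a ha, hab, smul_zero, sub_zero]
    match_scalars <;> field_simp
  have he : Q (a + b) = 0 := by rw [map_add', hab, h.perp i j hij a ha b hb]; ring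
  have hex : polar Q (a + b) x = 0 := by
    rw [polar_add_left, polar_comm Q a, hxa, polar_comm Q b, hxb, add_neg_cancel]
  have hrel : Rel H x (g.1 x) := hux.symm.trans (rel_image h hO hu hux hg hmaps)
  have hroot := hrel.root he hex hgx
  refine root_finish h hO hij hli hlj hmi hmj hlm.symm ha hb haq hab he ⟨_, hroot⟩ ?_ ?_
  · rw [map_smul, hl, smul_zero]
  · rw [map_smul]
    exact smul_ne_zero (div_ne_zero (by rw [neg_div, neg_neg]; exact one_div_ne_zero haq) hrel.ne) hm

/-- support in exactly two members -/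
theorem spread_two (h : Plane Q D) (hO : PlaneOver D H) {l i j : Fin t} {u x : V} (hu : u ∈ D l)
    (hux : Rel H u x) (hij : i ≠ j) (hqi : Q (pr h.toPre i x) ≠ 0) (hj : pr h.toPre j x ≠ 0)
    (hsup : ∀ o, o ≠ i → o ≠ j → pr h.toPre o x = 0) : eo Q ≤ H := by
  have hxe : x = pr h.toPre i x + pr h.toPre j x := ext_pr h.toPre fun o => by
    rw [map_add]
    by_cases hoi : o = i
    · subst hoi; rw [pr_same h.toPre (pr_mem h.toPre o x), pr_other h.toPre hij.symm (pr_mem h.toPre j x), add_zero]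
    by_cases hoj : o = j
    · subst hoj; rw [pr_same h.toPre (pr_mem h.toPre o x), pr_other h.toPre hij (pr_mem h.toPre i x), zero_add]
    rw [hsup o hoi hoj, pr_other h.toPre (Ne.symm hoi) (pr_mem h.toPre i x),
      pr_other h.toPre (Ne.symm hoj) (pr_mem h.toPre j x), add_zero]
  set a := pr h.toPre i x
  set b := pr h.toPre j x
  have ha : a ∈ D i := pr_mem h.toPre i x
  have hb : b ∈ D j := pr_mem h.toPre j x
  obtain ⟨k, hki, hkj, -, -⟩ := exists_out_four h i j i j
  obtain ⟨o, hoi, hoj, hok, -⟩ := exists_out_four h i j k k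
  obtain ⟨g, hg, σ, hσ, e1, e2, -, -⟩ := hO.cyc i j k hij hkj.symm hki.symm
  have hga : g.1 a ∈ D j := e1 ▸ hσ i a ha
  have hgb : g.1 b ∈ D k := e2 ▸ hσ j b hb
  obtain ⟨n, hn, hn0, hbn⟩ := exists_perp_vec h j b
  obtain ⟨z, hz, hzq, hzb, hzn⟩ := avoid h j hqi b n
  obtain ⟨mv, hmv, hmva, hmvm, hmvf⟩ := move h hO (o := o) hoj hga hz (by rw [g.2]; exact hqi) (by rw [g.2, hzq])
  set b' := g.1 b
  have hx2 : (mv * g).1 x = z + b' := by
    rw [hxe, map_add, oG_mul_apply, oG_mul_apply, hmva, hmvf k hkj hok.symm b' hgb]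
  have hrel2 : Rel H u (z + b') := hx2 ▸ rel_image h hO hu hux (mul_mem hmv hg) (σ := σ) fun p y hy => by
    rw [oG_mul_apply]; exact hmvm _ _ (hσ p y hy)
  have hq2 : Q (z + b') ≠ 0 := by rw [hrel2.value]; exact hrel2.ne
  have h3 := hux.reflect hrel2 hq2
  have hκ : polar Q x (z + b') / Q (z + b') ≠ 0 := by
    refine div_ne_zero ?_ hq2
    rw [hxe, polar_add_left, polar_add_right, polar_add_right, h.perp i j hij a ha z hz,
      h.perp i k hki.symm a ha b' hgb, h.perp j k hkj.symm b hb b' hgb, zero_add, zero_add, add_zero]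
    exact fun e => hzn (perp_line h hb hj hn hn0 hbn hz e)
  rw [rO_apply] at h3
  set κ := polar Q x (z + b') / Q (z + b')
  refine spread_three h hO hu h3 (i := i) (j := j) (m := k) (l := o) hij hki hkj ?_ ?_ ?_ ?_
  · rw [map_sub, map_smul, map_add, pr_other h.toPre hij.symm hz, pr_other h.toPre hki hgb, add_zero, smul_zero,
      sub_zero]
    exact fun e => hqi (by show Q (pr h.toPre i x) = 0; rw [e, map_zero])
  · rw [map_sub, map_smul, map_add, pr_same h.toPre hz, pr_other h.toPre hkj hgb, add_zero]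
    intro e
    refine hzb (Submodule.mem_span_singleton.2 ⟨κ⁻¹, ?_⟩)
    rw [show b = κ • z from sub_eq_zero.1 e, inv_smul_smul₀ hκ]
  · rw [map_sub, map_smul, map_add, pr_other h.toPre hkj.symm hz, pr_same h.toPre hgb, zero_add, hsup k hki hkj,
      zero_sub, neg_ne_zero]
    exact smul_ne_zero hκ fun e => hj (g.1.map_eq_zero_iff.1 e)
  · rw [map_sub, map_smul, map_add, pr_other h.toPre hoj.symm hz, pr_other h.toPre hok.symm hgb, hsup o hoi hoj,
      add_zero, smul_zero, sub_zero]

/-- four reflections in members with values `ρ, -ρ, σ, -σ` -/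
theorem four_refl (h : Plane Q D) (hO : PlaneOver D H) {i j p r : Fin t} (hij : i ≠ j) (hip : i ≠ p) (hir : i ≠ r)
    (hjp : j ≠ p) (hjr : j ≠ r) (hpr : p ≠ r) {a b a' b' : V} (ha : a ∈ D i) (hb : b ∈ D j) (ha' : a' ∈ D p)
    (hb' : b' ∈ D r) (haq : Q a ≠ 0) (hab : Q b = -Q a) (haq' : Q a' ≠ 0) (hab' : Q b' = -Q a') :
    ∃ g ∈ H, Maps D g.1 1 ∧ ∀ x, g.1 x = x - (polar Q x a / Q a) • a - (polar Q x b / Q b) • b -
      (polar Q x a' / Q a') • a' - (polar Q x b' / Q b') • b' := by
  have hbq : Q b ≠ 0 := by rw [hab]; exact neg_ne_zero.2 haq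
  have hbq' : Q b' ≠ 0 := by rw [hab']; exact neg_ne_zero.2 haq'
  have pab : polar Q a b = 0 := h.perp i j hij a ha b hb
  have paa : polar Q a a' = 0 := h.perp i p hip a ha a' ha'
  have pab' : polar Q a b' = 0 := h.perp i r hir a ha b' hb'
  have pba : polar Q b a' = 0 := h.perp j p hjp b hb a' ha'
  have pbb : polar Q b b' = 0 := h.perp j r hjr b hb b' hb'
  have pa'b' : polar Q a' b' = 0 := h.perp p r hpr a' ha' b' hb'
  have hmaps : ∀ {a b c d : V} {i j p r : Fin t} (ha : Q a ≠ 0) (hb : Q b ≠ 0) (hc : Q c ≠ 0) (hd : Q d ≠ 0),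
      a ∈ D i → b ∈ D j → c ∈ D p → d ∈ D r → Maps D (rO ha * rO hb * (rO hc * rO hd)).1 1 :=
    fun ha hb hc hd ma mb mc md o z hz => by
      simp only [oG_mul_apply]
      exact rO_maps h ma ha o _ (rO_maps h mb hb o _ (rO_maps h mc hc o _ (rO_maps h md hd o _ hz)))
  by_cases h1 : IsSquare (-1 : F)
  · obtain ⟨s, hs⟩ := h1
    refine ⟨_, mul_mem (rr_mem h hO ha hb haq hbq (s := s) (by rw [hab, ← hs]; ring))
      (rr_mem h hO ha' hb' haq' hbq' (s := s) (by rw [hab', ← hs]; ring)), hmaps haq hbq haq' hbq' ha hb ha' hb',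
      fun x => ?_⟩
    simp only [oG_mul_apply, rO_apply, polar_sub_left, polar_smul_left, polar_comm Q b a, pab, polar_comm Q a' a,
      paa, polar_comm Q b' a, pab', polar_comm Q a' b, pba, polar_comm Q b' b, pbb, polar_comm Q b' a', pa'b',
      smul_zero, sub_zero]
    module
  rcases square_or_div_square h1 (show Q a' / Q a ≠ 0 from div_ne_zero haq' haq) with ⟨s, hs⟩ | ⟨s, hs⟩
  · have hs' : Q a = s * s * Q a' := by field_simp at hs; linear_combination -hs
    refine ⟨_, mul_mem (rr_mem h hO ha' ha haq' haq (s := s) hs')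
      (rr_mem h hO hb' hb hbq' hbq (s := s) (by rw [hab, hab', hs']; ring)), hmaps haq' haq hbq' hbq ha' ha hb' hb,
      fun x => ?_⟩
    simp only [oG_mul_apply, rO_apply, polar_sub_left, polar_smul_left, polar_comm Q b a, pab, polar_comm Q a' a,
      paa, polar_comm Q b' a, pab', polar_comm Q a' b, pba, polar_comm Q b' b, pbb, polar_comm Q b' a', pa'b',
      smul_zero, sub_zero]
    module
  · have hs' : Q a = -(s * s * Q a') := by field_simp at hs; linear_combination hs
    refine ⟨_, mul_mem (rr_mem h hO hb' ha hbq' haq (s := s) (by rw [hab', hs']; ring))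
      (rr_mem h hO ha' hb haq' hbq (s := s) (by rw [hab, hs']; ring)), hmaps hbq' haq haq' hbq hb' ha ha' hb,
      fun x => ?_⟩
    simp only [oG_mul_apply, rO_apply, polar_sub_left, polar_smul_left, polar_comm Q b a, pab, polar_comm Q a' a,
      paa, polar_comm Q b' a, pab', polar_comm Q a' b, pba, polar_comm Q b' b, pbb, polar_comm Q b' a', pa'b',
      smul_zero, sub_zero]
    module

end Cfsg.Agent.ClassicalMax.DecAny
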