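import Cfsg.Agent.ClassicalMax.DecAny.Base
import Cfsg.Agent.ClassicalMax.DecOrth.Gen

/-!
Members of dimension at least four, in any characteristic: an overgroup of the stabiliser with a root group joining
two members contains the whole group of root elements.
-/

set_option autoImplicit false
set_option linter.unusedSectionVars false
set_option linter.style.haveILetI false

namespace Cfsg.Agent.ClassicalMax.DecAny

open Module QuadraticMap Cfsg.Agent.Classical Cfsg.Agent.Classical.Quad Cfsg.Agent.ClassicalMax.RootPlanes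
open Cfsg.Agent.ClassicalMax.DecOrth (In Maps Over hyp_span Linked)

variable {F V : Type*} [Field F] [Finite F] [AddCommGroup V] [Module F V] [FiniteDimensional F V]
  {Q : QuadraticForm F V} {t : ℕ} {D : Fin t → Submodule F V} {H : Subgroup (oG Q)}

/-- a member has no totally singular plane -/
def NoPlane (Q : QuadraticForm F V) (A : Submodule F V) : Prop :=
  ∀ a ∈ A, ∀ b ∈ A, a ≠ 0 → Q a = 0 → Q b = 0 → polar Q a b = 0 → b ∈ Submodule.span F ({a} : Set V)

/-- the decompositions treated here -/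
structure Wide (Q : QuadraticForm F V) (D : Fin t → Submodule F V) : Prop extends Pre Q D where
  dim : ∀ i, 4 ≤ finrank F (D i)
  small : Nat.card F ≠ 2 ∨ (∀ i, 5 ≤ finrank F (D i)) ∨ (∀ i, NoPlane Q (D i)) ∨ (t = 2 ∧ ∃ i, NoPlane Q (D i))

/-- the parameters that the argument accepts -/
def Adm (Q : QuadraticForm F V) (D : Fin t → Submodule F V) (d : V) : Prop :=
  Q d ≠ 0 ∨ Nat.card F ≠ 2 ∨ ∀ i, 5 ≤ finrank F (D i)

theorem exists_perp_three (h : Wide Q D) (i : Fin t) (a b c : V) :
    ∃ z ∈ D i, z ≠ 0 ∧ polar Q a z = 0 ∧ polar Q b z = 0 ∧ polar Q c z = 0 := by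
  let L : D i →ₗ[F] (Fin 3 → F) :=
    LinearMap.pi ![(polarBilin Q a).comp (D i).subtype, (polarBilin Q b).comp (D i).subtype,
      (polarBilin Q c).comp (D i).subtype]
  have h1 := L.finrank_range_add_finrank_ker
  have h2 := (Submodule.finrank_le (LinearMap.range L)).trans_eq (finrank_fintype_fun_eq_card F)
  rw [Fintype.card_fin] at h2
  have h3 := h.dim i
  have : LinearMap.ker L ≠ ⊥ := fun e => by
    have e0 : finrank F (LinearMap.ker L) = 0 := by rw [e]; exact finrank_bot F _
    omega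
  obtain ⟨z, hz, hz0⟩ := Submodule.exists_mem_ne_zero_of_ne_bot this
  refine ⟨z, z.2, fun e => hz0 (Subtype.ext e), ?_⟩
  have hz' := LinearMap.mem_ker.1 hz
  exact ⟨congrFun hz' 0, congrFun hz' 1, congrFun hz' 2⟩

theorem exists_sing (h : Wide Q D) (i : Fin t) : ∃ f ∈ D i, f ≠ 0 ∧ Q f = 0 := by
  obtain ⟨v, hv, hq⟩ := exists_singular (Q.comp (D i).subtype) (le_trans (by norm_num) (h.dim i))
  exact ⟨v, v.2, fun e => hv (Subtype.ext e), hq⟩

theorem exists_sing_perp (h : Wide Q D) (i : Fin t) (u : V) : ∃ f ∈ D i, f ≠ 0 ∧ Q f = 0 ∧ polar Q u f = 0 := by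
  let L : D i →ₗ[F] F := (polarBilin Q u).comp (D i).subtype
  have h1 := L.finrank_range_add_finrank_ker
  have h2 := (Submodule.finrank_le (LinearMap.range L)).trans_eq (Module.finrank_self F)
  have h3 := h.dim i
  obtain ⟨p, hp0, hp⟩ := exists_singular ((Q.comp (D i).subtype).comp (LinearMap.ker L).subtype)
    (by omega : 3 ≤ finrank F (LinearMap.ker L))
  exact ⟨(p : D i), (p : D i).2, fun e => hp0 (Subtype.ext (Subtype.ext e)), hp, p.2⟩

/-- two vectors with non-zero product perpendicular to a hyperbolic pair -/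
theorem pairing (h : Wide Q D) {i : Fin t} {f g : V} (hf : f ∈ D i) (hg : g ∈ D i) (hfq : Q f = 0) (hgq : Q g = 0)
    (hfg : polar Q f g = 1) : ∃ x ∈ D i, ∃ x' ∈ D i, polar Q f x = 0 ∧ polar Q g x = 0 ∧ polar Q f x' = 0 ∧
      polar Q g x' = 0 ∧ polar Q x x' = 1 := by
  obtain ⟨z, hz, hz0, hfz, hgz, -⟩ := exists_perp_three h i f g g
  obtain ⟨w, hw, hfw, hgw, hzw⟩ := sep2' h.toPre hf hg hz fun hm => hz0 (hyp_span hfq hgq hfg z hm hfz hgz)
  exact ⟨z, hz, w, hw, hfz, hgz, hfw, hgw, hzw⟩

theorem aniso_sing (h : Wide Q D) {i : Fin t} {e : V} (he : e ∈ D i) (he0 : e ≠ 0) (heq : Q e = 0) :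
    ∃ x ∈ D i, polar Q e x = 0 ∧ Q x ≠ 0 := by
  obtain ⟨f, hf, hfq, hef⟩ := partner h.toPre he he0 heq
  obtain ⟨x, hx, x', hx', h1, -, h2, -, hxx⟩ := pairing h he hf heq hfq hef
  by_cases hq : Q x = 0
  swap
  · exact ⟨x, hx, h1, hq⟩
  by_cases hq' : Q x' = 0
  swap
  · exact ⟨x', hx', h2, hq'⟩
  exact ⟨x + x', (D i).add_mem hx hx', polar_perp_add h1 h2, by rw [map_add', hq, hq', hxx]; simp⟩

/-- singular vectors of a member pair non-trivially with each of its non-zero vectors -/
theorem sing_pairing (h : Wide Q D) {i : Fin t} {y : V} (hy : y ∈ D i) (hy0 : y ≠ 0) :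
    ∃ f ∈ D i, Q f = 0 ∧ polar Q y f ≠ 0 := by
  obtain ⟨e, he, he0, heq⟩ := exists_sing h i
  obtain ⟨f, hf, hfq, hef⟩ := partner h.toPre he he0 heq
  by_cases h1 : polar Q y e = 0
  swap
  · exact ⟨e, he, heq, h1⟩
  by_cases h1' : polar Q y f = 0
  swap
  · exact ⟨f, hf, hfq, h1'⟩
  obtain ⟨w, hw, hew, hfw, hyw⟩ := sep2' h.toPre he hf hy fun hm =>
    hy0 (hyp_span heq hfq hef y hm (by rwa [polar_comm]) (by rwa [polar_comm]))
  refine ⟨e + w + (-Q w) • f, (D i).add_mem ((D i).add_mem he hw) ((D i).smul_mem _ hf), ?_, ?_⟩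
  · simp only [map_add', map_smul', polar_add_left, polar_smul_right, heq, hfq, hef, hew, polar_comm Q w f, hfw,
      smul_eq_mul]
    ring
  · simp only [polar_add_right, polar_smul_right, h1, h1', hyw, smul_zero, add_zero, zero_add]
    exact one_ne_zero

/-- the second difference of the moves of a member -/
theorem second_diff (h : Wide Q D) (hO : Over D H) {i : Fin t} {c d f x x' : V} (hcd : In H c d) (hf : f ∈ D i)
    (hx : x ∈ D i) (hx' : x' ∈ D i) (hfq : Q f = 0) (hfx : polar Q f x = 0) (hfx' : polar Q f x' = 0)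
    (hcf : polar Q c f = 0) (hcx : polar Q c x = 0) (hcx' : polar Q c x' = 0) (hdf : polar Q d f ≠ 0)
    (hxx : polar Q x x' ≠ 0) : In H c f := by
  have h1 := siegel h.toPre hO hcd hf hx hfq hfx hcf hcx
  have h2 := siegel h.toPre hO hcd hf hx' hfq hfx' hcf hcx'
  have h3 := siegel h.toPre hO hcd hf ((D i).add_mem hx hx') hfq (polar_perp_add hfx hfx') hcf
    (polar_perp_add hcx hcx')
  have h4 := (h1.add h2).sub h3
  have e : polar Q d x • f - polar Q d f • x - (Q x * polar Q d f) • f +
      (polar Q d x' • f - polar Q d f • x' - (Q x' * polar Q d f) • f) -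
      (polar Q d (x + x') • f - polar Q d f • (x + x') - (Q (x + x') * polar Q d f) • f) =
      (polar Q x x' * polar Q d f) • f := by
    rw [polar_add_right, map_add']; module
  rw [e] at h4
  exact h4.of_smul (mul_ne_zero hxx hdf)

/-- a parameter meeting a member perpendicular to the centre brings the whole member -/
theorem fill (h : Wide Q D) (hO : Over D H) {i : Fin t} {c d : V} (hcd : In H c d) (hc : pr h.toPre i c = 0)
    (hd : pr h.toPre i d ≠ 0) : ∀ y ∈ D i, In H c y := by
  have hperp := perp_of_pr h.toPre hc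
  -- a singular vector with non-zero product brings its perp in the member
  have key : ∀ {d : V}, In H c d → ∀ f ∈ D i, Q f = 0 → polar Q d f ≠ 0 →
      In H c f ∧ ∀ x ∈ D i, polar Q f x = 0 → In H c x := by
    intro d hcd f hf hfq hdf
    have hf0 : f ≠ 0 := fun e => hdf (by rw [e]; simp [polar])
    obtain ⟨g, hg, hgq, hfg⟩ := partner h.toPre hf hf0 hfq
    obtain ⟨a, ha, a', ha', hfa, -, hfa', -, haa⟩ := pairing h hf hg hfq hgq hfg
    have h3 := second_diff h hO hcd hf ha ha' hfq hfa hfa' (hperp f hf) (hperp a ha) (hperp a' ha') hdf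
      (by rw [haa]; exact one_ne_zero)
    refine ⟨h3, fun x hx hfx => ?_⟩
    have h4 := siegel h.toPre hO hcd hf hx hfq hfx (hperp f hf) (hperp x hx)
    have h5 := (h3.smul (polar Q d x - Q x * polar Q d f)).sub h4
    have e : (polar Q d x - Q x * polar Q d f) • f -
        (polar Q d x • f - polar Q d f • x - (Q x * polar Q d f) • f) = polar Q d f • x := by module
    rw [e] at h5
    exact h5.of_smul hdf
  obtain ⟨f, hf, hfq, hdf⟩ := sing_pairing h (pr_mem h.toPre i d) hd
  rw [pr_polar h.toPre i d hf] at hdf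
  have hf0 : f ≠ 0 := fun e => hdf (by rw [e]; simp [polar])
  obtain ⟨g, hg, hgq, hfg⟩ := partner h.toPre hf hf0 hfq
  have hcf := (key hcd f hf hfq hdf).1
  obtain ⟨-, hg'⟩ := key hcf g hg hgq (by rw [hfg]; exact one_ne_zero)
  intro y hy
  have h1 := (hg' _ ((D i).sub_mem hy ((D i).smul_mem (polar Q g y) hf))
    (by rw [polar_sub_right, polar_smul_right, polar_comm Q g f, hfg, smul_eq_mul, mul_one, sub_self])).add
    (hcf.smul (polar Q g y))
  rwa [sub_add_cancel] at h1

theorem Linked.move (h : Wide Q D) {i j : Fin t} (hl : Linked D H i j) {g : oG Q} (hg : g ∈ H)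
    {σ : Equiv.Perm (Fin t)} (hσ : Maps D g.1 σ) : Linked D H (σ i) (σ j) := by
  intro e he heq y hy
  have hmap : ∀ l, (D l).map g.1.toLinearMap = D (σ l) := fun l => map_eq_of_le (h.eqdim _ _) (hσ l)
  rw [← hmap] at he hy
  obtain ⟨e₀, he₀, rfl⟩ := he
  obtain ⟨y₀, hy₀, rfl⟩ := hy
  exact (hl e₀ he₀ (by rw [← g.2]; exact heq) y₀ hy₀).conj hg

theorem finish_linked (h : Wide Q D) (hO : Over D H) {n m : Fin t} (hnm : n ≠ m) (h1 : Linked D H n m)
    (h2 : Linked D H m n) : eo Q ≤ H := by
  let R : Fin t → Fin t → Prop := fun i j => Linked D H i j ∧ Linked D H j i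
  have hsym : ∀ {i j}, R i j → R j i := fun h => ⟨h.2, h.1⟩
  have tri : ∀ a b p, R a b → a ≠ b → p ≠ a → p ≠ b → R b p ∧ R p a := by
    intro a b p hab hne hpa hpb
    obtain ⟨g, hg, σ, hσ, e1, e2, e3⟩ := hO.cyc a b p hne (Ne.symm hpb) (Ne.symm hpa)
    have f1 : R b p := by
      have := And.intro (Linked.move h hab.1 hg hσ) (Linked.move h hab.2 hg hσ)
      rwa [e1, e2] at this
    have f2 : R p a := by
      have := And.intro (Linked.move h f1.1 hg hσ) (Linked.move h f1.2 hg hσ)
      rwa [e2, e3] at this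
    exact ⟨f1, f2⟩
  have hn : ∀ p, p ≠ n → R n p := fun p hp => by
    by_cases hpm : p = m
    · subst hpm; exact ⟨h1, h2⟩
    exact hsym (tri n m p ⟨h1, h2⟩ hnm hp hpm).2
  have hall : ∀ i j, i ≠ j → R i j := fun i j hij => by
    by_cases hi : i = n
    · subst hi; exact hn j (Ne.symm hij)
    by_cases hj : j = n
    · subst hj; exact hsym (hn i hi)
    exact (tri n i j (hn i hi) (Ne.symm hi) hj (Ne.symm hij)).1
  obtain ⟨e, he, he0, heq⟩ := exists_sing h n
  obtain ⟨f, hf, hfq, hef⟩ := partner h.toPre he he0 heq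
  have full : ∀ e ∈ D n, Q e = 0 → Full H e := by
    intro e he heq
    refine full_of_tS heq fun w hw => ?_
    rw [← sum_pr h.toPre w]
    refine Submodule.sum_mem _ fun j _ => ?_
    have hin : In H e (pr h.toPre j w) := by
      by_cases hj : j = n
      · subst hj
        exact block h.toPre hO he (pr_mem h.toPre j w) heq
          (by rw [polar_comm, pr_polar h.toPre j w he, polar_comm, hw])
      · exact (hall n j (Ne.symm hj)).1 e he heq _ (pr_mem h.toPre j w)
    exact hin.2
  refine eo_le h.nd ?_ (full e he heq) (full f hf hfq) (by rw [hef]; exact one_ne_zero)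
  have := h.dimV
  omega

/-- a singular parameter inside a member, the centre outside it -/
theorem sing_param (h : Wide Q D) (hO : Over D H) {i : Fin t} {c f : V} (hcf : In H c f) (hf : f ∈ D i)
    (hf0 : f ≠ 0) (hfq : Q f = 0) (hc : c ∉ D i) : eo Q ≤ H := by
  obtain ⟨m, hmi, hm⟩ := exists_pr_ne h.toPre hc
  have hDm := fill h hO (hcf.symm hfq) (pr_other h.toPre (Ne.symm hmi) hf) hm
  have l1 : Linked D H m i := fun e he heq =>
    fill h hO ((hDm e he).symm heq) (pr_other h.toPre hmi he) (by rwa [pr_same h.toPre hf])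
  obtain ⟨e₀, he₀, he₀0, he₀q⟩ := exists_sing h m
  have l2 : Linked D H i m := fun g hg hgq =>
    fill h hO ((l1 e₀ he₀ he₀q g hg).symm hgq) (pr_other h.toPre (Ne.symm hmi) hg) (by rwa [pr_same h.toPre he₀])
  exact finish_linked h hO hmi l1 l2

/-- the component of the centre is singular or zero -/
theorem singU (h : Wide Q D) (hO : Over D H) {i : Fin t} {c d : V} (hcd : In H c d) (hc : c ∉ D i)
    (hu : Q (pr h.toPre i c) = 0) (hd : pr h.toPre i d ∉ Submodule.span F ({pr h.toPre i c} : Set V)) :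
    eo Q ≤ H := by
  have hu' := pr_mem h.toPre i c
  by_cases h0 : pr h.toPre i c = 0
  · have hd0 : pr h.toPre i d ≠ 0 := ne_zero_of_notin hd
    obtain ⟨f, hf, hf0, hfq⟩ := exists_sing h i
    exact sing_param h hO (fill h hO hcd h0 hd0 f hf) hf hf0 hfq hc
  set u := pr h.toPre i c
  have hcu : ∀ {z : V}, z ∈ D i → polar Q u z = 0 → polar Q c z = 0 := fun {z} hz hz' => by
    rw [← pr_polar h.toPre i c hz]; exact hz'
  have huu : polar Q u u = 0 := by rw [polar_self', hu, mul_zero]
  refine sing_param h hO (f := u) ?_ hu' h0 hu hc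
  by_cases hb : polar Q d u = 0
  · obtain ⟨w, hw, huw, hdw⟩ := sep1 h.toPre hu' (pr_mem h.toPre i d) hd
    rw [pr_polar h.toPre i d hw] at hdw
    have := siegel h.toPre hO hcd hu' hw hu huw (hcu hu' huu) (hcu hw huw)
    rw [hdw, hb] at this
    simpa using this
  · obtain ⟨v, hv, hvq, huv⟩ := partner h.toPre hu' h0 hu
    obtain ⟨a, ha, a', ha', hua, -, hua', -, haa⟩ := pairing h hu' hv hu hvq huv
    exact second_diff h hO hcd hu' ha ha' hu hua hua' (hcu hu' huu) (hcu ha hua) (hcu ha' hua') hb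
      (by rw [haa]; exact one_ne_zero)

theorem two_eq_zero (hF : Nat.card F = 2) : (2 : F) = 0 := by
  have := Fintype.ofFinite F
  rw [Nat.card_eq_fintype_card] at hF
  have := FiniteField.cast_card_eq_zero F
  rw [hF] at this
  exact_mod_cast this

theorem eq_zero_or_one (hF : Nat.card F = 2) (a : F) : a = 0 ∨ a = 1 := by
  classical
  have := Fintype.ofFinite F
  rw [Nat.card_eq_fintype_card] at hF
  by_contra hn
  push Not at hn
  have h1 : ({0, 1, a} : Finset F).card ≤ Fintype.card F := Finset.card_le_univ _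
  rw [Finset.card_insert_of_notMem (by simp [hn.1.symm]), Finset.card_insert_of_notMem (by simp [hn.2.symm]),
    Finset.card_singleton] at h1
  omega

omit [Finite F] [FiniteDimensional F V] in
theorem indep {e a u : V} (heq : Q e = 0) (haq : Q a ≠ 0) (hea : polar Q e a = 0) (heu : polar Q e u ≠ 0)
    (β β' : F) : a - β' • u ∉ Submodule.span F ({e - β • u} : Set V) := fun hm => by
  obtain ⟨ρ, hρ⟩ := Submodule.mem_span_singleton.1 hm
  have h1 := congrArg (polar Q e) hρ
  simp only [polar_sub_right, polar_smul_right, smul_eq_mul, hea, polar_self', heq, mul_zero, zero_sub] at h1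
  have h2 : β' = ρ * β := mul_right_cancel₀ heu (by linear_combination h1)
  subst h2
  refine haq ?_
  have h3 : a = ρ • e := by linear_combination (norm := module) -hρ
  rw [h3, map_smul', heq, mul_zero]

/-- over two elements: an anisotropic parameter in another member -/
theorem trick (h : Wide Q D) (hO : Over D H) {n m : Fin t} {c W : V} (hF : Nat.card F = 2) (hcW : In H c W)
    (hW : W ∈ D n) (hWq : Q W = 1) (hmn : m ≠ n) (hu : Q (pr h.toPre m c) ≠ 0)
    (hne : W + pr h.toPre n c ≠ 0 ∨ ∃ l, l ≠ n ∧ l ≠ m ∧ pr h.toPre l c ≠ 0) : eo Q ≤ H := by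
  have h2 := two_eq_zero (F := F) hF
  have hu' := pr_mem h.toPre m c
  have hu0 : pr h.toPre m c ≠ 0 := fun e => hu (by rw [e, map_zero])
  obtain ⟨e, he, heq, hue⟩ := sing_pairing h hu' hu0
  have hue1 := (eq_zero_or_one hF (polar Q (pr h.toPre m c) e)).resolve_left hue
  have he0 : e ≠ 0 := fun e' => hue (by rw [e']; simp [polar])
  obtain ⟨a, ha, hea, haq⟩ := aniso_sing h he he0 heq
  have hd := (block h.toPre hO he ha heq hea).conj (hcW.mem hcW.sing hcW.perp)
  set g := sO hcW.sing hcW.perp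
  have hgy : ∀ y ∈ D m, g.1 y = y - polar Q (pr h.toPre m c) y • (W + c) := fun y hy => by
    rw [sO_apply, h.perp m n hmn y hy W hW, polar_comm Q y c, ← pr_polar h.toPre m c hy, hWq]
    module
  have hprm : ∀ y ∈ D m, pr h.toPre m (g.1 y) = y - polar Q (pr h.toPre m c) y • pr h.toPre m c := fun y hy => by
    rw [hgy y hy, map_sub, map_smul, map_add, pr_same h.toPre hy, pr_other h.toPre hmn.symm hW, zero_add]
  refine singU h hO hd (fun hm => ?_) ?_ ?_ (i := m)
  · rcases hne with hne | ⟨l, hln, hlm, hl⟩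
    · refine hne ?_
      have h1 : pr h.toPre n (g.1 e) = 0 := pr_other h.toPre hmn hm
      rw [hgy e he, map_sub, map_smul, map_add, pr_same h.toPre hW, pr_other h.toPre hmn he, hue1, one_smul,
        zero_sub, neg_eq_zero] at h1
      exact h1
    · refine hl ?_
      have h1 : pr h.toPre l (g.1 e) = 0 := pr_other h.toPre hlm.symm hm
      rw [hgy e he, map_sub, map_smul, map_add, pr_other h.toPre hln.symm hW, pr_other h.toPre hlm.symm he, hue1,
        one_smul, zero_sub, neg_eq_zero, zero_add] at h1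
      exact h1
  · rw [hprm e he, hue1, sub_eq_add_neg, ← neg_smul, map_add_smul, heq,
      (eq_zero_or_one hF (Q (pr h.toPre m c))).resolve_left hu, polar_comm Q e, hue1]
    ring
  · rw [hprm e he, hprm a ha]
    exact indep heq haq hea (by rwa [polar_comm]) _ _

/-- anisotropic component: a singular perpendicular vector brings one into the parameters, or the field has two
elements and the parameter is special -/
theorem anisoU (h : Wide Q D) (hO : Over D H) {i : Fin t} {c d : V} (hcd : In H c d) (hc : c ∉ D i)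
    (hu : Q (pr h.toPre i c) ≠ 0) (hd : pr h.toPre i d ∉ Submodule.span F ({pr h.toPre i c} : Set V)) :
    eo Q ≤ H ∨ (Nat.card F = 2 ∧ ¬ (∀ j, 5 ≤ finrank F (D j)) ∧
      ∃ f ∈ D i, Q f = 0 ∧ polar Q (pr h.toPre i c) f = 0 ∧ polar Q d f = 1) := by
  have hu' := pr_mem h.toPre i c
  set u := pr h.toPre i c
  have hcu : ∀ {z : V}, z ∈ D i → polar Q u z = 0 → polar Q c z = 0 := fun {z} hz hz' => by
    rw [← pr_polar h.toPre i c hz]; exact hz'
  have notu : ∀ {f : V}, f ≠ 0 → Q f = 0 → f ∉ Submodule.span F ({u} : Set V) := fun {f} hf0 hfq hm => by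
    obtain ⟨a, rfl⟩ := Submodule.mem_span_singleton.1 hm
    rw [map_smul'] at hfq
    have : a = 0 := by simpa [hu] using hfq
    exact hf0 (by rw [this, zero_smul])
  obtain ⟨f₀, hf₀, hf₀0, hf₀q, huf₀⟩ := exists_sing_perp h i u
  by_cases hex : ∃ f ∈ D i, f ≠ 0 ∧ Q f = 0 ∧ polar Q u f = 0 ∧ polar Q d f ≠ 0
  swap
  · left
    push Not at hex
    obtain ⟨g, hg, hgq, hug, hfg⟩ := partner' h.toPre hu' hf₀ hf₀q huf₀ (notu hf₀0 hf₀q)
    have hdf := hex f₀ hf₀ hf₀0 hf₀q huf₀
    by_cases hsp : pr h.toPre i d ∈ Submodule.span F ({u, f₀} : Set V)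
    · exfalso
      obtain ⟨α, β, hab⟩ := Submodule.mem_span_pair.1 hsp
      have h1 := hex g hg (fun e => by rw [e] at hfg; simp [polar] at hfg) hgq hug
      rw [← pr_polar h.toPre i d hg, ← hab, polar_add_left, polar_smul_left, polar_smul_left, hug, hfg] at h1
      have hβ : β = 0 := by simpa using h1
      exact hd (Submodule.mem_span_singleton.2 ⟨α, by rw [← hab, hβ, zero_smul, add_zero]⟩)
    · obtain ⟨w, hw, huw, hfw, hdw⟩ := sep2' h.toPre hu' hf₀ (pr_mem h.toPre i d) hsp
      rw [pr_polar h.toPre i d hw] at hdw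
      have := siegel h.toPre hO hcd hf₀ hw hf₀q hfw (hcu hf₀ huf₀) (hcu hw huw)
      rw [hdw, hdf] at this
      exact sing_param h hO (by simpa using this) hf₀ hf₀0 hf₀q hc
  obtain ⟨f, hf, hf0, hfq, huf, hdf⟩ := hex
  by_cases hp : ∃ x ∈ D i, ∃ x' ∈ D i, polar Q u x = 0 ∧ polar Q f x = 0 ∧ polar Q u x' = 0 ∧ polar Q f x' = 0 ∧
      polar Q x x' ≠ 0
  · obtain ⟨x, hx, x', hx', hux, hfx, hux', hfx', hxx⟩ := hp
    exact Or.inl (sing_param h hO (second_diff h hO hcd hf hx hx' hfq hfx hfx' (hcu hf huf) (hcu hx hux)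
      (hcu hx' hux') hdf hxx) hf hf0 hfq hc)
  push Not at hp
  obtain ⟨g, hg, hgq, hug, hfg⟩ := partner' h.toPre hu' hf hfq huf (notu hf0 hfq)
  have hsub : ∀ z ∈ D i, polar Q u z = 0 → polar Q f z = 0 → z ∈ Submodule.span F ({u, f} : Set V) :=
    fun z hz hz1 hz2 => by_contra fun hn => by
      obtain ⟨w, hw, huw, hfw, hzw⟩ := sep2' h.toPre hu' hf hz hn
      have := hp z hz w hw hz1 hz2 huw hfw
      rw [hzw] at this
      exact one_ne_zero this
  have hinu : ∀ z ∈ D i, polar Q u z = 0 → polar Q f z = 0 → polar Q g z = 0 →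
      ∃ a : F, a • u = z := fun z hz hz1 hz2 hz3 => by
    obtain ⟨a, b, hab⟩ := Submodule.mem_span_pair.1 (hsub z hz hz1 hz2)
    rw [← hab, polar_add_right, polar_smul_right, polar_smul_right, polar_comm Q g u, hug, polar_comm Q g f, hfg] at hz3
    exact ⟨a, by rw [← hab, show b = 0 by simpa using hz3, zero_smul, add_zero]⟩
  obtain ⟨z, hz, hz0, hz1, hz2, hz3⟩ := exists_perp_three h i u f g
  obtain ⟨a, haz⟩ := hinu z hz hz1 hz2 hz3
  have h2 : (2 : F) = 0 := by
    rw [← haz, polar_smul_right, polar_self', smul_eq_mul, mul_eq_zero, mul_eq_zero] at hz1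
    rcases hz1 with h | h | h
    · exact absurd (by rw [← haz, h, zero_smul]) hz0
    · exact h
    · exact absurd h hu
  have huu : polar Q u u = 0 := by rw [polar_self', h2, zero_mul]
  have hfu : polar Q f u = 0 := by rwa [polar_comm]
  have hL := siegel h.toPre hO hcd hf hu' hfq hfu (hcu hf huf) (hcu hu' huu)
  by_cases hq : Nat.card F = 2
  swap
  · obtain ⟨s, hs0, hs1⟩ := exists_ne_two_values hq (1 : F)
    have hLs := siegel h.toPre hO hcd hf ((D i).smul_mem s hu') hfq (polar_perp_smul hfu s) (hcu hf huf)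
      (hcu ((D i).smul_mem s hu') (polar_perp_smul huu s))
    have h3 := hLs.sub (hL.smul s)
    have e : polar Q d (s • u) • f - polar Q d f • (s • u) - (Q (s • u) * polar Q d f) • f -
        s • (polar Q d u • f - polar Q d f • u - (Q u * polar Q d f) • f) =
        ((s - s * s) * Q u * polar Q d f) • f := by
      rw [polar_smul_right, map_smul', smul_eq_mul]; module
    rw [e] at h3
    refine Or.inl (sing_param h hO (h3.of_smul (mul_ne_zero (mul_ne_zero ?_ hu) hdf)) hf hf0 hfq hc)
    intro e0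
    exact hs1 (mul_left_cancel₀ hs0 (by linear_combination -e0))
  refine Or.inr ⟨hq, fun h5 => ?_, f, hf, hfq, huf, (eq_zero_or_one hq _).resolve_left hdf⟩
  let L : D i →ₗ[F] (Fin 3 → F) :=
    LinearMap.pi ![(polarBilin Q u).comp (D i).subtype, (polarBilin Q f).comp (D i).subtype,
      (polarBilin Q g).comp (D i).subtype]
  have h6 := L.finrank_range_add_finrank_ker
  have h7 := (Submodule.finrank_le (LinearMap.range L)).trans_eq (finrank_fintype_fun_eq_card F)
  rw [Fintype.card_fin] at h7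
  have h8 : (LinearMap.ker L).map (D i).subtype ≤ Submodule.span F ({u} : Set V) := by
    rintro _ ⟨w, hw, rfl⟩
    have hw' := LinearMap.mem_ker.1 hw
    exact Submodule.mem_span_singleton.2 (hinu w w.2 (congrFun hw' 0) (congrFun hw' 1) (congrFun hw' 2))
  have h9 := Submodule.finrank_mono h8
  rw [← (Submodule.equivMapOfInjective (D i).subtype (D i).injective_subtype (LinearMap.ker L)).finrank_eq,
    finrank_span_singleton (fun e => hu (by rw [e, map_zero]))] at h9
  have := h5 i
  omega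

end Cfsg.Agent.ClassicalMax.DecAny
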