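import Cfsg.Agent.ClassicalMax.DecAny.Wide

/-!
An overgroup of the stabiliser of a decomposition into members of dimension at least four containing an element not
permuting the members is everything.
-/

set_option autoImplicit false
set_option linter.unusedSectionVars false
set_option linter.style.haveILetI false

namespace Cfsg.Agent.ClassicalMax.DecAny

open Module QuadraticMap Cfsg.Agent.Classical Cfsg.Agent.Classical.Quad Cfsg.Agent.ClassicalMax.RootPlanes
open Cfsg.Agent.ClassicalMax.DecOrth (In Maps Over hyp_span)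

variable {F V : Type*} [Field F] [Finite F] [AddCommGroup V] [Module F V] [FiniteDimensional F V]
  {Q : QuadraticForm F V} {t : ℕ} {D : Fin t → Submodule F V} {H : Subgroup (oG Q)}

/-- over two elements: a special component of a parameter of value one is impossible -/
theorem special (h : Wide Q D) (hO : Over D H) (hF : Nat.card F = 2) {j l : Fin t} (hlj : l ≠ j) {c d : V}
    (hcd : In H c d) (hd : Q d ≠ 0) (hu : Q (pr h.toPre j c) ≠ 0) (hdu : polar Q d (pr h.toPre j c) = 1)
    (hdl : polar Q d (pr h.toPre l c) = 1) (hdj : Q (pr h.toPre j d) ≠ 0) : eo Q ≤ H := by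
  have h2 := two_eq_zero (F := F) hF
  have hu' := pr_mem h.toPre j c
  have hdj' := pr_mem h.toPre j d
  set u := pr h.toPre j c with hudef
  set w := pr h.toPre j d with hwdef
  have hu1 := (eq_zero_or_one hF _).resolve_left hu
  have hw1 := (eq_zero_or_one hF _).resolve_left hdj
  have hd1 := (eq_zero_or_one hF _).resolve_left hd
  have hwu : polar Q w u = 1 := by rw [hwdef, pr_polar h.toPre j d hu', hdu]
  have huu : polar Q u u = 0 := by rw [polar_self', h2, zero_mul]
  have hww : polar Q w w = 0 := by rw [polar_self', h2, zero_mul]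
  obtain ⟨a, ha, hua, hwa, haq⟩ : ∃ a ∈ D j, polar Q u a = 0 ∧ polar Q w a = 0 ∧ Q a = 1 := by
    obtain ⟨z, hz, hz0, huz, hwz, -⟩ := exists_perp_three h j u w w
    by_cases hzq : Q z = 0
    swap
    · exact ⟨z, hz, huz, hwz, (eq_zero_or_one hF _).resolve_left hzq⟩
    obtain ⟨z', hz', huz', hwz', hzz⟩ := sep2' h.toPre hu' hdj' hz fun hm => by
      obtain ⟨α, β, hab⟩ := Submodule.mem_span_pair.1 hm
      rw [← hab, polar_add_right, polar_smul_right, polar_smul_right, huu, polar_comm Q u w, hwu] at huz
      rw [← hab, polar_add_right, polar_smul_right, polar_smul_right, hww, hwu] at hwz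
      have hα : α = 0 := by simpa using hwz
      have hβ : β = 0 := by simpa using huz
      exact hz0 (by rw [← hab, hα, hβ, zero_smul, zero_smul, add_zero])
    by_cases hzq' : Q z' = 0
    swap
    · exact ⟨z', hz', huz', hwz', (eq_zero_or_one hF _).resolve_left hzq'⟩
    exact ⟨z + z', (D j).add_mem hz hz', polar_perp_add huz huz', polar_perp_add hwz hwz',
      by rw [map_add', hzq, hzq', hzz, zero_add, zero_add]⟩
  have hae : polar Q (w + a) a = 0 := by rw [polar_add_left, hwa, polar_self', h2, zero_mul, zero_add]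
  have heq : Q (w + a) = 0 := by rw [map_add', hw1, haq, hwa]; linear_combination h2
  have hIn := (block h.toPre hO ((D j).add_mem hdj' ha) ha heq hae).conj (hcd.mem hcd.sing hcd.perp)
  set g := sO hcd.sing hcd.perp with hg
  have hc : ∀ y ∈ D j, polar Q y c = polar Q u y := fun y hy => by rw [polar_comm, hudef, pr_polar h.toPre j c hy]
  have hdd : ∀ y ∈ D j, polar Q y d = polar Q w y := fun y hy => by rw [polar_comm, hwdef, pr_polar h.toPre j d hy]
  have hga : g.1 a = a := by
    rw [hg, sO_apply, hc a ha, hdd a ha, hua, hwa]; simp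
  have hn1 : ∀ x : V, -x = x := fun x => by
    have : x + x = 0 := by rw [← two_smul F, h2, zero_smul]
    exact neg_eq_of_add_eq_zero_left this
  have hge : g.1 (w + a) = w + a + d + c := by
    rw [hg, sO_apply, hc _ ((D j).add_mem hdj' ha), hdd _ ((D j).add_mem hdj' ha), polar_add_right, polar_add_right,
      hww, hwa, hua, polar_comm Q u w, hwu, hd1]
    simp [hn1]
  rw [hga] at hIn
  refine singU h hO hIn (i := j) (fun hm => ?_) ?_ ?_
  · have h1 : pr h.toPre l (g.1 (w + a)) = 0 := pr_other h.toPre hlj.symm hm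
    rw [hge, map_add, map_add, pr_other h.toPre hlj.symm ((D j).add_mem hdj' ha), zero_add] at h1
    have h3 := congrArg (fun z => polar Q z (pr h.toPre l c)) h1
    simp only [polar_add_left, pr_polar h.toPre l d (pr_mem h.toPre l c), hdl, polar_self', h2, zero_mul, add_zero] at h3
    simp [polar] at h3
  · rw [hge, map_add (pr h.toPre j), map_add (pr h.toPre j), pr_same h.toPre ((D j).add_mem hdj' ha), ← hwdef, ← hudef,
      show w + a + w + u = a + u + (w + w) by abel, show w + w = 0 by rw [← two_smul F, h2, zero_smul], add_zero,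
      map_add', haq, hu1, polar_comm Q a u, hua]
    linear_combination h2
  · rw [pr_same h.toPre ha, hge, map_add, map_add, pr_same h.toPre ((D j).add_mem hdj' ha), ← hwdef, ← hudef,
      show w + a + w + u = a + u + (w + w) by abel, show w + w = 0 by rw [← two_smul F, h2, zero_smul], add_zero]
    intro hm
    obtain ⟨β, hβ⟩ := Submodule.mem_span_singleton.1 hm
    rcases eq_zero_or_one hF β with e | e <;> rw [e] at hβ
    · rw [zero_smul] at hβ; rw [← hβ, map_zero] at haq; exact zero_ne_one haq
    · rw [one_smul, add_eq_left] at hβ; exact hu (by rw [hβ, map_zero])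

/-- independent components in one member -/
theorem good (h : Wide Q D) (hO : Over D H) {i : Fin t} {c d : V} (hcd : In H c d) (hc : c ∉ D i)
    (hA : Adm Q D d) (hd : pr h.toPre i d ∉ Submodule.span F ({pr h.toPre i c} : Set V)) : eo Q ≤ H := by
  by_cases hu : Q (pr h.toPre i c) = 0
  · exact singU h hO hcd hc hu hd
  rcases anisoU h hO hcd hc hu hd with hdone | ⟨hF, h5, f, hf, hfq, huf, hdf⟩
  · exact hdone
  have hQd : Q d ≠ 0 := hA.resolve_right fun hn => hn.elim (fun h' => h' hF) h5
  have h2 := two_eq_zero (F := F) hF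
  have hu' := pr_mem h.toPre i c
  set u := pr h.toPre i c with hudef
  have huu : polar Q u u = 0 := by rw [polar_self', h2, zero_mul]
  have hcu : ∀ {z : V}, z ∈ D i → polar Q u z = 0 → polar Q c z = 0 := fun {z} hz hz' => by
    rw [← pr_polar h.toPre i c hz]; exact hz'
  have hu1 := (eq_zero_or_one hF _).resolve_left hu
  have hL := siegel h.toPre hO hcd hf hu' hfq (by rwa [polar_comm]) (hcu hf huf) (hcu hu' huu)
  rw [hdf, hu1] at hL
  obtain ⟨m, hmi, hm⟩ := exists_other_aniso h.toPre hcd.sing hu
  have hWi : polar Q d u • f - (1 : F) • u - ((1 : F) * 1) • f ∈ D i :=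
    (D i).sub_mem ((D i).sub_mem ((D i).smul_mem _ hf) ((D i).smul_mem _ hu')) ((D i).smul_mem _ hf)
  have hn1 : (-1 : F) = 1 := by linear_combination -h2
  rcases eq_or_ne (polar Q d u) 0 with hdu | hdu
  · have e : polar Q d u • f - (1 : F) • u - ((1 : F) * 1) • f = f + u := by
      rw [hdu]
      have : ∀ x : V, -x = x := fun x => by rw [← neg_one_smul F, hn1, one_smul]
      rw [show (0 : F) • f - (1 : F) • u - ((1 : F) * 1) • f = -(f + u) by module]
      exact this _
    rw [e] at hL hWi
    refine trick h hO hF hL hWi ?_ hmi hm (Or.inl fun e' => ?_)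
    · rw [map_add', hfq, hu1, polar_comm Q f u, huf]; ring
    · have e'' : f + (2 : F) • u = 0 := by rw [two_smul, ← add_assoc]; exact e'
      rw [h2, zero_smul, add_zero] at e''
      rw [e''] at hdf
      simp [polar] at hdf
  have hdu1 := (eq_zero_or_one hF _).resolve_left hdu
  have e : polar Q d u • f - (1 : F) • u - ((1 : F) * 1) • f = u := by
    have : -u = u := by rw [← neg_one_smul F, hn1, one_smul]
    rw [hdu1]; simp only [mul_one, one_smul]
    rw [show f - u - f = -u by abel, this]
  rw [e] at hL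
  by_cases hthird : ∃ l, l ≠ i ∧ l ≠ m ∧ pr h.toPre l c ≠ 0
  · exact trick h hO hF hL hu' hu1 hmi hm (Or.inr hthird)
  push Not at hthird
  by_contra hno
  have hd0 : ∀ l, l ≠ i → l ≠ m → pr h.toPre l d = 0 := fun l h1 h2' => by_contra fun hne => by
    obtain ⟨e, he, he0, heq⟩ := exists_sing h l
    refine hno (sing_param h hO (fill h hO hcd (hthird l h1 h2') hne e he) he he0 heq fun hm' => ?_)
    exact hu (by rw [hudef, pr_other h.toPre h1 hm', map_zero])
  have hsum : polar Q d u + polar Q d (pr h.toPre m c) = 0 := by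
    have h1 : polar Q d c = 0 := by rw [polar_comm]; exact hcd.perp
    conv_lhs at h1 => rw [← sum_pr h.toPre c]
    rw [← polarBilin_apply_apply, map_sum, Fintype.sum_eq_add i m hmi.symm (fun l hl => by
      rw [hthird l hl.1 hl.2, map_zero])] at h1
    exact h1
  have hdm : polar Q d (pr h.toPre m c) = 1 := by rw [hdu1] at hsum; linear_combination hsum - h2
  have q1 : Q (pr h.toPre i d) = 0 := by_contra fun hq => hno (special h hO hF hmi hcd hQd hu hdu1 hdm hq)
  have q2 : Q (pr h.toPre m d) = 0 := by_contra fun hq => hno (special h hO hF hmi.symm hcd hQd hm hdm hdu1 hq)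
  refine hQd ?_
  rw [Q_eq_sum h.toPre d, Fintype.sum_eq_add i m hmi.symm (fun l hl => by rw [hd0 l hl.1 hl.2, map_zero]), q1, q2,
    add_zero]

/-- centre and parameter lie in one member, or the parameter is spanned by the centre and one of its components -/
theorem same_member (h : Wide Q D) (hO : Over D H) (hno : ¬ eo Q ≤ H) {c d : V} (hcd : In H c d) (hA : Adm Q D d)
    (hc0 : c ≠ 0) : (∀ l, c ∈ D l → d ∈ D l) ∧
      ((∀ l, c ∉ D l) → ∀ n, pr h.toPre n c ≠ 0 → d ∈ Submodule.span F ({c, pr h.toPre n c} : Set V)) := by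
  have star : ∀ {c d : V}, In H c d → Adm Q D d → ∀ i, c ∉ D i →
      pr h.toPre i d ∈ Submodule.span F ({pr h.toPre i c} : Set V) :=
    fun {c d} hcd hA i hc => by_contra fun hn => hno (good h hO hcd hc hA hn)
  refine ⟨fun l hl => mem_of_pr h.toPre fun j hj => ?_, fun hblock n hn => ?_⟩
  · have := star hcd hA j fun hm => hc0 (eq_zero_of_two h.toPre (Ne.symm hj) hl hm)
    rw [pr_other h.toPre (Ne.symm hj) hl] at this
    simpa using this
  have hlam : ∀ i, ∃ a : F, a • pr h.toPre i c = pr h.toPre i d := fun i =>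
    Submodule.mem_span_singleton.1 (star hcd hA i (hblock i))
  choose lam hlam using hlam
  have key : ∀ l n, n ≠ l → pr h.toPre l c ≠ 0 → pr h.toPre n c ≠ 0 → lam n = lam l - Q d := by
    intro l n hnl hl hn
    have hu := pr_mem h.toPre l c
    set u := pr h.toPre l c with hudef
    obtain ⟨e, he, heq, hue⟩ := sing_pairing h hu hl
    have he0 : e ≠ 0 := fun e' => hue (by rw [e']; simp [polar])
    obtain ⟨a, ha, hea, haq⟩ := aniso_sing h he he0 heq
    have hdd := (block h.toPre hO he ha heq hea).conj (hcd.mem hcd.sing hcd.perp)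
    set g := sO hcd.sing hcd.perp
    have hc' : ∀ y ∈ D l, polar Q y c = polar Q u y := fun y hy => by
      rw [polar_comm, hudef, pr_polar h.toPre l c hy]
    have hd' : ∀ y ∈ D l, polar Q y d = lam l * polar Q u y := fun y hy => by
      rw [polar_comm, ← pr_polar h.toPre l d hy, ← hlam l, polar_smul_left, smul_eq_mul, hudef]
    have hgy : ∀ y ∈ D l, g.1 y = y + (lam l * polar Q u y) • c + (-polar Q u y) • d + (-(Q d * polar Q u y)) • c :=
      fun y hy => by rw [sO_apply, hd' y hy, hc' y hy]
    have hpr : ∀ y ∈ D l, pr h.toPre l (g.1 y) = y - (polar Q u y * Q d) • u := fun y hy => by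
      rw [hgy y hy, map_add, map_add, map_add, map_smul, map_smul, map_smul, pr_same h.toPre hy, ← hlam l, ← hudef]
      module
    have hmem : g.1 e ∈ D l := by
      by_contra hnm
      have h1 := star hdd (Or.inl (by rw [g.2]; exact haq)) l hnm
      rw [hpr e he, hpr a ha] at h1
      exact indep heq haq hea (by rwa [polar_comm]) _ _ h1
    have h2 : pr h.toPre n (g.1 e) = 0 := pr_other h.toPre (Ne.symm hnl) hmem
    rw [hgy e he, map_add, map_add, map_add, map_smul, map_smul, map_smul, pr_other h.toPre (Ne.symm hnl) he,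
      ← hlam n, zero_add, smul_smul, ← add_smul, ← add_smul, smul_eq_zero] at h2
    have h3 := h2.resolve_right hn
    have h4 : polar Q u e * (lam l - lam n - Q d) = 0 := by linear_combination h3
    linear_combination -((mul_eq_zero.1 h4).resolve_left hue)
  obtain ⟨l, hln, hl⟩ := exists_pr_ne h.toPre (hblock n)
  have h1 := key l n (Ne.symm hln) hl hn
  have h2 : 2 * Q d = 0 := by
    linear_combination key l n (Ne.symm hln) hl hn + key n l hln hn hl
  refine Submodule.mem_span_pair.2 ⟨lam l, -Q d, ext_pr h.toPre fun j => ?_⟩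
  rw [map_add, map_smul, map_smul, ← hlam j]
  by_cases hjn : j = n
  · subst hjn
    rw [pr_same h.toPre (pr_mem h.toPre j c), ← add_smul, h1, sub_eq_add_neg]
  rw [pr_other h.toPre (Ne.symm hjn) (pr_mem h.toPre n c), smul_zero, add_zero]
  by_cases hjl : j = l
  · rw [hjl]
  by_cases hj : pr h.toPre j c = 0
  · rw [hj, smul_zero, smul_zero]
  have h3 := key l j hjl hl hj
  have h4 := key n j hjn hn hj
  have hQd : Q d = 0 := by linear_combination h4 + h1 - h3
  rw [h3, hQd, sub_zero]

/-- the main theorem on overgroups -/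
theorem overgroup_wide (h : Wide Q D) (hO : Over D H) {g : oG Q} (hg : g ∈ H)
    (hgS : ¬ ∃ σ : Equiv.Perm (Fin t), ∀ i, (D i).map g.1.toLinearMap = D (σ i)) : eo Q ≤ H := by
  by_contra hno
  refine hgS ?_
  have hto₀ : ∀ j, (Nat.card F ≠ 2 ∨ (∀ i, 5 ≤ finrank F (D i)) ∨ NoPlane Q (D j)) →
      ∃ l, ∀ y ∈ D j, g.1 y ∈ D l := by
    intro j hcond
    have point : ∀ e ∈ D j, e ≠ 0 → Q e = 0 → ∃ l, g.1 e ∈ D l ∧ ∀ w ∈ D j, polar Q e w = 0 → g.1 w ∈ D l := by
      intro e he he0 heq
      have hge : g.1 e ≠ 0 := fun e' => he0 (g.1.map_eq_zero_iff.1 e')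
      have adm : ∀ w ∈ D j, polar Q e w = 0 → w ∉ Submodule.span F ({e} : Set V) → Adm Q D (g.1 w) := by
        intro w hw hew hwe
        rcases hcond with hs | hs | hs
        · exact Or.inr (Or.inl hs)
        · exact Or.inr (Or.inr hs)
        · exact Or.inl fun hq => hwe (hs e he w hw he0 heq (by rw [← g.2]; exact hq) hew)
      have hsm : ∀ w ∈ D j, polar Q e w = 0 → w ∉ Submodule.span F ({e} : Set V) →
          (∀ l, g.1 e ∈ D l → g.1 w ∈ D l) ∧ ((∀ l, g.1 e ∉ D l) → ∀ n, pr h.toPre n (g.1 e) ≠ 0 →
            g.1 w ∈ Submodule.span F ({g.1 e, pr h.toPre n (g.1 e)} : Set V)) := fun w hw hew hwe =>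
        same_member h hO hno ((block h.toPre hO he hw heq hew).conj hg) (adm w hw hew hwe) hge
      by_cases hbl : ∃ l, g.1 e ∈ D l
      · obtain ⟨l, hl⟩ := hbl
        refine ⟨l, hl, fun w hw hew => ?_⟩
        by_cases hwe : w ∈ Submodule.span F ({e} : Set V)
        · obtain ⟨r, rfl⟩ := Submodule.mem_span_singleton.1 hwe
          rw [map_smul]; exact (D l).smul_mem r hl
        exact (hsm w hw hew hwe).1 l hl
      exfalso
      push Not at hbl
      obtain ⟨n, hn⟩ : ∃ n, pr h.toPre n (g.1 e) ≠ 0 := by
        by_contra hn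
        push Not at hn
        exact hge (ext_pr h.toPre fun i => by rw [hn i, map_zero])
      let S : Submodule F V := D j ⊓ LinearMap.ker (polarBilin Q e)
      have hS : S.map g.1.toLinearMap ≤ Submodule.span F ({g.1 e, pr h.toPre n (g.1 e)} : Set V) := by
        rintro _ ⟨w, ⟨hw, hew⟩, rfl⟩
        by_cases hwe : w ∈ Submodule.span F ({e} : Set V)
        · obtain ⟨r, rfl⟩ := Submodule.mem_span_singleton.1 hwe
          rw [LinearEquiv.coe_coe, map_smul]
          exact Submodule.smul_mem _ r (Submodule.subset_span (Or.inl rfl))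
        exact (hsm w hw hew hwe).2 hbl n hn
      have h1 := Submodule.finrank_mono hS
      rw [LinearEquiv.finrank_map_eq] at h1
      classical
      have h2 := finrank_span_le_card (R := F) ({g.1 e, pr h.toPre n (g.1 e)} : Set V)
      rw [Set.toFinset_insert, Set.toFinset_singleton] at h2
      have h3 := Finset.card_le_two (a := g.1 e) (b := pr h.toPre n (g.1 e))
      have h4 := Submodule.finrank_sup_add_finrank_inf_eq (D j) (LinearMap.ker (polarBilin Q e))
      have h5 := Submodule.finrank_le (D j ⊔ LinearMap.ker (polarBilin Q e))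
      have h6 := (polarBilin Q e).finrank_range_add_finrank_ker
      have h7 := (Submodule.finrank_le (LinearMap.range (polarBilin Q e))).trans_eq (Module.finrank_self F)
      have h8 := h.dim j
      simp only [S] at h1
      omega
    obtain ⟨e, he, he0, heq⟩ := exists_sing h j
    obtain ⟨f, hf, hfq, hef⟩ := partner h.toPre he he0 heq
    have hf0 : f ≠ 0 := fun e' => by rw [e'] at hef; simp [polar] at hef
    obtain ⟨l, hle, hl⟩ := point e he he0 heq
    obtain ⟨l', hlf, hl'⟩ := point f hf hf0 hfq
    obtain ⟨w, hw, hw0, hew, hfw, -⟩ := exists_perp_three h j e f f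
    have hgw : g.1 w ≠ 0 := fun e' => hw0 (g.1.map_eq_zero_iff.1 e')
    obtain rfl : l = l' :=
      by_contra fun hne => hgw (eq_zero_of_two h.toPre hne (hl w hw hew) (hl' w hw hfw))
    refine ⟨l, fun y hy => ?_⟩
    have h1 := hl (y - polar Q e y • f) ((D j).sub_mem hy ((D j).smul_mem _ hf))
      (by rw [polar_sub_right, polar_smul_right, hef, smul_eq_mul, mul_one, sub_self])
    have h2 := (D l).add_mem h1 ((D l).smul_mem (polar Q e y) hlf)
    rwa [map_sub, map_smul, sub_add_cancel] at h2
  have hto : ∀ j, ∃ l, ∀ y ∈ D j, g.1 y ∈ D l := fun j => by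
    rcases h.small with hs | hs | hs | ⟨ht, i, hi⟩
    · exact hto₀ j (Or.inl hs)
    · exact hto₀ j (Or.inr (Or.inl hs))
    · exact hto₀ j (Or.inr (Or.inr (hs j)))
    by_cases hji : j = i
    · exact hto₀ j (Or.inr (Or.inr (hji ▸ hi)))
    obtain ⟨l, hl⟩ := hto₀ i (Or.inr (Or.inr hi))
    have hmap : (D i).map g.1.toLinearMap = D l := map_eq_of_le (h.eqdim _ _) hl
    subst ht
    refine ⟨1 - l, fun y hy => mem_of_pr h.toPre fun m hm => ?_⟩
    obtain rfl : m = l := by omega
    refine pr_unique h.toPre (zero_mem _) fun z hz => ?_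
    rw [← hmap] at hz
    obtain ⟨z₀, hz₀, rfl⟩ := hz
    rw [LinearEquiv.coe_coe, polar_oG, h.perp j i hji y hy z₀ hz₀]
    simp [polar]
  choose σ hσ using hto
  have hmap : ∀ i, (D i).map g.1.toLinearMap = D (σ i) := fun i => map_eq_of_le (h.eqdim _ _) (hσ i)
  have hinj : Function.Injective σ := fun i i' e => by
    by_contra hne
    have : D i = D i' := Submodule.map_injective_of_injective (f := g.1.toLinearMap) g.1.injective (by rw [hmap, hmap, e])
    obtain ⟨x, hx, hx0, -⟩ := exists_sing h i
    exact hx0 (eq_zero_of_two h.toPre hne hx (this ▸ hx))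
  exact ⟨Equiv.ofBijective σ hinj.bijective_of_finite, hmap⟩

end Cfsg.Agent.ClassicalMax.DecAny
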